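import Mathlib
import Cfsg.Agent.Chars.Construct
import Cfsg.Agent.Chars.Values

/-!
# Two-groups which are dihedral modulo their central involution

`σ` has order `4 g` and index two, and modulo `⟨σ ^ (2 g)⟩` the element `τ` is an involution
inverting `σ`. The coherent rows only need generalized characters on such a group with the
properties collected in `PsiData`.
-/

set_option autoImplicit false
set_option linter.unusedSectionVars false
set_option linter.style.haveILetI false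

namespace Cfsg.Lib.Blocks.QuaternionDefect

open Cfsg Cfsg.Lib.Chars
open scoped ComplexConjugate

universe u v

/-- Two elements of order four in a cyclic group generate the same subgroup. -/
lemma zpowers_four_eq {G : Type u} [Group G] [Finite G] {s y y' : G} (hy : orderOf y = 4)
    (hy' : orderOf y' = 4) (h : y ∈ Subgroup.zpowers s) (h' : y' ∈ Subgroup.zpowers s) :
    Subgroup.zpowers y' = Subgroup.zpowers y := by
  classical
  letI : Fintype G := Fintype.ofFinite G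
  have key : ∀ (a : G) (_ : orderOf a = 4) (ha : a ∈ Subgroup.zpowers s),
      (Finset.univ.filter fun b : Subgroup.zpowers s => (b : G) ∈ Subgroup.zpowers a) =
        Finset.univ.filter (fun b : Subgroup.zpowers s => b ^ 4 = 1) := by
    intro a ho ha
    refine Finset.eq_of_subset_of_card_le (fun b hb => ?_) ?_
    · refine Finset.mem_filter.2 ⟨Finset.mem_univ _, Subtype.ext ?_⟩
      obtain ⟨k, hk⟩ := Subgroup.mem_zpowers_iff.1 (Finset.mem_filter.1 hb).2
      rw [Subgroup.coe_pow, Subgroup.coe_one, ← hk, ← zpow_natCast, ← zpow_mul, mul_comm, zpow_mul,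
        zpow_natCast, ← ho, pow_orderOf_eq_one, one_zpow]
    · refine (IsCyclic.card_pow_eq_one_le (show 0 < 4 by norm_num)).trans ?_
      rw [← Fintype.card_subtype, ← Nat.card_eq_fintype_card]
      refine le_of_eq ((Nat.card_congr ?_).trans ((Nat.card_zpowers a).trans ho)).symm
      exact
        { toFun := fun b => ⟨(b.1 : G), b.2⟩
          invFun := fun b => ⟨⟨b.1, (Subgroup.zpowers_le.2 ha) b.2⟩, b.2⟩
          left_inv := fun b => rfl
          right_inv := fun b => rfl }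
  refine le_antisymm (fun b hb => ?_) fun b hb => ?_
  · have hm : (⟨b, (Subgroup.zpowers_le.2 h') hb⟩ : Subgroup.zpowers s) ∈
        Finset.univ.filter fun c : Subgroup.zpowers s => (c : G) ∈ Subgroup.zpowers y' :=
      Finset.mem_filter.2 ⟨Finset.mem_univ _, hb⟩
    rw [key y' hy' h', ← key y hy h] at hm
    exact (Finset.mem_filter.1 hm).2
  · have hm : (⟨b, (Subgroup.zpowers_le.2 h) hb⟩ : Subgroup.zpowers s) ∈
        Finset.univ.filter fun c : Subgroup.zpowers s => (c : G) ∈ Subgroup.zpowers y :=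
      Finset.mem_filter.2 ⟨Finset.mem_univ _, hb⟩
    rw [key y hy h, ← key y' hy' h'] at hm
    exact (Finset.mem_filter.1 hm).2

/-- `P` has order `8 g` and is dihedral modulo `⟨σ ^ (2 g)⟩`. -/
structure Axis4 {P : Type u} [Group P] (σ τ : P) (g : ℕ) : Prop where
  ord : orderOf σ = 4 * g
  card : Nat.card P = 8 * g
  two : ∃ k : ℕ, g = 2 ^ k
  out : τ ∉ Subgroup.zpowers σ
  inv_mod : τ * σ * τ⁻¹ * σ ∈ Subgroup.zpowers (σ ^ (2 * g))
  sq_mod : τ * τ ∈ Subgroup.zpowers (σ ^ (2 * g))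

namespace Axis4

variable {P : Type u} [Group P] {σ τ : P} {g : ℕ} (A : Axis4 σ τ g)

include A

lemma pos : 0 < g := by
  obtain ⟨k, hk⟩ := A.two
  rw [hk]
  positivity

lemma finite : Finite P := Nat.finite_of_card_ne_zero (by rw [A.card]; have := A.pos; omega)

lemma isPGroup : IsPGroup 2 P := by
  obtain ⟨k, hk⟩ := A.two
  exact IsPGroup.of_card (n := k + 3) (by rw [A.card, hk]; ring)

lemma z_order : orderOf (σ ^ (2 * g)) = 2 := by
  have := A.pos
  rw [orderOf_pow_of_dvd (by omega) (by rw [A.ord]; exact ⟨2, by ring⟩), A.ord,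
    show 4 * g = 2 * (2 * g) by ring, Nat.mul_div_cancel _ (by omega)]

lemma z_sq : σ ^ (2 * g) * σ ^ (2 * g) = 1 := by
  rw [← pow_two]; exact orderOf_dvd_iff_pow_eq_one.1 (by rw [A.z_order])

lemma z_inv : (σ ^ (2 * g))⁻¹ = σ ^ (2 * g) := inv_eq_of_mul_eq_one_right A.z_sq

lemma y_order : orderOf (σ ^ g) = 4 := by
  have := A.pos
  rw [orderOf_pow_of_dvd (by omega) (by rw [A.ord]; exact ⟨4, by ring⟩), A.ord,
    Nat.mul_div_cancel _ A.pos]

lemma index : (Subgroup.zpowers σ).index = 2 := by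
  haveI := A.finite
  have e := (Subgroup.zpowers σ).card_mul_index
  rw [Nat.card_zpowers, A.ord, A.card] at e
  have := A.pos
  nlinarith

lemma mem_z_iff {u : P} :
    u ∈ Subgroup.zpowers (σ ^ (2 * g)) ↔ u = 1 ∨ u = σ ^ (2 * g) := by
  constructor
  · intro hu
    obtain ⟨k, rfl⟩ := Subgroup.mem_zpowers_iff.1 hu
    rw [← zpow_mod_orderOf, A.z_order]
    rcases Int.emod_two_eq_zero_or_one k with e | e <;>
      rw [show k % ((2 : ℕ) : ℤ) = _ from e] <;> simp
  · rintro (rfl | rfl)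
    · exact one_mem _
    · exact Subgroup.mem_zpowers _

lemma cases (x : P) : x ∈ Subgroup.zpowers σ ∨ τ * x ∈ Subgroup.zpowers σ := by
  by_cases hx : x ∈ Subgroup.zpowers σ
  · exact Or.inl hx
  · exact Or.inr ((Subgroup.mul_mem_iff_of_index_two A.index).2 (iff_of_false A.out hx))

lemma conj_zpow_mul (j : ℤ) :
    τ * σ ^ j * τ⁻¹ * σ ^ j ∈ Subgroup.zpowers (σ ^ (2 * g)) := by
  have hc : Commute σ (τ * σ * τ⁻¹ * σ) := by
    obtain ⟨i, hi⟩ := Subgroup.mem_zpowers_iff.1 A.inv_mod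
    rw [← hi]
    exact (Commute.self_pow σ (2 * g)).zpow_right i
  have e : (τ * σ * τ⁻¹) ^ j = (τ * σ * τ⁻¹ * σ) ^ j * (σ ^ j)⁻¹ := by
    conv_lhs => rw [show τ * σ * τ⁻¹ = (τ * σ * τ⁻¹ * σ) * σ⁻¹ by group]
    rw [(hc.symm.inv_right).mul_zpow, inv_zpow]
  rw [← MulAut.conj_apply, map_zpow, MulAut.conj_apply, e, inv_mul_cancel_right]
  exact Subgroup.zpow_mem _ A.inv_mod j

lemma off_sq {u : P} (hu : u ∉ Subgroup.zpowers σ) :
    u * u ∈ Subgroup.zpowers (σ ^ (2 * g)) := by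
  obtain ⟨j, hj⟩ := Subgroup.mem_zpowers_iff.1 ((A.cases u).resolve_left hu)
  have hu' : u = τ⁻¹ * σ ^ j := by rw [hj]; group
  rw [show u * u = (τ * τ)⁻¹ * (τ * σ ^ j * τ⁻¹ * σ ^ j) by rw [hu']; group]
  exact Subgroup.mul_mem _ (Subgroup.inv_mem _ A.sq_mod) (A.conj_zpow_mul j)

lemma pow_four {u : P} (hu : u ^ 4 ≠ 1) : u ∈ Subgroup.zpowers σ := by
  by_contra h
  refine hu ?_
  rw [show 4 = 2 * 2 from rfl, pow_mul, pow_two u]
  rcases A.mem_z_iff.1 (A.off_sq h) with e | e <;> rw [e]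
  · exact one_pow _
  · rw [pow_two, A.z_sq]

lemma rot_involution {u : P} (hu : u ∈ Subgroup.zpowers σ) (ho : orderOf u = 2) :
    u = σ ^ (2 * g) := by
  haveI := A.finite
  obtain ⟨a, rfl⟩ := (Submonoid.mem_powers_iff u σ).1 (mem_powers_iff_mem_zpowers.2 hu)
  have h2 : (σ ^ a) ^ 2 = 1 := by rw [← ho, pow_orderOf_eq_one]
  rw [← pow_mul, ← orderOf_dvd_iff_pow_eq_one, A.ord] at h2
  obtain ⟨c, hc⟩ := h2
  have ha : a = 2 * g * c := by nlinarith
  rw [ha, pow_mul]
  rcases Nat.even_or_odd c with ⟨d, rfl⟩ | ⟨d, rfl⟩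
  · exfalso
    rw [ha, pow_mul, ← two_mul, pow_mul, pow_two, A.z_sq, one_pow, orderOf_one] at ho
    omega
  · rw [pow_succ, pow_mul, pow_two, A.z_sq, one_pow, one_mul]

lemma z_comm (x : P) : x * σ ^ (2 * g) = σ ^ (2 * g) * x := by
  have hn := Subgroup.normal_of_index_eq_two A.index
  have h := A.rot_involution
    (hn.conj_mem _ (Subgroup.pow_mem _ (Subgroup.mem_zpowers σ) (2 * g)) x)
    (show orderOf (x * σ ^ (2 * g) * x⁻¹) = 2 by
      rw [← MulAut.conj_apply, MulEquiv.orderOf_eq, A.z_order])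
  rwa [mul_inv_eq_iff_eq_mul] at h

lemma y_conj (x : P) : x * σ ^ g * x⁻¹ ∈ Subgroup.zpowers (σ ^ g) := by
  haveI := A.finite
  have ho : orderOf (x * σ ^ g * x⁻¹) = 4 := by
    rw [← MulAut.conj_apply, MulEquiv.orderOf_eq, A.y_order]
  rw [← zpowers_four_eq A.y_order ho (Subgroup.pow_mem _ (Subgroup.mem_zpowers σ) g)
    ((Subgroup.normal_of_index_eq_two A.index).conj_mem _
      (Subgroup.pow_mem _ (Subgroup.mem_zpowers σ) g) x)]
  exact Subgroup.mem_zpowers _

/-- A rotation of order at least four has `σ ^ g` as a power. -/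
lemma y_mem {u : P} (hu : u ∈ Subgroup.zpowers σ) (h1 : u * u ≠ 1) :
    σ ^ g ∈ Subgroup.zpowers u := by
  haveI := A.finite
  obtain ⟨e, he⟩ := IsPGroup.iff_orderOf.1 A.isPGroup u
  obtain ⟨e', rfl⟩ : ∃ e', e = e' + 2 := ⟨e - 2, by
    by_contra hlt
    refine h1 (?_ : u * u = 1)
    rw [← pow_two, ← orderOf_dvd_iff_pow_eq_one, he]
    exact pow_dvd_pow 2 (show e ≤ 1 by omega)⟩
  have ho : orderOf (u ^ 2 ^ e') = 4 := by
    rw [orderOf_pow_of_dvd (by positivity) (by rw [he]; exact pow_dvd_pow 2 (by omega)), he,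
      pow_add, mul_comm, Nat.mul_div_cancel _ (by positivity)]
    norm_num
  have := zpowers_four_eq ho A.y_order (Subgroup.pow_mem _ hu (2 ^ e'))
    (Subgroup.pow_mem _ (Subgroup.mem_zpowers σ) g)
  exact (Subgroup.zpowers_le.2 (Subgroup.pow_mem _ (Subgroup.mem_zpowers u) _))
    (this ▸ Subgroup.mem_zpowers (σ ^ g))

/-- Transport along an isomorphism. -/
lemma map {P' : Type v} [Group P'] (e : P ≃* P') : Axis4 (e σ) (e τ) g where
  ord := (MulEquiv.orderOf_eq e σ).trans A.ord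
  card := (Nat.card_congr e.toEquiv).symm.trans A.card
  two := A.two
  out := fun hm => A.out (by
    obtain ⟨k, hk⟩ := Subgroup.mem_zpowers_iff.1 hm
    exact Subgroup.mem_zpowers_iff.2 ⟨k, e.injective (by rw [map_zpow, hk])⟩)
  inv_mod := by
    obtain ⟨k, hk⟩ := Subgroup.mem_zpowers_iff.1 A.inv_mod
    exact Subgroup.mem_zpowers_iff.2 ⟨k, by
      rw [← map_inv, ← map_mul, ← map_mul, ← map_mul, ← map_pow, ← map_zpow, hk]⟩
  sq_mod := by
    obtain ⟨k, hk⟩ := Subgroup.mem_zpowers_iff.1 A.sq_mod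
    exact Subgroup.mem_zpowers_iff.2 ⟨k, by rw [← map_mul, ← map_pow, ← map_zpow, hk]⟩

end Axis4

/-- The generalized characters behind the coherent rows. -/
structure PsiData {P : Type u} [Group P] [Fintype P] (σ : P) (g : ℕ) (ψ : ℕ → P → ℂ) : Prop where
  isGen : ∀ i, IsGeneralizedCharacter P (ψ i)
  off : ∀ (i : ℕ) (x : P), x ∉ Subgroup.zpowers σ ∨ x * x = 1 → ψ i x = 0
  z_mul : ∀ (i : ℕ) (x : P), ψ i (σ ^ (2 * g) * x) = (-1) ^ i * ψ i x
  inner_even : ∀ s ∈ Finset.Icc 1 g, ∀ t ∈ Finset.Icc 1 g,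
    classInner (ψ (2 * s)) (ψ (2 * t)) =
      if s = g ∧ t = g then 4 else if s = t then 3 else 2
  inner_odd : ∀ s ∈ Finset.Ico 1 g, ∀ t ∈ Finset.Ico 1 g,
    classInner (ψ (2 * s + 1)) (ψ (2 * t + 1)) = 1 + if s = t then 1 else 0
  inner_cross : ∀ s ∈ Finset.Icc 1 g, ∀ t ∈ Finset.Ico 1 g,
    classInner (ψ (2 * s)) (ψ (2 * t + 1)) = 0
  top_parity : ∀ η : IrrCharacter P, ∃ k : ℤ,
    classInner (ψ (2 * g)) (η : P → ℂ) = k ∧ (Odd k ↔ Odd (deg (η : P → ℂ)))

end Cfsg.Lib.Blocks.QuaternionDefect
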