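import Mathlib
import Cfsg.Agent.Blocks.DihedralDefect.Comb

/-!
# The even rows of a 2-block with quaternion defect group

Integral vectors with the Gram matrix of the coherent characters of a dihedral quotient: four
places carry the last vector, each other vector has one place of its own.
-/

set_option autoImplicit false
set_option linter.unusedSectionVars false

namespace Cfsg.Lib.Blocks.QuaternionDefect

open Cfsg.Lib.Blocks.DihedralDefect (unit_support split_three)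

variable {ι : Type*} [DecidableEq ι]

/-- The shape of the even rows. -/
structure Shape (T : Finset ι) (g : ℕ) (F : ℕ → ι → ℤ) where
  a : ι
  b : ι
  c : ι
  d : ι
  ab : a ≠ b
  ac : a ≠ c
  ad : a ≠ d
  bc : b ≠ c
  bd : b ≠ d
  cd : c ≠ d
  mem : ({a, b, c, d} : Finset ι) ⊆ T
  one : ∀ χ ∈ ({a, b, c, d} : Finset ι), F g χ = 1 ∨ F g χ = -1
  zero : ∀ χ ∈ T, χ ∉ ({a, b, c, d} : Finset ι) → F g χ = 0
  y : ℕ → ι
  y_mem : ∀ s ∈ Finset.Ico 1 g, y s ∈ T
  y_out : ∀ s ∈ Finset.Ico 1 g, y s ∉ ({a, b, c, d} : Finset ι)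
  y_inj : Set.InjOn y (Finset.Ico 1 g : Set ℕ)
  y_one : ∀ s ∈ Finset.Ico 1 g, F s (y s) = 1 ∨ F s (y s) = -1
  row : ∀ s ∈ Finset.Ico 1 g, ∀ χ ∈ T,
    F s χ = (if χ = y s then F s (y s) else 0) + if χ = a ∨ χ = b then F g χ else 0

variable {T : Finset ι} {g : ℕ} {F : ℕ → ι → ℤ}

namespace Shape

variable (S : Shape T g F)

/-- The four places. -/
def H : Finset ι := {S.a, S.b, S.c, S.d}

lemma mem_H {χ : ι} : χ ∈ S.H ↔ χ = S.a ∨ χ = S.b ∨ χ = S.c ∨ χ = S.d := by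
  simp [H]

lemma card_H : S.H.card = 4 := by
  simp [H, S.ab, S.ac, S.ad, S.bc, S.bd, S.cd]

lemma sum_H {R : Type*} [AddCommMonoid R] (f : ι → R) :
    ∑ χ ∈ S.H, f χ = f S.a + f S.b + f S.c + f S.d := by
  simp [H, S.ab, S.ac, S.ad, S.bc, S.bd, S.cd, add_assoc]

lemma H_subset : S.H ⊆ T := S.mem

/-- The places of the single entries. -/
def Y : Finset ι := (Finset.Ico 1 g).image S.y

lemma card_Y : S.Y.card = g - 1 := by
  rw [Y, Finset.card_image_of_injOn S.y_inj, Nat.card_Ico]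

lemma disjoint_HY : Disjoint S.H S.Y := by
  rw [Finset.disjoint_right]
  intro χ hχ hH
  obtain ⟨s, hs, rfl⟩ := Finset.mem_image.1 hχ
  exact S.y_out s hs hH

lemma HY_subset : S.H ∪ S.Y ⊆ T := by
  refine Finset.union_subset S.mem fun χ hχ => ?_
  obtain ⟨s, hs, rfl⟩ := Finset.mem_image.1 hχ
  exact S.y_mem s hs

lemma ne_y {s : ℕ} (hs : s ∈ Finset.Ico 1 g) :
    S.y s ≠ S.a ∧ S.y s ≠ S.b ∧ S.y s ≠ S.c ∧ S.y s ≠ S.d := by
  have := S.y_out s hs
  simp only [Finset.mem_insert, Finset.mem_singleton, not_or] at this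
  exact this

/-- A vector against the last row. -/
lemma sum_top (x : ι → ℤ) :
    ∑ χ ∈ T, F g χ * x χ =
      F g S.a * x S.a + F g S.b * x S.b + F g S.c * x S.c + F g S.d * x S.d := by
  rw [← Finset.sum_subset S.mem fun χ hχ hne => by rw [S.zero χ hχ hne, zero_mul]]
  exact S.sum_H fun χ => F g χ * x χ

/-- A vector against one of the other rows. -/
lemma sum_row (x : ι → ℤ) {s : ℕ} (hs : s ∈ Finset.Ico 1 g) :
    ∑ χ ∈ T, F s χ * x χ = F s (S.y s) * x (S.y s) + (F g S.a * x S.a + F g S.b * x S.b) := by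
  rw [Finset.sum_congr rfl fun χ hχ => by rw [S.row s hs χ hχ, add_mul, ite_mul, ite_mul, zero_mul],
    Finset.sum_add_distrib, Finset.sum_ite_eq', if_pos (S.y_mem s hs), ← Finset.sum_filter,
    show T.filter (fun χ => χ = S.a ∨ χ = S.b) = {S.a, S.b} from ?_, Finset.sum_pair S.ab]
  ext χ
  simp only [Finset.mem_filter, Finset.mem_insert, Finset.mem_singleton]
  refine ⟨fun h => h.2, fun h => ⟨S.mem ?_, h⟩⟩
  rcases h with rfl | rfl <;> simp

/-- The rows vanish away from their places. -/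
lemma row_zero {s : ℕ} (hs : s ∈ Finset.Ico 1 g) {χ : ι} (hχ : χ ∈ T) (h1 : χ ≠ S.y s)
    (h2 : χ ∉ S.H) : F s χ = 0 := by
  rw [S.row s hs χ hχ, if_neg h1, if_neg fun h => h2 (S.mem_H.2 (by tauto)), add_zero]

lemma sq_one {χ : ι} (hχ : χ ∈ S.H) : F g χ * F g χ = 1 := by
  rcases S.one χ hχ with e | e <;> rw [e] <;> norm_num

lemma sq_y {s : ℕ} (hs : s ∈ Finset.Ico 1 g) : F s (S.y s) * F s (S.y s) = 1 := by
  rcases S.y_one s hs with e | e <;> rw [e] <;> norm_num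

end Shape

/-- Four distinct elements of a finset of four with two of them given. -/
lemma exists_four {H P : Finset ι} (hH : H.card = 4) (hP : P ⊆ H) (hP2 : P.card = 2) :
    ∃ a b c d : ι, a ≠ b ∧ a ≠ c ∧ a ≠ d ∧ b ≠ c ∧ b ≠ d ∧ c ≠ d ∧ H = {a, b, c, d} ∧
      P = {a, b} := by
  obtain ⟨a, b, hab, rfl⟩ := Finset.card_eq_two.1 hP2
  have hc : (H \ {a, b}).card = 2 := by rw [Finset.card_sdiff_of_subset hP, hH, hP2]
  obtain ⟨c, d, hcd, e⟩ := Finset.card_eq_two.1 hc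
  have hm : ∀ x, x = c ∨ x = d → x ∈ H ∧ x ≠ a ∧ x ≠ b := fun x hx => by
    have : x ∈ H \ {a, b} := by rw [e]; simpa using hx
    simpa [Finset.mem_sdiff] using this
  obtain ⟨-, hca, hcb⟩ := hm c (Or.inl rfl)
  obtain ⟨-, hda, hdb⟩ := hm d (Or.inr rfl)
  refine ⟨a, b, c, d, hab, hca.symm, hda.symm, hcb.symm, hdb.symm, hcd, ?_, rfl⟩
  rw [← Finset.union_sdiff_of_subset hP, e]
  ext x
  simp only [Finset.mem_union, Finset.mem_insert, Finset.mem_singleton]
  tauto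

/-- **The even rows**: either they have the regular shape, or there are four of them sharing
their single place and every orthogonal vector is long. -/
theorem shape_or_collision (hg : 0 < g) (two : g = 1 ∨ g = 2 ∨ 4 ∣ g)
    (hij : ∀ i ∈ Finset.Ico 1 g, ∀ j ∈ Finset.Ico 1 g,
      ∑ χ ∈ T, F i χ * F j χ = if i = j then 3 else 2)
    (hih : ∀ i ∈ Finset.Ico 1 g, ∑ χ ∈ T, F i χ * F g χ = 2)
    (hhh : ∑ χ ∈ T, F g χ * F g χ = 4) (hodd : ∃ χ ∈ T, Odd (F g χ)) :
    Nonempty (Shape T g F) ∨ g = 4 ∧ ∃ y b : ι, y ∈ T ∧ b ∈ T ∧ F g y = 0 ∧ Odd (F g b) ∧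
      ∀ x : ι → ℤ, (∀ s ∈ Finset.Icc 1 g, ∑ χ ∈ T, F s χ * x χ = 0) →
        16 * (x b * x b) ≤ ∑ χ ∈ insert y (T.filter (F g · ≠ 0)), x χ * x χ := by
  have hu : ∀ χ ∈ T, F g χ = 0 ∨ F g χ = 1 ∨ F g χ = -1 := by
    obtain ⟨χ₀, hχ₀, ho⟩ := hodd
    intro χ hχ
    have hle : F g χ * F g χ ≤ 4 :=
      hhh ▸ Finset.single_le_sum (f := fun χ => F g χ * F g χ) (fun a _ => mul_self_nonneg (F g a)) hχ
    have h2' : -2 ≤ F g χ := by nlinarith
    have h3' : F g χ ≤ 2 := by nlinarith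
    by_contra hcon
    have hcase : F g χ = 2 ∨ F g χ = -2 := by omega
    have hne : χ₀ ≠ χ := by
      rintro rfl
      obtain ⟨j, hj⟩ := ho
      omega
    have hpair : F g χ₀ * F g χ₀ + F g χ * F g χ ≤ 4 := by
      rw [← hhh, ← Finset.sum_pair (f := fun χ => F g χ * F g χ) hne]
      exact Finset.sum_le_sum_of_subset_of_nonneg
        (by intro a ha; simp only [Finset.mem_insert, Finset.mem_singleton] at ha
            rcases ha with rfl | rfl <;> assumption)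
        fun a _ _ => mul_self_nonneg (F g a)
    have hne0 : F g χ₀ ≠ 0 := fun e => by simp [e] at ho
    have := mul_self_pos.2 hne0
    rcases hcase with e | e <;> rw [e] at hpair <;> omega
  set H := T.filter (F g · ≠ 0) with hH
  have hH4 : H.card = 4 := unit_support T (F g) (N := 4) hhh hu
  have hone : ∀ χ ∈ H, F g χ = 1 ∨ F g χ = -1 := fun χ hχ =>
    (hu χ (Finset.mem_filter.1 hχ).1).resolve_left (Finset.mem_filter.1 hχ).2
  have hex : ∀ i, ∃ y, i ∈ Finset.Ico 1 g → y ∈ T ∧ F g y = 0 ∧ (F i y = 1 ∨ F i y = -1) ∧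
      ∀ χ ∈ T, χ ≠ y → F i χ = 0 ∨ F i χ = F g χ := by
    intro i
    by_cases hi : i ∈ Finset.Ico 1 g
    · obtain ⟨y, hy⟩ := split_three T (F i) (F g) (by rw [hij i hi i hi, if_pos rfl]) hu (hih i hi)
      exact ⟨y, fun _ => hy⟩
    · obtain ⟨χ₀, -⟩ := hodd
      exact ⟨χ₀, fun e => absurd e hi⟩
  choose y hy using hex
  set m : ℕ → ι → ℤ := fun i χ => F i χ * F g χ with hm
  have hyH : ∀ i ∈ Finset.Ico 1 g, y i ∉ H := fun i hi e => (Finset.mem_filter.1 e).2 (hy i hi).2.1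
  have hm01 : ∀ i ∈ Finset.Ico 1 g, ∀ χ ∈ H, m i χ = 0 ∨ m i χ = 1 := by
    intro i hi χ hχ
    rcases (hy i hi).2.2.2 χ (Finset.mem_filter.1 hχ).1 (fun e => hyH i hi (e ▸ hχ)) with e | e
    · exact Or.inl (by simp only [hm]; rw [e, zero_mul])
    · right
      simp only [hm]
      rcases hone χ hχ with e' | e' <;> rw [e, e'] <;> norm_num
  have hFm : ∀ i ∈ Finset.Ico 1 g, ∀ χ ∈ H, F i χ = m i χ * F g χ := by
    intro i hi χ hχ
    simp only [hm]
    rcases hone χ hχ with e' | e' <;> rw [e'] <;> ring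
  have hoff : ∀ i ∈ Finset.Ico 1 g, ∀ χ ∈ T, χ ∉ H → χ ≠ y i → F i χ = 0 := by
    intro i hi χ hT hχ hne
    have h0' : F g χ = 0 := by by_contra e; exact hχ (Finset.mem_filter.2 ⟨hT, e⟩)
    rcases (hy i hi).2.2.2 χ hT hne with e | e
    · exact e
    · rw [e, h0']
  have hmsum : ∀ i ∈ Finset.Ico 1 g, ∑ χ ∈ H, m i χ = 2 := fun i hi => by
    rw [← hih i hi, hH, Finset.sum_filter_of_ne (p := fun χ => F g χ ≠ 0)
      fun χ _ hne e => hne (by simp only [hm]; rw [e, mul_zero])]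
  have hrow : ∀ i ∈ Finset.Ico 1 g, ∀ x : ι → ℤ, ∑ χ ∈ T, F i χ * x χ =
      F i (y i) * x (y i) + ∑ χ ∈ H, m i χ * (F g χ * x χ) := by
    intro i hi x
    rw [← Finset.sum_subset (Finset.insert_subset (hy i hi).1 (Finset.filter_subset _ T) :
        insert (y i) H ⊆ T) fun χ hχ hne => by
          rw [Finset.mem_insert, not_or] at hne
          rw [hoff i hi χ hχ hne.2 hne.1, zero_mul],
      Finset.sum_insert (hyH i hi)]
    exact congrArg _ (Finset.sum_congr rfl fun χ hχ => by rw [hFm i hi χ hχ, mul_assoc])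
  have hinner : ∀ i ∈ Finset.Ico 1 g, ∀ j ∈ Finset.Ico 1 g, ∑ χ ∈ T, F i χ * F j χ =
      (if y i = y j then F i (y i) * F j (y j) else 0) + ∑ χ ∈ H, m i χ * m j χ := by
    intro i hi j hj
    rw [hrow i hi]
    congr 1
    · split_ifs with e
      · rw [e]
      · rw [hoff j hj _ (hy i hi).1 (hyH i hi) e, mul_zero]
    · exact Finset.sum_congr rfl fun χ _ => by simp only [hm]; ring
  have hle2 : ∀ i ∈ Finset.Ico 1 g, ∀ j ∈ Finset.Ico 1 g, ∑ χ ∈ H, m i χ * m j χ ≤ 2 := by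
    intro i hi j hj
    rw [← hmsum i hi]
    refine Finset.sum_le_sum fun χ hχ => ?_
    rcases hm01 i hi χ hχ with e | e <;> rcases hm01 j hj χ hχ with e' | e' <;> simp [e, e']
  have hsame : ∀ i ∈ Finset.Ico 1 g, ∀ j ∈ Finset.Ico 1 g, i ≠ j → y i = y j →
      F i (y i) = F j (y j) ∧ ∑ χ ∈ H, m i χ * m j χ = 1 := by
    intro i hi j hj hne e
    have h1 := hinner i hi j hj
    rw [hij i hi j hj, if_neg hne, if_pos e] at h1
    have h2' := hle2 i hi j hj
    rcases (hy i hi).2.2.1 with a | a <;> rcases (hy j hj).2.2.1 with b | b <;>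
      rw [a, b] at h1 <;> refine ⟨?_, ?_⟩ <;> omega
  have hdiff : ∀ i ∈ Finset.Ico 1 g, ∀ j ∈ Finset.Ico 1 g, y i ≠ y j →
      ∀ χ ∈ H, m i χ = m j χ := by
    intro i hi j hj e χ hχ
    have hne : i ≠ j := fun h' => e (by rw [h'])
    have h1 := hinner i hi j hj
    rw [hij i hi j hj, if_neg hne, if_neg e, zero_add] at h1
    have h3 : ∀ k ∈ Finset.Ico 1 g, ∑ χ ∈ H, m k χ * m k χ = 2 := fun k hk => by
      rw [← hmsum k hk]
      exact Finset.sum_congr rfl fun a ha => by rcases hm01 k hk a ha with e | e <;> simp [e]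
    have hz : ∑ χ ∈ H, (m i χ - m j χ) ^ 2 = 0 := by
      rw [Finset.sum_congr rfl fun a _ => show (m i a - m j a) ^ 2 =
          m i a * m i a + m j a * m j a - 2 * (m i a * m j a) by ring,
        Finset.sum_sub_distrib, Finset.sum_add_distrib, ← Finset.mul_sum, h3 i hi, h3 j hj, ← h1]
      norm_num
    have := (Finset.sum_eq_zero_iff_of_nonneg fun a _ => sq_nonneg _).1 hz χ hχ
    rw [sq_eq_zero_iff, sub_eq_zero] at this
    exact this
  have hP : ∀ i ∈ Finset.Ico 1 g, (H.filter (m i · ≠ 0)).card = 2 := fun i hi =>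
    unit_support H (m i) (N := 2) (by
      rw [show ((2 : ℕ) : ℤ) = ∑ χ ∈ H, m i χ from (hmsum i hi).symm]
      exact Finset.sum_congr rfl fun a ha => by rcases hm01 i hi a ha with e | e <;> simp [e])
      fun χ hχ => (hm01 i hi χ hχ).imp id Or.inl
  by_cases hinj : Set.InjOn y (Finset.Ico 1 g : Set ℕ)
  · left
    obtain ⟨P, hPH, hP2, hPm⟩ : ∃ P ⊆ H, P.card = 2 ∧
        ∀ i ∈ Finset.Ico 1 g, ∀ χ ∈ H, m i χ = if χ ∈ P then 1 else 0 := by
      by_cases h1 : 1 < g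
      · have h1m : 1 ∈ Finset.Ico 1 g := Finset.mem_Ico.2 ⟨le_rfl, h1⟩
        refine ⟨_, Finset.filter_subset _ _, hP 1 h1m, fun i hi χ hχ => ?_⟩
        have : m i χ = m 1 χ := by
          by_cases e : i = 1
          · rw [e]
          · exact hdiff i hi 1 h1m
              (fun e' => e (hinj (Finset.mem_coe.2 hi) (Finset.mem_coe.2 h1m) e')) χ hχ
        rw [this]
        rcases hm01 1 h1m χ hχ with e | e <;> simp [e, hχ]
      · obtain ⟨P, hPs, hPc⟩ := Finset.exists_subset_card_eq (s := H) (n := 2) (by omega)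
        exact ⟨P, hPs, hPc, fun i hi => absurd (Finset.mem_Ico.1 hi) (by omega)⟩
    obtain ⟨a, b, c, d, hab, hac, had, hbc, hbd, hcd, hHeq, hPeq⟩ := exists_four hH4 hPH hP2
    refine ⟨⟨a, b, c, d, hab, hac, had, hbc, hbd, hcd, hHeq ▸ Finset.filter_subset _ T,
      fun χ hχ => hone χ (hHeq ▸ hχ), fun χ hT hne => ?_, y, fun s hs => (hy s hs).1,
      fun s hs => hHeq ▸ hyH s hs, hinj, fun s hs => (hy s hs).2.2.1, fun s hs χ hT => ?_⟩⟩
    · by_contra e
      exact hne (hHeq ▸ Finset.mem_filter.2 ⟨hT, e⟩)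
    · have hab' : χ = a ∨ χ = b ↔ χ ∈ P := by simp [hPeq]
      by_cases hχ : χ ∈ H
      · rw [if_neg (fun e : χ = y s => hyH s hs (e ▸ hχ)), zero_add, hFm s hs χ hχ, hPm s hs χ hχ]
        by_cases hχP : χ ∈ P
        · rw [if_pos hχP, if_pos (hab'.2 hχP), one_mul]
        · rw [if_neg hχP, if_neg (fun e => hχP (hab'.1 e)), zero_mul]
      · rw [if_neg (fun e => hχ (hPH (hab'.1 e))), add_zero]
        split_ifs with e
        · rw [e]
        · exact hoff s hs χ hT hχ e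
  right
  obtain ⟨i, hi, j, hj, hne, e⟩ : ∃ i ∈ Finset.Ico 1 g, ∃ j ∈ Finset.Ico 1 g, i ≠ j ∧ y i = y j := by
    simp only [Set.InjOn, Finset.mem_coe] at hinj
    push Not at hinj
    obtain ⟨i, hi, j, hj, e, hne⟩ := hinj
    exact ⟨i, hi, j, hj, hne, e⟩
  have hone' := (hsame i hi j hj hne e).2
  have hall : ∀ k ∈ Finset.Ico 1 g, y k = y i := by
    intro k hk
    by_contra hk'
    have a := hdiff k hk i hi hk'
    have b := hdiff k hk j hj (e ▸ hk')
    rw [Finset.sum_congr rfl fun χ hχ => show m i χ * m j χ = m i χ by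
      rw [← b χ hχ, a χ hχ]
      rcases hm01 i hi χ hχ with e' | e' <;> simp [e'], hmsum i hi] at hone'
    norm_num at hone'
  have hpair : ∀ k ∈ Finset.Ico 1 g, ∀ l ∈ Finset.Ico 1 g, k ≠ l →
      ∑ χ ∈ H, m k χ * m l χ = 1 := fun k hk l hl hkl =>
    (hsame k hk l hl hkl (by rw [hall k hk, hall l hl])).2
  -- there are at most six pairs
  have hcard : g - 1 ≤ 6 := by
    have := Finset.card_le_card_of_injOn (s := Finset.Ico 1 g) (t := H.powersetCard 2)
      (fun k => H.filter (m k · ≠ 0))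
      (fun k hk => Finset.mem_powersetCard.2 ⟨Finset.filter_subset _ _, hP k hk⟩) (by
        intro k hk l hl ekl
        rw [Finset.mem_coe] at hk hl
        by_contra hkl
        have h1 := hpair k hk l hl hkl
        rw [Finset.sum_congr rfl fun χ hχ => show m k χ * m l χ = m k χ by
          have e' := Finset.ext_iff.1 ekl χ
          simp only [Finset.mem_filter, hχ, true_and] at e'
          rcases hm01 k hk χ hχ with a | a <;> rcases hm01 l hl χ hχ with b | b <;>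
            simp [a, b] at e' ⊢, hmsum k hk] at h1
        norm_num at h1)
    rw [Nat.card_Ico, Finset.card_powersetCard, hH4] at this
    exact this.trans (by decide)
  rw [Finset.mem_Ico] at hi hj
  obtain rfl : g = 4 := by
    rcases two with e' | e' | ⟨k, rfl⟩ <;> omega
  refine ⟨rfl, ?_⟩
  have h1m : 1 ∈ Finset.Ico 1 4 := by simp
  have h2m : 2 ∈ Finset.Ico 1 4 := by simp
  have h3m : 3 ∈ Finset.Ico 1 4 := by simp
  obtain ⟨p, q, hpq, hP1⟩ := Finset.card_eq_two.1 (hP 1 h1m)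
  have hin : ∀ z, z = p ∨ z = q → z ∈ H ∧ m 1 z = 1 := fun z hz => by
    have : z ∈ H.filter (m 1 · ≠ 0) := by rw [hP1]; simpa using hz
    exact ⟨(Finset.mem_filter.1 this).1,
      (hm01 1 h1m z (Finset.mem_filter.1 this).1).resolve_left (Finset.mem_filter.1 this).2⟩
  obtain ⟨a, b, c, d, hab, hac, had, hbc, hbd, hcd, hHeq, hPeq⟩ :=
    exists_four hH4 (Finset.filter_subset (m 1 · ≠ 0) H) (hP 1 h1m)
  have hs4 : ∀ f : ι → ℤ, ∑ χ ∈ H, f χ = f a + f b + f c + f d := fun f => by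
    simp [hHeq, hab, hac, had, hbc, hbd, hcd, add_assoc]
  have hmem : a ∈ H ∧ b ∈ H ∧ c ∈ H ∧ d ∈ H := by simp [hHeq]
  obtain ⟨ha, hb, hc, hd⟩ := hmem
  have h1v : m 1 a = 1 ∧ m 1 b = 1 ∧ m 1 c = 0 ∧ m 1 d = 0 := by
    have hiff : ∀ z ∈ H, (m 1 z ≠ 0 ↔ z = a ∨ z = b) := fun z hz => by
      have := Finset.ext_iff.1 hPeq z
      simpa [hz] using this
    have e1 := (hiff a ha).2 (Or.inl rfl)
    have e2 := (hiff b hb).2 (Or.inr rfl)
    have e3 : ¬ m 1 c ≠ 0 := fun h => by rcases (hiff c hc).1 h with h' | h'; exacts [hac h'.symm, hbc h'.symm]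
    have e4 : ¬ m 1 d ≠ 0 := fun h => by rcases (hiff d hd).1 h with h' | h'; exacts [had h'.symm, hbd h'.symm]
    exact ⟨(hm01 1 h1m a ha).resolve_left e1, (hm01 1 h1m b hb).resolve_left e2,
      not_not.1 e3, not_not.1 e4⟩
  have hδ : ∀ k ∈ Finset.Ico 1 4, y k = y 1 ∧ F k (y k) = F 1 (y 1) := fun k hk => by
    by_cases e' : k = 1
    · rw [e']; exact ⟨rfl, rfl⟩
    · exact ⟨by rw [hall k hk, hall 1 h1m], (hsame k hk 1 h1m e' (by rw [hall k hk, hall 1 h1m])).1⟩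
  have h12 := hpair 1 h1m 2 h2m (by norm_num)
  have h13 := hpair 1 h1m 3 h3m (by norm_num)
  have h23 := hpair 2 h2m 3 h3m (by norm_num)
  have hs2 := hmsum 2 h2m
  have hs3 := hmsum 3 h3m
  rw [hs4] at h12 h13 h23 hs2 hs3
  -- the place of the middle of a star or the base of a triangle
  obtain ⟨v, hv, hvH, hbound⟩ : ∃ v : ι, (v = a ∨ v = b ∨ v = c ∨ v = d) ∧ v ∈ H ∧
      ∀ X : ι → ℤ, ∀ S : ℤ,
        (∀ k ∈ Finset.Ico 1 4, S + (m k a * X a + m k b * X b + m k c * X c + m k d * X d) = 0) →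
          X a + X b + X c + X d = 0 →
          16 * (X v * X v) = S * S + (X a * X a + X b * X b + X c * X c + X d * X d) := by
    obtain ⟨va, vb, vc, vd⟩ := h1v
    rw [va, vb, vc, vd] at h12 h13
    have hkey : ∀ X : ι → ℤ, ∀ S : ℤ,
        (∀ k ∈ Finset.Ico 1 4, S + (m k a * X a + m k b * X b + m k c * X c + m k d * X d) = 0) →
          X a + X b + X c + X d = 0 → S = -(X a + X b) ∧
            ((m 2 a = 1 ∧ m 3 a = 1) ∧ X a = -3 * X b ∧ X c = X b ∧ X d = X b ∨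
              ¬ (m 2 a = 1 ∧ m 3 a = 1) ∧ (X b = -3 * X a ∧ X c = X a ∧ X d = X a ∨
                X c = -3 * X a ∧ X b = X a ∧ X d = X a ∨
                  X d = -3 * X a ∧ X b = X a ∧ X c = X a)) := by
      intro X S hS h0
      have s1 := hS 1 h1m
      have s2 := hS 2 h2m
      have s3 := hS 3 h3m
      rw [va, vb, vc, vd] at s1
      refine ⟨by linarith, ?_⟩
      rcases hm01 2 h2m a ha with a2 | a2 <;> rcases hm01 2 h2m b hb with b2 | b2 <;>
        rcases hm01 2 h2m c hc with c2 | c2 <;> rcases hm01 2 h2m d hd with d2 | d2 <;>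
        rw [a2, b2, c2, d2] at h12 h23 hs2 s2 <;> (try omega) <;>
      rcases hm01 3 h3m a ha with a3 | a3 <;> rcases hm01 3 h3m b hb with b3 | b3 <;>
        rcases hm01 3 h3m c hc with c3 | c3 <;> rcases hm01 3 h3m d hd with d3 | d3 <;>
        rw [a3, b3, c3, d3] at h13 h23 hs3 s3 <;> omega
    by_cases hcentre : m 2 a = 1 ∧ m 3 a = 1
    · refine ⟨b, Or.inr (Or.inl rfl), hb, fun X S hS h0 => ?_⟩
      obtain ⟨rfl, ⟨-, e1, e2, e3⟩ | ⟨hn, -⟩⟩ := hkey X S hS h0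
      · rw [e1, e2, e3]; ring
      · exact absurd hcentre hn
    · refine ⟨a, Or.inl rfl, ha, fun X S hS h0 => ?_⟩
      obtain ⟨rfl, ⟨hn, -⟩ | ⟨-, ⟨e1, e2, e3⟩ | ⟨e1, e2, e3⟩ | ⟨e1, e2, e3⟩⟩⟩ := hkey X S hS h0
      · exact absurd hn hcentre
      all_goals rw [e1, e2, e3]; ring
  refine ⟨y 1, v, (hy 1 h1m).1, (Finset.mem_filter.1 hvH).1, (hy 1 h1m).2.1, ?_, fun x hx => ?_⟩
  · rcases hone v hvH with e' | e' <;> rw [e'] <;> decide
  · have h4 : ∑ χ ∈ H, F 4 χ * x χ = 0 := by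
      rw [hH, Finset.sum_filter_of_ne (p := fun χ => F 4 χ ≠ 0) fun χ _ hne e' => hne (by rw [e', zero_mul])]
      exact hx 4 (by simp)
    rw [hs4] at h4
    have hb' := hbound (fun χ => F 4 χ * x χ) (F 1 (y 1) * x (y 1)) (fun k hk => ?_) h4
    · rw [Finset.sum_insert (hyH 1 h1m), hs4]
      have hsq : ∀ χ ∈ H, F 4 χ * x χ * (F 4 χ * x χ) = x χ * x χ := fun χ hχ => by
        rcases hone χ hχ with e' | e' <;> rw [e'] <;> ring
      have hyy : F 1 (y 1) * x (y 1) * (F 1 (y 1) * x (y 1)) = x (y 1) * x (y 1) := by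
        rcases (hy 1 h1m).2.2.1 with e' | e' <;> rw [e'] <;> ring
      rw [hsq v hvH, hsq a ha, hsq b hb, hsq c hc, hsq d hd, hyy] at hb'
      exact hb'.le
    · have h' := hx k (Finset.mem_Icc.2 ⟨(Finset.mem_Ico.1 hk).1, (Finset.mem_Ico.1 hk).2.le⟩)
      rw [hrow k hk x, hs4, (hδ k hk).2, (hδ k hk).1] at h'
      exact h'

end Cfsg.Lib.Blocks.QuaternionDefect
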