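import Mathlib
import Cfsg.Agent.Blocks.QuaternionDefect.Shape

/-!
# Counting the rows of a 2-block with quaternion defect group

The columns of the central involution are orthogonal to the coherent rows and to the degrees, and
this decides how many characters there are and where the even and odd entries lie.
-/

set_option autoImplicit false
set_option linter.unusedSectionVars false

namespace Cfsg.Lib.Blocks.QuaternionDefect

open Cfsg.Lib.Blocks.DihedralDefect (unit_support)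

variable {ι : Type*} [DecidableEq ι]

/-- A vector killing the rows, with a short length and odd entries at the four places. -/
structure Short (T : Finset ι) (g : ℕ) (F O : ℕ → ι → ℤ) (L x : ι → ℤ) : Prop where
  par : ∀ χ ∈ T, (Odd (x χ) ↔ Odd (F g χ))
  norm : ∑ χ ∈ T, x χ * x χ ≤ 8
  perpF : ∀ s ∈ Finset.Icc 1 g, ∑ χ ∈ T, F s χ * x χ = 0
  perpO : ∀ s ∈ Finset.Ico 1 g, ∑ χ ∈ T, O s χ * x χ = 0
  perpL : ∑ χ ∈ T, L χ * x χ = 0

/-- The rows and the columns at the central involution. -/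
structure RowSystem (T : Finset ι) (g m : ℕ) (F O : ℕ → ι → ℤ) (L u : ι → ℤ)
    (w : Fin m → ι → ℤ) (x : ι → ℤ) : Prop where
  pos : 0 < g
  two : g = 1 ∨ g = 2 ∨ 4 ∣ g
  deg : ∀ χ ∈ T, 0 < L χ
  gramF : ∀ i ∈ Finset.Ico 1 g, ∀ j ∈ Finset.Ico 1 g,
    ∑ χ ∈ T, F i χ * F j χ = if i = j then 3 else 2
  gramT : ∀ i ∈ Finset.Ico 1 g, ∑ χ ∈ T, F i χ * F g χ = 2
  gramTT : ∑ χ ∈ T, F g χ * F g χ = 4
  gramO : ∀ i ∈ Finset.Ico 1 g, ∀ j ∈ Finset.Ico 1 g,
    ∑ χ ∈ T, O i χ * O j χ = if i = j then 2 else 1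
  gramFO : ∀ i ∈ Finset.Icc 1 g, ∀ j ∈ Finset.Ico 1 g, ∑ χ ∈ T, F i χ * O j χ = 0
  degF : ∀ i ∈ Finset.Icc 1 g, ∑ χ ∈ T, F i χ * L χ = 0
  odd : ∃ χ ∈ T, Odd (F g χ)
  par : ∀ χ ∈ T, (Odd (u χ) ↔ Odd (F g χ))
  normu : ∑ χ ∈ T, u χ * u χ = 8 * g
  perpuF : ∀ s ∈ Finset.Icc 1 g, ∑ χ ∈ T, F s χ * u χ = 0
  perpuO : ∀ s ∈ Finset.Ico 1 g, ∑ χ ∈ T, O s χ * u χ = 0
  short : ∀ j, Short T g F O L (w j)
  witness : Short T g F O L x
  ne : ∀ χ ∈ T, u χ ≠ 0 ∨ ∃ j, w j χ ≠ 0

namespace RowSystem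

variable {T : Finset ι} {g m : ℕ} {F O : ℕ → ι → ℤ} {L u : ι → ℤ} {w : Fin m → ι → ℤ}
  {x : ι → ℤ} (K : RowSystem T g m F O L u w x)

include K

lemma odd_sq {a : ℤ} (h : Odd a) : 1 ≤ a * a := by
  have : a ≠ 0 := fun e => by simp [e] at h
  have := mul_self_pos.2 this
  omega

omit K in
lemma even_sq {a : ℤ} (h : ¬ Odd a) (h0 : a ≠ 0) : 4 ≤ a * a := by
  obtain ⟨k, rfl⟩ := Int.not_odd_iff_even.1 h
  have : k ≠ 0 := fun e => h0 (by simp [e])
  have := mul_self_pos.2 this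
  nlinarith

/-- The rows have the regular shape. -/
theorem shape : Nonempty (Shape T g F) := by
  rcases shape_or_collision K.pos K.two K.gramF K.gramT K.gramTT K.odd with h | ⟨-, y, b, hy, hb, hy0, hbo, h⟩
  · exact h
  exfalso
  have h1 := h x K.witness.perpF
  have hsub : ∑ χ ∈ insert y (T.filter (F g · ≠ 0)), x χ * x χ ≤ 8 :=
    (Finset.sum_le_sum_of_subset_of_nonneg (Finset.insert_subset hy (Finset.filter_subset _ _))
      fun a _ _ => mul_self_nonneg _).trans K.witness.norm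
  have := K.odd_sq ((K.witness.par b hb).2 hbo)
  omega

variable (S : Shape T g F)

lemma odd_iff {χ : ι} (hχ : χ ∈ T) : Odd (F g χ) ↔ χ ∈ S.H := by
  constructor
  · intro h
    by_contra hne
    rw [S.zero χ hχ hne] at h
    simp at h
  · intro h
    rcases S.one χ h with e | e <;> rw [e] <;> decide

lemma u_odd {χ : ι} (hχ : χ ∈ T) : Odd (u χ) ↔ χ ∈ S.H := (K.par χ hχ).trans (K.odd_iff S hχ)

variable {z : ι → ℤ} (hz : Short T g F O L z)
include hz

lemma z_odd {χ : ι} (hχ : χ ∈ T) : Odd (z χ) ↔ χ ∈ S.H := (hz.par χ hχ).trans (K.odd_iff S hχ)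

/-- A short vector vanishes at the single places. -/
theorem y_zero {s : ℕ} (hs : s ∈ Finset.Ico 1 g) : z (S.y s) = 0 := by
  by_contra hne
  have hg2 : 2 ≤ g := by have := Finset.mem_Ico.1 hs; omega
  have htop := hz.perpF g (Finset.mem_Icc.2 ⟨K.pos, le_rfl⟩)
  rw [S.sum_top] at htop
  set c := F g S.a * z S.a + F g S.b * z S.b with hc
  have hrow : ∀ t ∈ Finset.Ico 1 g, F t (S.y t) * z (S.y t) = -c := fun t ht => by
    have := hz.perpF t (Finset.mem_Icc.2 ⟨(Finset.mem_Ico.1 ht).1, (Finset.mem_Ico.1 ht).2.le⟩)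
    rw [S.sum_row z ht, ← hc] at this
    linarith
  have hyev : ∀ t ∈ Finset.Ico 1 g, ¬ Odd (z (S.y t)) := fun t ht h =>
    S.y_out t ht ((K.z_odd S hz (S.y_mem t ht)).1 h)
  have hc0 : c ≠ 0 := fun e => hne (by
    have := hrow s hs
    rw [e, neg_zero, mul_eq_zero] at this
    rcases S.y_one s hs with e' | e' <;> rw [e'] at this <;> simpa using this)
  have hyne : ∀ t ∈ Finset.Ico 1 g, z (S.y t) ≠ 0 := fun t ht e => hc0 (by
    have := hrow t ht
    rw [e, mul_zero] at this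
    linarith)
  have hHsq : ∀ χ ∈ S.H, 1 ≤ z χ * z χ := fun χ hχ =>
    K.odd_sq ((K.z_odd S hz (S.mem hχ)).2 hχ)
  have hle : ∑ χ ∈ S.H ∪ S.Y, z χ * z χ ≤ 8 :=
    (Finset.sum_le_sum_of_subset_of_nonneg S.HY_subset fun a _ _ => mul_self_nonneg _).trans hz.norm
  rw [Finset.sum_union S.disjoint_HY] at hle
  have hY : (((g - 1 : ℕ) : ℤ)) * 4 ≤ ∑ χ ∈ S.Y, z χ * z χ := by
    rw [← S.card_Y, ← nsmul_eq_mul, ← Finset.sum_const]
    refine Finset.sum_le_sum fun χ hχ => ?_
    obtain ⟨t, ht, rfl⟩ := Finset.mem_image.1 hχ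
    exact even_sq (hyev t ht) (hyne t ht)
  have hH : 4 ≤ ∑ χ ∈ S.H, z χ * z χ := by
    rw [S.sum_H fun χ => z χ * z χ]
    have := hHsq S.a (by simp [S.mem_H])
    have := hHsq S.b (by simp [S.mem_H])
    have := hHsq S.c (by simp [S.mem_H])
    have := hHsq S.d (by simp [S.mem_H])
    linarith
  obtain rfl : g = 2 := by omega
  obtain rfl : s = 1 := by have := Finset.mem_Ico.1 hs; omega
  have hYs : S.Y = {S.y 1} := by simp [Shape.Y]
  rw [hYs, Finset.sum_singleton, S.sum_H fun χ => z χ * z χ] at hle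
  have hy4 := even_sq (hyev 1 hs) (hyne 1 hs)
  have one : ∀ χ ∈ S.H, z χ * z χ = 1 := by
    intro χ hχ
    have h1 := hHsq S.a (by simp [S.mem_H])
    have h2 := hHsq S.b (by simp [S.mem_H])
    have h3 := hHsq S.c (by simp [S.mem_H])
    have h4 := hHsq S.d (by simp [S.mem_H])
    rcases S.mem_H.1 hχ with rfl | rfl | rfl | rfl <;> linarith
  -- the support of the vector
  have hsupp : ∀ χ ∈ T, χ ∉ S.H ∪ S.Y → z χ = 0 := by
    intro χ hχ hne'
    by_contra h0
    have hχH : χ ∉ S.H := fun h => hne' (Finset.mem_union_left _ h)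
    have h4 := even_sq (fun h => hχH ((K.z_odd S hz hχ).1 h)) h0
    have h5 : ∑ ψ ∈ insert χ (S.H ∪ S.Y), z ψ * z ψ ≤ 8 :=
      (Finset.sum_le_sum_of_subset_of_nonneg (Finset.insert_subset hχ S.HY_subset)
        fun a _ _ => mul_self_nonneg _).trans hz.norm
    rw [Finset.sum_insert hne', Finset.sum_union S.disjoint_HY, hYs, Finset.sum_singleton,
      S.sum_H fun χ => z χ * z χ] at h5
    have := one S.a (by simp [S.mem_H])
    have := one S.b (by simp [S.mem_H])
    have := one S.c (by simp [S.mem_H])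
    have := one S.d (by simp [S.mem_H])
    linarith
  have hL := hz.perpL
  rw [← Finset.sum_subset S.HY_subset (fun χ hχ hne' => by rw [hsupp χ hχ hne', mul_zero]),
    Finset.sum_union S.disjoint_HY, hYs, Finset.sum_singleton, S.sum_H fun χ => L χ * z χ] at hL
  have hLy := K.deg _ (S.y_mem 1 hs)
  have d1 := K.degF 1 (by simp)
  have d2 := K.degF 2 (by simp)
  rw [S.sum_row L hs] at d1
  rw [S.sum_top] at d2
  -- the four signs
  have hpm : ∀ χ ∈ S.H, F 2 χ * z χ = 1 ∨ F 2 χ * z χ = -1 := fun χ hχ => by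
    refine mul_self_eq_one_iff.1 ?_
    calc F 2 χ * z χ * (F 2 χ * z χ) = F 2 χ * F 2 χ * (z χ * z χ) := by ring
      _ = 1 := by rw [S.sq_one hχ, one χ hχ, mul_one]
  have hr := hrow 1 hs
  have hval : ∀ χ ∈ S.H, L χ * z χ = F 2 χ * L χ * (F 2 χ * z χ) := fun χ hχ => by
    linear_combination -(L χ * z χ) * S.sq_one hχ
  have hvaly : L (S.y 1) * z (S.y 1) = F 1 (S.y 1) * L (S.y 1) * (F 1 (S.y 1) * z (S.y 1)) := by
    linear_combination -(L (S.y 1) * z (S.y 1)) * S.sq_y hs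
  rw [hval S.a (by simp [S.mem_H]), hval S.b (by simp [S.mem_H]), hval S.c (by simp [S.mem_H]),
    hval S.d (by simp [S.mem_H]), hvaly, hr] at hL
  have hLne : F 1 (S.y 1) * L (S.y 1) ≠ 0 := by
    rcases S.y_one 1 hs with e | e <;> rw [e] <;> omega
  rw [hc] at htop hc0 hL
  rcases hpm S.a (by simp [S.mem_H]) with ea | ea <;> rcases hpm S.b (by simp [S.mem_H]) with eb | eb <;>
    rcases hpm S.c (by simp [S.mem_H]) with ec | ec <;> rcases hpm S.d (by simp [S.mem_H]) with ed | ed <;>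
    rw [ea, eb, ec, ed] at htop <;> (try omega) <;>
    rw [ea, eb] at hc0 <;> rw [ea, eb, ec, ed] at hL <;> omega

/-- At the two places of a row the signed entries are opposite. -/
theorem pair_zero (hg2 : 2 ≤ g) :
    F g S.a * z S.a + F g S.b * z S.b = 0 ∧ F g S.c * z S.c + F g S.d * z S.d = 0 := by
  have hs : 1 ∈ Finset.Ico 1 g := Finset.mem_Ico.2 ⟨le_rfl, by omega⟩
  have h1 := hz.perpF 1 (Finset.mem_Icc.2 ⟨le_rfl, K.pos⟩)
  rw [S.sum_row z hs, K.y_zero S hz hs, mul_zero, zero_add] at h1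
  have h2 := hz.perpF g (Finset.mem_Icc.2 ⟨K.pos, le_rfl⟩)
  rw [S.sum_top] at h2
  exact ⟨h1, by linarith⟩

omit hz

/-- The column `u` does not vanish at the single places. -/
theorem u_y_ne {s : ℕ} (hs : s ∈ Finset.Ico 1 g) : u (S.y s) ≠ 0 := by
  intro h
  rcases K.ne _ (S.y_mem s hs) with h' | ⟨j, hj⟩
  · exact h' h
  · exact hj (K.y_zero S (K.short j) hs)

/-- An odd row has two places, away from those of the even rows. -/
theorem odd_row {s : ℕ} (hs : s ∈ Finset.Ico 1 g) :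
    ∃ p q : ι, p ≠ q ∧ p ∈ T ∧ q ∈ T ∧ p ∉ S.H ∪ S.Y ∧ q ∉ S.H ∪ S.Y ∧
      (O s p = 1 ∨ O s p = -1) ∧ (O s q = 1 ∨ O s q = -1) ∧
      ∀ χ ∈ T, χ ≠ p → χ ≠ q → O s χ = 0 := by
  have hg2 : 2 ≤ g := by have := Finset.mem_Ico.1 hs; omega
  have hnorm : ∑ χ ∈ T, O s χ * O s χ = 2 := by rw [K.gramO s hs s hs, if_pos rfl]
  have hb : ∀ χ ∈ T, O s χ = 0 ∨ O s χ = 1 ∨ O s χ = -1 := fun χ hχ => by
    have hle : O s χ * O s χ ≤ 2 :=
      hnorm ▸ Finset.single_le_sum (f := fun χ => O s χ * O s χ) (fun a _ => mul_self_nonneg _) hχ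
    have : -1 ≤ O s χ := by nlinarith
    have : O s χ ≤ 1 := by nlinarith
    omega
  obtain ⟨p, q, hpq, hS⟩ := Finset.card_eq_two.1 (unit_support T (O s) (N := 2) hnorm hb)
  have hin : ∀ a, a = p ∨ a = q → a ∈ T ∧ (O s a = 1 ∨ O s a = -1) := fun a ha => by
    have : a ∈ T.filter (O s · ≠ 0) := by rw [hS]; simpa using ha
    exact ⟨(Finset.mem_filter.1 this).1,
      (hb a (Finset.mem_filter.1 this).1).resolve_left (Finset.mem_filter.1 this).2⟩
  have hz0 : ∀ χ ∈ T, χ ≠ p → χ ≠ q → O s χ = 0 := fun χ hχ h1 h2 => by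
    by_contra h
    have : χ ∈ T.filter (O s · ≠ 0) := Finset.mem_filter.2 ⟨hχ, h⟩
    simp [hS, h1, h2] at this
  obtain ⟨hpT, hp⟩ := hin p (Or.inl rfl)
  obtain ⟨hqT, hq⟩ := hin q (Or.inr rfl)
  have hsum : ∀ f : ι → ℤ, ∑ χ ∈ T, O s χ * f χ = O s p * f p + O s q * f q := fun f => by
    rw [← Finset.sum_pair (f := fun χ => O s χ * f χ) hpq]
    refine (Finset.sum_subset (Finset.insert_subset hpT (Finset.singleton_subset_iff.2 hqT))
      fun χ hχ hne => ?_).symm
    simp only [Finset.mem_insert, Finset.mem_singleton, not_or] at hne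
    rw [hz0 χ hχ hne.1 hne.2, zero_mul]
  have hu := K.perpuO s hs
  rw [hsum] at hu
  have hHiff : p ∈ S.H ↔ q ∈ S.H := by
    rw [← K.u_odd S hpT, ← K.u_odd S hqT]
    rcases hp with e | e <;> rcases hq with e' | e' <;> rw [e, e'] at hu
    all_goals
      constructor <;> rintro ⟨k, hk⟩
      · first | exact ⟨k, by linarith⟩ | exact ⟨-k - 1, by linarith⟩
      · first | exact ⟨k, by linarith⟩ | exact ⟨-k - 1, by linarith⟩
  -- not among the four
  have hnotH : p ∉ S.H := by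
    intro hpH
    have hqH := hHiff.1 hpH
    have hx := K.witness.perpO s hs
    rw [hsum] at hx
    obtain ⟨h1, h2⟩ := K.pair_zero S K.witness hg2
    have hxa : ∀ χ ∈ S.H, x χ ≠ 0 := fun χ hχ e => by
      have := (K.z_odd S K.witness (S.mem hχ)).2 hχ
      simp [e] at this
    have hg' : g ∈ Finset.Icc 1 g := Finset.mem_Icc.2 ⟨K.pos, le_rfl⟩
    have htop := K.gramFO g hg' s hs
    rw [S.sum_top] at htop
    have h1m : 1 ∈ Finset.Ico 1 g := Finset.mem_Ico.2 ⟨le_rfl, by omega⟩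
    have hrow := K.gramFO 1 (Finset.mem_Icc.2 ⟨le_rfl, K.pos⟩) s hs
    rw [S.sum_row (O s) h1m] at hrow
    have hy0 : O s (S.y 1) = 0 := hz0 _ (S.y_mem 1 h1m) (fun e => S.y_out 1 h1m (e ▸ hpH))
      (fun e => S.y_out 1 h1m (e ▸ hqH))
    rw [hy0, mul_zero, zero_add] at hrow
    have hoff : ∀ χ ∈ T, χ ∉ S.H → O s χ = 0 := fun χ hχ hne =>
      hz0 χ hχ (fun e => hne (e ▸ hpH)) (fun e => hne (e ▸ hqH))
    have hn2 := hnorm
    rw [← Finset.sum_subset S.H_subset (fun χ hχ hne => by rw [hoff χ hχ hne, zero_mul])] at hn2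
    rw [S.sum_H fun χ => O s χ * O s χ] at hn2
    have hx' := K.witness.perpO s hs
    rw [← Finset.sum_subset S.H_subset (fun χ hχ hne => by rw [hoff χ hχ hne, zero_mul])] at hx'
    rw [S.sum_H fun χ => O s χ * x χ] at hx'
    have ea := S.sq_one (χ := S.a) (by simp [S.mem_H])
    have eb := S.sq_one (χ := S.b) (by simp [S.mem_H])
    have ec := S.sq_one (χ := S.c) (by simp [S.mem_H])
    have ed := S.sq_one (χ := S.d) (by simp [S.mem_H])
    set A := F g S.a * O s S.a with hA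
    set C := F g S.c * O s S.c with hC
    have hB : F g S.b * O s S.b = -A := by linarith
    have hD : F g S.d * O s S.d = -C := by linarith
    have hAC : A * A + C * C = 1 := by
      have e1 : A * A = O s S.a * O s S.a := by rw [hA]; linear_combination (O s S.a * O s S.a) * ea
      have e2 : A * A = O s S.b * O s S.b := by
        rw [show A = -(F g S.b * O s S.b) by linarith]
        linear_combination (O s S.b * O s S.b) * eb
      have e3 : C * C = O s S.c * O s S.c := by rw [hC]; linear_combination (O s S.c * O s S.c) * ec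
      have e4 : C * C = O s S.d * O s S.d := by
        rw [show C = -(F g S.d * O s S.d) by linarith]
        linear_combination (O s S.d * O s S.d) * ed
      linarith
    have hXX : A * (F g S.a * x S.a) + C * (F g S.c * x S.c) = 0 := by
      have e1 : A * (F g S.a * x S.a) = O s S.a * x S.a := by
        rw [hA]; linear_combination (O s S.a * x S.a) * ea
      have e2 : A * (F g S.a * x S.a) = O s S.b * x S.b := by
        rw [show A = -(F g S.b * O s S.b) by linarith,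
          show F g S.a * x S.a = -(F g S.b * x S.b) by linarith]
        linear_combination (O s S.b * x S.b) * eb
      have e3 : C * (F g S.c * x S.c) = O s S.c * x S.c := by
        rw [hC]; linear_combination (O s S.c * x S.c) * ec
      have e4 : C * (F g S.c * x S.c) = O s S.d * x S.d := by
        rw [show C = -(F g S.d * O s S.d) by linarith,
          show F g S.c * x S.c = -(F g S.d * x S.d) by linarith]
        linear_combination (O s S.d * x S.d) * ed
      linarith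
    have hne' : ∀ χ ∈ S.H, F g χ * x χ ≠ 0 := fun χ hχ =>
      mul_ne_zero (fun e => by simpa [e] using S.sq_one hχ) (hxa χ hχ)
    by_cases hA0 : A = 0
    · rw [hA0, zero_mul, zero_add, mul_eq_zero] at hXX
      rw [hA0, mul_zero, zero_add] at hAC
      rcases hXX with e | e
      · rw [e] at hAC; norm_num at hAC
      · exact hne' S.c (by simp [S.mem_H]) e
    · have hA1 := mul_self_pos.2 hA0
      have hC0 : C = 0 := mul_self_eq_zero.1 (by have := mul_self_nonneg C; omega)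
      rw [hC0, zero_mul, add_zero, mul_eq_zero] at hXX
      exact hXX.elim hA0 (hne' S.a (by simp [S.mem_H]))
  have hqH : q ∉ S.H := fun h => hnotH (hHiff.2 h)
  -- not among the single places
  have hnotY : ∀ a b, a ≠ b → (∀ χ ∈ T, χ ≠ a → χ ≠ b → O s χ = 0) → (O s a = 1 ∨ O s a = -1) →
      a ∉ S.H → b ∉ S.H → a ∉ S.Y := by
    intro a b hab hz' ha haH hbH haY
    obtain ⟨t, ht, rfl⟩ := Finset.mem_image.1 haY
    have h := K.gramFO t (Finset.mem_Icc.2 ⟨(Finset.mem_Ico.1 ht).1, (Finset.mem_Ico.1 ht).2.le⟩) s hs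
    rw [Finset.sum_eq_single (S.y t) (fun χ hχ hne => by
        by_cases hcb : χ = b
        · rw [hcb, S.row_zero ht (hcb ▸ hχ) hab.symm hbH, zero_mul]
        · rw [hz' χ hχ hne hcb, mul_zero]) (fun e => absurd (S.y_mem t ht) e)] at h
    rcases S.y_one t ht with e | e <;> rcases ha with e' | e' <;> rw [e, e'] at h <;> omega
  refine ⟨p, q, hpq, hpT, hqT, ?_, ?_, hp, hq, hz0⟩
  · rw [Finset.mem_union, not_or]
    exact ⟨hnotH, hnotY p q hpq hz0 hp hnotH hqH⟩
  · rw [Finset.mem_union, not_or]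
    exact ⟨hqH, hnotY q p hpq.symm (fun χ hχ a b => hz0 χ hχ b a) hq hqH hnotH⟩

/-- The places of the odd rows. -/
theorem odd_places (hg2 : 2 ≤ g) :
    ∃ Φ : Finset ι, Φ ⊆ T ∧ Disjoint (S.H ∪ S.Y) Φ ∧ Φ.card = g ∧ ∀ χ ∈ Φ, u χ ≠ 0 := by
  have hex : ∀ s, ∃ p q : ι, s ∈ Finset.Ico 1 g → p ≠ q ∧ p ∈ T ∧ q ∈ T ∧ p ∉ S.H ∪ S.Y ∧
      q ∉ S.H ∪ S.Y ∧ (O s p = 1 ∨ O s p = -1) ∧ (O s q = 1 ∨ O s q = -1) ∧
      ∀ χ ∈ T, χ ≠ p → χ ≠ q → O s χ = 0 := by
    intro s
    by_cases hs : s ∈ Finset.Ico 1 g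
    · obtain ⟨p, q, h⟩ := K.odd_row S hs
      exact ⟨p, q, fun _ => h⟩
    · exact ⟨S.a, S.a, fun e => absurd e hs⟩
  choose p q hpq using hex
  set P : ℕ → Finset ι := fun s => {p s, q s} with hP
  have hPT : ∀ s ∈ Finset.Ico 1 g, P s ⊆ T := fun s hs =>
    Finset.insert_subset (hpq s hs).2.1 (Finset.singleton_subset_iff.2 (hpq s hs).2.2.1)
  have hsum : ∀ s ∈ Finset.Ico 1 g, ∀ f : ι → ℤ,
      ∑ χ ∈ T, O s χ * f χ = ∑ χ ∈ P s, O s χ * f χ := fun s hs f => by
    refine (Finset.sum_subset (hPT s hs) fun χ hχ hne => ?_).symm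
    simp only [hP, Finset.mem_insert, Finset.mem_singleton, not_or] at hne
    rw [(hpq s hs).2.2.2.2.2.2.2 χ hχ hne.1 hne.2, zero_mul]
  have hone : ∀ s ∈ Finset.Ico 1 g, ∀ χ ∈ P s, O s χ = 1 ∨ O s χ = -1 := fun s hs χ hχ => by
    simp only [hP, Finset.mem_insert, Finset.mem_singleton] at hχ
    rcases hχ with rfl | rfl
    · exact (hpq s hs).2.2.2.2.2.1
    · exact (hpq s hs).2.2.2.2.2.2.1
  -- two rows share exactly one place, with equal entries
  have hmeet : ∀ s ∈ Finset.Ico 1 g, ∀ t ∈ Finset.Ico 1 g, s ≠ t →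
      ∃ r, P s ∩ P t = {r} ∧ O s r = O t r := by
    intro s hs t ht hne
    have h := K.gramO s hs t ht
    rw [if_neg hne, hsum s hs, ← Finset.sum_filter_of_ne (p := (· ∈ P t)) fun χ hχ hne' => by
      by_contra hnot
      simp only [hP, Finset.mem_insert, Finset.mem_singleton, not_or] at hnot
      exact hne' (by rw [(hpq t ht).2.2.2.2.2.2.2 χ (hPT s hs hχ) hnot.1 hnot.2, mul_zero]),
      Finset.filter_mem_eq_inter] at h
    have hpm : ∀ χ ∈ P s ∩ P t, O s χ * O t χ = 1 ∨ O s χ * O t χ = -1 := fun χ hχ => by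
      obtain ⟨h1, h2⟩ := Finset.mem_inter.1 hχ
      rcases hone s hs χ h1 with e | e <;> rcases hone t ht χ h2 with e' | e' <;> rw [e, e'] <;> simp
    have hle : (P s ∩ P t).card ≤ 2 :=
      (Finset.card_le_card Finset.inter_subset_left).trans (Finset.card_le_two)
    have h1 : (P s ∩ P t).card = 1 := by
      rcases Nat.lt_trichotomy (P s ∩ P t).card 1 with h0 | h0 | h0
      · rw [Finset.card_eq_zero.1 (by omega : (P s ∩ P t).card = 0), Finset.sum_empty] at h
        norm_num at h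
      · exact h0
      · obtain ⟨a, b, hab, e⟩ := Finset.card_eq_two.1 (show (P s ∩ P t).card = 2 by omega)
        rw [e, Finset.sum_pair hab] at h
        rcases hpm a (by simp [e]) with e1 | e1 <;> rcases hpm b (by simp [e]) with e2 | e2 <;>
          rw [e1, e2] at h <;> omega
    obtain ⟨r, hr⟩ := Finset.card_eq_one.1 h1
    refine ⟨r, hr, ?_⟩
    rw [hr, Finset.sum_singleton] at h
    obtain ⟨h1', h2'⟩ := Finset.mem_inter.1 (show r ∈ P s ∩ P t by simp [hr])
    rcases hone s hs r h1' with e | e <;> rcases hone t ht r h2' with e' | e' <;>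
      rw [e, e'] at h ⊢ <;> omega
  have h1m : 1 ∈ Finset.Ico 1 g := Finset.mem_Ico.2 ⟨le_rfl, by omega⟩
  -- a common place
  obtain ⟨c, hc1, hcall⟩ : ∃ c ∈ P 1, ∀ s ∈ Finset.Ico 1 g, c ∈ P s := by
    by_contra hno
    push Not at hno
    obtain ⟨s, hs, hps⟩ := hno (p 1) (by simp [hP])
    obtain ⟨t, ht, hqt⟩ := hno (q 1) (by simp [hP])
    have hs1 : s ≠ 1 := fun e => hps (e ▸ by simp [hP])
    have ht1 : t ≠ 1 := fun e => hqt (e ▸ by simp [hP])
    obtain ⟨r, hr, er⟩ := hmeet 1 h1m s hs hs1.symm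
    obtain ⟨r', hr', er'⟩ := hmeet 1 h1m t ht ht1.symm
    have hrq : r = q 1 := by
      have hm : r ∈ P 1 ∩ P s := by simp [hr]
      obtain ⟨h1, h2⟩ := Finset.mem_inter.1 hm
      simp only [hP, Finset.mem_insert, Finset.mem_singleton] at h1
      exact h1.resolve_left fun e => hps (e ▸ h2)
    have hrp : r' = p 1 := by
      have hm : r' ∈ P 1 ∩ P t := by simp [hr']
      obtain ⟨h1, h2⟩ := Finset.mem_inter.1 hm
      simp only [hP, Finset.mem_insert, Finset.mem_singleton] at h1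
      exact h1.resolve_right fun e => hqt (e ▸ h2)
    subst hrq; subst hrp
    have hqs : q 1 ∈ P s := (Finset.mem_inter.1 (show q 1 ∈ P 1 ∩ P s by simp [hr])).2
    have hpt : p 1 ∈ P t := (Finset.mem_inter.1 (show p 1 ∈ P 1 ∩ P t by simp [hr'])).2
    obtain ⟨o, ho, eo⟩ := hmeet s hs t ht fun e => hps (e ▸ hpt)
    obtain ⟨hos, hot⟩ := Finset.mem_inter.1 (show o ∈ P s ∩ P t by simp [ho])
    have hop : o ≠ p 1 := fun e => hps (e ▸ hos)
    have hoq : o ≠ q 1 := fun e => hqt (e ▸ hot)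
    have pair : ∀ (k : ℕ) (a b : ι), k ∈ Finset.Ico 1 g → a ∈ P k → b ∈ P k → a ≠ b →
        ∀ f : ι → ℤ, ∑ χ ∈ T, O k χ * f χ = O k a * f a + O k b * f b := by
      intro k a b hk ha hb hab f
      rw [hsum k hk, ← Finset.sum_pair (f := fun χ => O k χ * f χ) hab]
      refine Finset.sum_congr (Finset.eq_of_subset_of_card_le (Finset.insert_subset ha
        (Finset.singleton_subset_iff.2 hb)) ?_).symm fun _ _ => rfl
      rw [Finset.card_pair hab]
      exact Finset.card_le_two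
    have hpq1 := (hpq 1 h1m).1
    have zero : ∀ f : ι → ℤ, (∀ k ∈ Finset.Ico 1 g, ∑ χ ∈ T, O k χ * f χ = 0) → f o = 0 := by
      intro f hf
      have e1 := hf 1 h1m
      have e2 := hf s hs
      have e3 := hf t ht
      rw [pair 1 (p 1) (q 1) h1m (by simp [hP]) (by simp [hP]) hpq1] at e1
      rw [pair s (q 1) o hs hqs hos hoq.symm, ← er] at e2
      rw [pair t (p 1) o ht hpt hot hop.symm, ← er', ← eo] at e3
      rcases hone 1 h1m (p 1) (by simp [hP]) with a | a <;>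
        rcases hone 1 h1m (q 1) (by simp [hP]) with b | b <;>
        rcases hone s hs o hos with d | d <;>
        rw [a, b] at e1 <;> rw [b, d] at e2 <;> rw [a, d] at e3 <;> linarith
    rcases K.ne o (hPT s hs hos) with h | ⟨j, hj⟩
    · exact h (zero u K.perpuO)
    · exact hj (zero (w j) (K.short j).perpO)
  -- the other places
  have hlex : ∀ s, ∃ l, s ∈ Finset.Ico 1 g → l ≠ c ∧ P s = {c, l} := by
    intro s
    by_cases hs : s ∈ Finset.Ico 1 g
    · have hc := hcall s hs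
      simp only [hP, Finset.mem_insert, Finset.mem_singleton] at hc
      rcases hc with e | e
      · exact ⟨q s, fun _ => ⟨e ▸ (hpq s hs).1.symm, by simp only [hP]; rw [e]⟩⟩
      · exact ⟨p s, fun _ => ⟨e ▸ (hpq s hs).1, by simp only [hP]; rw [e, Finset.pair_comm]⟩⟩
    · exact ⟨c, fun e => absurd e hs⟩
  choose l hl using hlex
  have hlinj : Set.InjOn l (Finset.Ico 1 g : Set ℕ) := by
    intro s hs t ht e
    rw [Finset.mem_coe] at hs ht
    by_contra hne
    obtain ⟨r, hr, -⟩ := hmeet s hs t ht hne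
    rw [(hl s hs).2, (hl t ht).2, e, Finset.inter_self] at hr
    have := congrArg Finset.card hr
    rw [Finset.card_pair (hl t ht).1.symm, Finset.card_singleton] at this
    omega
  set Φ := insert c ((Finset.Ico 1 g).image l) with hΦ
  have hΦsub : ∀ χ ∈ Φ, ∃ s ∈ Finset.Ico 1 g, χ ∈ P s := by
    intro χ hχ
    rcases Finset.mem_insert.1 hχ with rfl | hχ
    · exact ⟨1, h1m, hc1⟩
    · obtain ⟨s, hs, rfl⟩ := Finset.mem_image.1 hχ
      exact ⟨s, hs, by rw [(hl s hs).2]; simp⟩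
  have hΦT : Φ ⊆ T := fun χ hχ => by
    obtain ⟨s, hs, h⟩ := hΦsub χ hχ
    exact hPT s hs h
  have hΦd : Disjoint (S.H ∪ S.Y) Φ := Finset.disjoint_right.2 fun χ hχ => by
    obtain ⟨s, hs, h⟩ := hΦsub χ hχ
    simp only [hP, Finset.mem_insert, Finset.mem_singleton] at h
    rcases h with rfl | rfl
    · exact (hpq s hs).2.2.2.1
    · exact (hpq s hs).2.2.2.2.1
  have hΦc : Φ.card = g := by
    rw [hΦ, Finset.card_insert_of_notMem, Finset.card_image_of_injOn hlinj, Nat.card_Ico]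
    · omega
    · intro h
      obtain ⟨s, hs, e⟩ := Finset.mem_image.1 h
      exact (hl s hs).1 e
  refine ⟨Φ, hΦT, hΦd, hΦc, ?_⟩
  -- equal magnitudes
  have mag : ∀ (f : ι → ℤ), (∀ k ∈ Finset.Ico 1 g, ∑ χ ∈ T, O k χ * f χ = 0) →
      ∀ χ ∈ Φ, f χ * f χ = f c * f c := by
    intro f hf χ hχ
    rcases Finset.mem_insert.1 hχ with rfl | hχ
    · rfl
    · obtain ⟨s, hs, rfl⟩ := Finset.mem_image.1 hχ
      have h := hf s hs
      rw [hsum s hs, (hl s hs).2, Finset.sum_pair (hl s hs).1.symm] at h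
      rcases hone s hs c (hcall s hs) with a | a <;>
        rcases hone s hs (l s) (by rw [(hl s hs).2]; simp) with b | b <;> rw [a, b] at h
      · rw [show f (l s) = -f c by linarith]; ring
      · rw [show f (l s) = f c by linarith]
      · rw [show f (l s) = f c by linarith]
      · rw [show f (l s) = -f c by linarith]; ring
  intro χ hχ h0
  have hc0 : u c = 0 := mul_self_eq_zero.1 (by rw [← mag u K.perpuO χ hχ, h0, mul_zero])
  have hcΦ : c ∈ Φ := Finset.mem_insert_self _ _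
  rcases K.ne c (hΦT hcΦ) with h | ⟨j, hj⟩
  · exact h hc0
  have hnot : ∀ a ∈ Φ, a ∉ S.H := fun a ha h =>
    Finset.disjoint_right.1 hΦd ha (Finset.mem_union_left _ h)
  have h4 : ∀ a ∈ Φ, 4 ≤ w j a * w j a := fun a ha => by
    rw [mag (w j) (K.short j).perpO a ha]
    exact even_sq (fun h => hnot c hcΦ ((K.z_odd S (K.short j) (hΦT hcΦ)).1 h)) hj
  have hbig : (4 : ℤ) + g * 4 ≤ 8 := by
    refine le_trans ?_ (K.short j).norm
    refine le_trans ?_ (Finset.sum_le_sum_of_subset_of_nonneg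
      (Finset.union_subset S.H_subset hΦT) fun a _ _ => mul_self_nonneg _)
    rw [Finset.sum_union (s₂ := Φ) (Finset.disjoint_left.2 fun a ha ha' => hnot a ha' ha)]
    refine add_le_add ?_ ?_
    · rw [show (4 : ℤ) = ∑ _a ∈ S.H, (1 : ℤ) by simp [S.card_H]]
      exact Finset.sum_le_sum fun a ha => K.odd_sq ((K.z_odd S (K.short j) (S.mem ha)).2 ha)
    · rw [← hΦc, ← nsmul_eq_mul, ← Finset.sum_const]
      exact Finset.sum_le_sum h4
  omega

/-- **The counts**. -/
theorem counts :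
    (T.filter fun χ => Odd (u χ)).card = 4 ∧ T.card ≤ 2 * g + 3 + m ∧
      (2 ≤ g → (T.filter fun χ => ¬ Odd (u χ) ∧ u χ ≠ 0).card = 2 * g - 1 ∧
        ∀ χ ∈ T, ¬ Odd (u χ) → u χ ≠ 0 → u χ = 2 ∨ u χ = -2) := by
  obtain ⟨S⟩ := K.shape
  have hH : (T.filter fun χ => Odd (u χ)) = S.H := by
    ext χ
    simp only [Finset.mem_filter]
    exact ⟨fun h => (K.u_odd S h.1).1 h.2, fun h => ⟨S.mem h, (K.u_odd S (S.mem h)).2 h⟩⟩
  set A := T.filter fun χ => ¬ Odd (u χ) ∧ u χ ≠ 0 with hA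
  have hdisA : Disjoint S.H A := by
    rw [← hH, Finset.disjoint_left]
    exact fun χ h h' => (Finset.mem_filter.1 h').2.1 (Finset.mem_filter.1 h).2
  have hH4 : (4 : ℤ) ≤ ∑ χ ∈ S.H, u χ * u χ := by
    rw [show (4 : ℤ) = ∑ _a ∈ S.H, (1 : ℤ) by simp [S.card_H]]
    exact Finset.sum_le_sum fun a ha => K.odd_sq ((K.u_odd S (S.mem ha)).2 ha)
  have hbudget : ∑ χ ∈ A, u χ * u χ ≤ 8 * g - 4 := by
    have h := Finset.sum_le_sum_of_subset_of_nonneg (f := fun χ => u χ * u χ)
      (Finset.union_subset S.H_subset (Finset.filter_subset _ T : A ⊆ T))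
      fun a _ _ => mul_self_nonneg _
    rw [Finset.sum_union hdisA, K.normu] at h
    linarith
  have hA4 : ∀ χ ∈ A, 4 ≤ u χ * u χ := fun χ hχ =>
    even_sq (Finset.mem_filter.1 hχ).2.1 (Finset.mem_filter.1 hχ).2.2
  have hAcard : (A.card : ℤ) * 4 ≤ 8 * g - 4 := by
    refine le_trans ?_ hbudget
    rw [← nsmul_eq_mul, ← Finset.sum_const]
    exact Finset.sum_le_sum hA4
  have hrest : (T.filter fun χ => u χ = 0).card ≤ m := by
    have hex : ∀ χ ∈ T.filter (fun χ => u χ = 0), ∃ j, w j χ ≠ 0 := fun χ hχ =>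
      (K.ne χ (Finset.mem_filter.1 hχ).1).resolve_left fun h => h (Finset.mem_filter.1 hχ).2
    choose f hf using hex
    refine le_trans ?_ (Fintype.card_fin m).le
    rw [← Fintype.card_coe]
    refine Fintype.card_le_of_injective (fun χ => f χ.1 χ.2) fun χ ψ e => ?_
    simp only at e
    by_contra hne
    have hn : ∀ a ∈ T.filter (fun χ => u χ = 0), a ∉ S.H := fun a ha h => by
      have := (K.u_odd S (S.mem h)).2 h
      simp [(Finset.mem_filter.1 ha).2] at this
    set j := f χ.1 χ.2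
    have h4 : ∀ a ∈ ({χ.1, ψ.1} : Finset ι), 4 ≤ w j a * w j a := by
      intro a ha
      simp only [Finset.mem_insert, Finset.mem_singleton] at ha
      have hw : w j a ≠ 0 ∧ a ∈ T.filter (fun χ => u χ = 0) := by
        rcases ha with rfl | rfl
        · exact ⟨hf _ χ.2, χ.2⟩
        · exact ⟨e ▸ hf _ ψ.2, ψ.2⟩
      exact even_sq (fun h => hn a hw.2 ((K.z_odd S (K.short j) (Finset.mem_filter.1 hw.2).1).1 h)) hw.1
    have hne' : χ.1 ≠ ψ.1 := fun e' => hne (Subtype.ext e')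
    have hsub : ({χ.1, ψ.1} : Finset ι) ⊆ T :=
      Finset.insert_subset (Finset.mem_filter.1 χ.2).1
        (Finset.singleton_subset_iff.2 (Finset.mem_filter.1 ψ.2).1)
    have hd : Disjoint S.H {χ.1, ψ.1} := Finset.disjoint_right.2 fun a ha => by
      simp only [Finset.mem_insert, Finset.mem_singleton] at ha
      rcases ha with rfl | rfl
      · exact hn _ χ.2
      · exact hn _ ψ.2
    have h := (Finset.sum_le_sum_of_subset_of_nonneg (f := fun a => w j a * w j a)
      (Finset.union_subset S.H_subset hsub) fun a _ _ => mul_self_nonneg _).trans (K.short j).norm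
    rw [Finset.sum_union hd, Finset.sum_pair hne'] at h
    have := h4 χ.1 (by simp)
    have := h4 ψ.1 (by simp)
    have : (4 : ℤ) ≤ ∑ a ∈ S.H, w j a * w j a := by
      rw [show (4 : ℤ) = ∑ _a ∈ S.H, (1 : ℤ) by simp [S.card_H]]
      exact Finset.sum_le_sum fun a ha => K.odd_sq ((K.z_odd S (K.short j) (S.mem ha)).2 ha)
    linarith
  have hcover : T ⊆ S.H ∪ A ∪ T.filter (fun χ => u χ = 0) := fun χ hχ => by
    by_cases h0 : u χ = 0
    · exact Finset.mem_union_right _ (Finset.mem_filter.2 ⟨hχ, h0⟩)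
    · refine Finset.mem_union_left _ ?_
      by_cases ho : Odd (u χ)
      · exact Finset.mem_union_left _ ((K.u_odd S hχ).1 ho)
      · exact Finset.mem_union_right _ (Finset.mem_filter.2 ⟨hχ, ho, h0⟩)
  refine ⟨by rw [hH, S.card_H], ?_, fun hg2 => ?_⟩
  · have h := (Finset.card_le_card hcover).trans
      ((Finset.card_union_le _ _).trans (Nat.add_le_add_right (Finset.card_union_le _ _) _))
    rw [S.card_H] at h
    omega
  obtain ⟨Φ, hΦT, hΦd, hΦc, hΦu⟩ := K.odd_places S hg2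
  have hsub : S.Y ∪ Φ ⊆ A := by
    refine Finset.union_subset (fun χ hχ => ?_) fun χ hχ => ?_
    · obtain ⟨s, hs, rfl⟩ := Finset.mem_image.1 hχ
      exact Finset.mem_filter.2 ⟨S.y_mem s hs, fun h => S.y_out s hs ((K.u_odd S (S.y_mem s hs)).1 h),
        K.u_y_ne S hs⟩
    · exact Finset.mem_filter.2 ⟨hΦT hχ, fun h => Finset.disjoint_right.1 hΦd hχ
        (Finset.mem_union_left _ ((K.u_odd S (hΦT hχ)).1 h)), hΦu χ hχ⟩
  have hlow := Finset.card_le_card hsub
  rw [Finset.card_union_of_disjoint (Finset.disjoint_of_subset_left Finset.subset_union_right hΦd),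
    S.card_Y, hΦc] at hlow
  have hAeq : A.card = 2 * g - 1 := by omega
  refine ⟨hAeq, fun χ hχ ho h0 => ?_⟩
  have hχA : χ ∈ A := Finset.mem_filter.2 ⟨hχ, ho, h0⟩
  have hχ4 : u χ * u χ ≤ 4 := by
    have h := Finset.sum_le_sum (s := A.erase χ) fun a ha => hA4 a (Finset.mem_of_mem_erase ha)
    rw [Finset.sum_const, Finset.card_erase_of_mem hχA, hAeq, nsmul_eq_mul] at h
    have h' := Finset.add_sum_erase A (fun a => u a * u a) hχA
    push_cast [show 1 ≤ 2 * g - 1 by omega, show 1 ≤ 2 * g by omega] at h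
    linarith
  have : -2 ≤ u χ := by nlinarith
  have : u χ ≤ 2 := by nlinarith
  have := hA4 χ hχA
  rcases (show u χ = -2 ∨ u χ = -1 ∨ u χ = 0 ∨ u χ = 1 ∨ u χ = 2 by omega) with e | e | e | e | e <;>
    rw [e] at this ⊢ <;> omega

end RowSystem

end Cfsg.Lib.Blocks.QuaternionDefect
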