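import Mathlib
import Cfsg.Agent.Blocks.QuaternionDefect.Shape

/-!
# The regular matrix on the members trivial on the central involution

A symmetric integral matrix orthogonal to the even rows whose square is `4 g` times itself, with
odd entries exactly at the four places, is one of a short list.
-/

set_option autoImplicit false
set_option linter.unusedSectionVars false

namespace Cfsg.Lib.Blocks.QuaternionDefect

/-- Two natural numbers with sum a power of two and product a square are equal or one is zero. -/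
lemma eq_of_add_eq_two_pow : ∀ (e a d c : ℕ), a + d = 2 ^ e → a * d = c * c → c ≠ 0 → a = d := by
  intro e
  induction e with
  | zero =>
    intro a d c h h' hc
    rw [pow_zero] at h
    rcases (show a = 0 ∨ d = 0 by omega) with rfl | rfl <;> simp at h' <;> omega
  | succ e ih =>
    intro a d c h h' hc
    have h2 : 2 ^ (e + 1) = 2 * 2 ^ e := pow_succ' 2 e
    rcases Nat.even_or_odd a with ⟨a', rfl⟩ | ha
    · obtain ⟨d', rfl⟩ : Even d := by
        rw [Nat.even_iff]; omega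
      obtain ⟨c', rfl⟩ : Even c := by
        have hc2 : Even (c * c) := by
          rw [← h']
          exact Nat.even_mul.2 (Or.inl ⟨a', rfl⟩)
        exact (Nat.even_mul.1 hc2).elim id id
      have := ih a' d' c' (by omega)
        (Nat.eq_of_mul_eq_mul_left (show 0 < 4 by norm_num) (by linarith)) (by omega)
      omega
    · have hd : Odd d := by
        rw [Nat.odd_iff] at ha ⊢
        omega
      have hcop : Nat.Coprime a d := by
        have h1 : Nat.gcd a d ∣ 2 ^ (e + 1) := h ▸ Nat.dvd_add (Nat.gcd_dvd_left a d) (Nat.gcd_dvd_right a d)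
        obtain ⟨i, -, hi⟩ := (Nat.dvd_prime_pow Nat.prime_two).1 h1
        rcases Nat.eq_zero_or_pos i with rfl | hi0
        · simpa using hi
        · exfalso
          have : 2 ∣ a := (dvd_pow_self 2 hi0.ne').trans (hi ▸ Nat.gcd_dvd_left a d)
          rw [Nat.odd_iff] at ha
          omega
      obtain ⟨p, hp⟩ := exists_eq_pow_of_mul_eq_pow (k := 2)
        (Nat.isUnit_iff.2 hcop) (show a * d = c ^ 2 by rw [h', pow_two])
      obtain ⟨q, hq⟩ := exists_eq_pow_of_mul_eq_pow (k := 2)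
        (Nat.isUnit_iff.2 (show Nat.gcd d a = 1 from hcop.symm)) (show d * a = c ^ 2 by rw [mul_comm, h', pow_two])
      subst hp hq
      have hp' : Odd p := (Nat.odd_pow_iff two_ne_zero).1 ha
      have hq' : Odd q := (Nat.odd_pow_iff two_ne_zero).1 hd
      obtain ⟨i, rfl⟩ := hp'
      obtain ⟨j, rfl⟩ := hq'
      rcases Nat.eq_zero_or_pos e with rfl | he
      · ring_nf at h
        have : i = 0 ∧ j = 0 := by constructor <;> nlinarith
        simp [this.1, this.2]
      · exfalso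
        obtain ⟨t, ht⟩ : 4 ∣ 2 ^ (e + 1) := pow_dvd_pow 2 (show 2 ≤ e + 1 by omega)
        rw [ht] at h
        ring_nf at h
        omega

variable {ι : Type*} [DecidableEq ι] {T : Finset ι} {g : ℕ} {F : ℕ → ι → ℤ}

namespace Shape

variable (S : Shape T g F)

/-- The vector with given signed values at the four places which is orthogonal to the rows. -/
def vec (x₁ x₂ x₃ x₄ : ℤ) (χ : ι) : ℤ :=
  if χ = S.a then F g χ * x₁ else if χ = S.b then F g χ * x₂ else
    if χ = S.c then F g χ * x₃ else if χ = S.d then F g χ * x₄ else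
      -(x₁ + x₂) * ∑ s ∈ Finset.Ico 1 g, if S.y s = χ then F s χ else 0

lemma vec_a (x₁ x₂ x₃ x₄ : ℤ) : S.vec x₁ x₂ x₃ x₄ S.a = F g S.a * x₁ := by simp [vec]

lemma vec_b (x₁ x₂ x₃ x₄ : ℤ) : S.vec x₁ x₂ x₃ x₄ S.b = F g S.b * x₂ := by simp [vec, S.ab.symm]

lemma vec_c (x₁ x₂ x₃ x₄ : ℤ) : S.vec x₁ x₂ x₃ x₄ S.c = F g S.c * x₃ := by
  simp [vec, S.ac.symm, S.bc.symm]

lemma vec_d (x₁ x₂ x₃ x₄ : ℤ) : S.vec x₁ x₂ x₃ x₄ S.d = F g S.d * x₄ := by
  simp [vec, S.ad.symm, S.bd.symm, S.cd.symm]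

lemma vec_y (x₁ x₂ x₃ x₄ : ℤ) {s : ℕ} (hs : s ∈ Finset.Ico 1 g) :
    S.vec x₁ x₂ x₃ x₄ (S.y s) = -(x₁ + x₂) * F s (S.y s) := by
  obtain ⟨h1, h2, h3, h4⟩ := S.ne_y hs
  simp only [vec, if_neg h1, if_neg h2, if_neg h3, if_neg h4]
  congr 1
  rw [Finset.sum_eq_single s (fun t ht hne => if_neg fun e => hne
    (S.y_inj (Finset.mem_coe.2 ht) (Finset.mem_coe.2 hs) e)) (fun e => absurd hs e), if_pos rfl]

variable (hT : T = S.H ∪ S.Y)
include hT

lemma sum_T {R : Type*} [AddCommMonoid R] (f : ι → R) :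
    ∑ χ ∈ T, f χ = f S.a + f S.b + f S.c + f S.d + ∑ s ∈ Finset.Ico 1 g, f (S.y s) := by
  conv_lhs => rw [hT, Finset.sum_union S.disjoint_HY, S.sum_H, Shape.Y, Finset.sum_image S.y_inj]

lemma vec_inner (x₁ x₂ x₃ x₄ y₁ y₂ y₃ y₄ : ℤ) :
    ∑ χ ∈ T, S.vec x₁ x₂ x₃ x₄ χ * S.vec y₁ y₂ y₃ y₄ χ =
      x₁ * y₁ + x₂ * y₂ + x₃ * y₃ + x₄ * y₄ + ((g - 1 : ℕ) : ℤ) * ((x₁ + x₂) * (y₁ + y₂)) := by
  rw [S.sum_T hT, S.vec_a, S.vec_a, S.vec_b, S.vec_b, S.vec_c, S.vec_c, S.vec_d, S.vec_d,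
    Finset.sum_congr rfl fun s hs => show S.vec x₁ x₂ x₃ x₄ (S.y s) * S.vec y₁ y₂ y₃ y₄ (S.y s) =
      (x₁ + x₂) * (y₁ + y₂) by
        rw [S.vec_y _ _ _ _ hs, S.vec_y _ _ _ _ hs]
        linear_combination ((x₁ + x₂) * (y₁ + y₂)) * S.sq_y hs,
    Finset.sum_const, Nat.card_Ico, nsmul_eq_mul]
  linear_combination (x₁ * y₁) * S.sq_one (χ := S.a) (by simp [S.mem_H]) +
    (x₂ * y₂) * S.sq_one (χ := S.b) (by simp [S.mem_H]) +
    (x₃ * y₃) * S.sq_one (χ := S.c) (by simp [S.mem_H]) +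
    (x₄ * y₄) * S.sq_one (χ := S.d) (by simp [S.mem_H])

omit hT in
lemma vec_perp {x₁ x₂ x₃ x₄ : ℤ} (h0 : x₁ + x₂ + x₃ + x₄ = 0) {s : ℕ}
    (hs : s ∈ Finset.Icc 1 g) : ∑ χ ∈ T, F s χ * S.vec x₁ x₂ x₃ x₄ χ = 0 := by
  have ea := S.sq_one (χ := S.a) (by simp [S.mem_H])
  have eb := S.sq_one (χ := S.b) (by simp [S.mem_H])
  obtain ⟨h1, h2⟩ := Finset.mem_Icc.1 hs
  rcases Nat.eq_or_lt_of_le h2 with e | hlt
  · subst e
    rw [S.sum_top, S.vec_a, S.vec_b, S.vec_c, S.vec_d]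
    linear_combination h0 + x₁ * ea + x₂ * eb + x₃ * S.sq_one (χ := S.c) (by simp [S.mem_H]) +
      x₄ * S.sq_one (χ := S.d) (by simp [S.mem_H])
  · have hs' : s ∈ Finset.Ico 1 g := Finset.mem_Ico.2 ⟨h1, hlt⟩
    rw [S.sum_row _ hs', S.vec_a, S.vec_b, S.vec_y _ _ _ _ hs']
    linear_combination x₁ * ea + x₂ * eb - (x₁ + x₂) * S.sq_y hs'

/-- Odd values exactly at the four places. -/
lemma vec_odd {x₁ x₂ x₃ x₄ : ℤ} (h1 : Odd x₁) (h2 : Odd x₂) (h3 : Odd x₃) (h4 : Odd x₄) {χ : ι}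
    (hχ : χ ∈ T) : Odd (S.vec x₁ x₂ x₃ x₄ χ) ↔ χ ∈ S.H := by
  have hF : ∀ a ∈ S.H, Odd (F g a) := fun a ha => by
    rcases S.one a ha with e | e <;> rw [e] <;> decide
  rw [hT, Finset.mem_union] at hχ
  rcases hχ with hχ | hχ
  · simp only [hχ, iff_true]
    rcases S.mem_H.1 hχ with rfl | rfl | rfl | rfl
    · rw [S.vec_a]; exact (hF _ hχ).mul h1
    · rw [S.vec_b]; exact (hF _ hχ).mul h2
    · rw [S.vec_c]; exact (hF _ hχ).mul h3
    · rw [S.vec_d]; exact (hF _ hχ).mul h4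
  · have hn : χ ∉ S.H := Finset.disjoint_right.1 S.disjoint_HY hχ
    obtain ⟨s, hs, rfl⟩ := Finset.mem_image.1 hχ
    simp only [hn, iff_false, S.vec_y _ _ _ _ hs, Int.not_odd_iff_even]
    exact Even.mul_right (h1.add_odd h2).neg _

end Shape

/-- The hypotheses on the matrix. -/
structure MidHyp (T : Finset ι) (g : ℕ) (F : ℕ → ι → ℤ) (R : ι → ι → ℤ) : Prop where
  two : ∃ k : ℕ, g = 2 ^ k
  symm : ∀ p ∈ T, ∀ q ∈ T, R p q = R q p
  sq : ∀ p ∈ T, ∀ q ∈ T, ∑ r ∈ T, R p r * R r q = 4 * g * R p q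
  perp : ∀ s ∈ Finset.Icc 1 g, ∀ q ∈ T, ∑ r ∈ T, F s r * R r q = 0
  odd : ∀ p ∈ T, ∀ q ∈ T, (Odd (R p q) ↔ F g p ≠ 0 ∧ F g q ≠ 0)
  diag : ∀ p ∈ T, F g p = 0 → (4 : ℤ) ∣ R p p ∧ R p p ≠ 0

namespace Shape

/-- The same shape with the four places in another order, when there is one row. -/
def reorder (S : Shape T g F) (hg : g ≤ 1) (a b c d : ι) (hab : a ≠ b) (hac : a ≠ c) (had : a ≠ d)
    (hbc : b ≠ c) (hbd : b ≠ d) (hcd : c ≠ d) (h : ({a, b, c, d} : Finset ι) = {S.a, S.b, S.c, S.d}) :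
    Shape T g F where
  a := a
  b := b
  c := c
  d := d
  ab := hab
  ac := hac
  ad := had
  bc := hbc
  bd := hbd
  cd := hcd
  mem := h ▸ S.mem
  one := h ▸ S.one
  zero := h ▸ S.zero
  y := S.y
  y_mem := S.y_mem
  y_out := fun s hs => by have := Finset.mem_Ico.1 hs; omega
  y_inj := S.y_inj
  y_one := S.y_one
  row := fun s hs => by have := Finset.mem_Ico.1 hs; omega

/-- The signed entries of the matrix among the four places. -/
def ent (S : Shape T g F) (R : ι → ι → ℤ) (p q : ι) : ℤ := F g p * F g q * R p q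

end Shape

/-- The entries among the four places. -/
lemma mid_solve {G m11 m12 m13 m14 m22 m23 m24 m33 m34 m44 : ℤ}
    (r1 : m11 + m12 + m13 + m14 = 0) (r2 : m12 + m22 + m23 + m24 = 0)
    (r3 : m13 + m23 + m33 + m34 = 0) (r4 : m14 + m24 + m34 + m44 = 0)
    (pp : m11 + 2 * m12 + m22 = 4)
    (e11 : m11 * m11 + m12 * m12 + m13 * m13 + m14 * m14 + (G - 1) * ((m11 + m12) * (m11 + m12)) =
      4 * G * m11)
    (e12 : m11 * m12 + m12 * m22 + m13 * m23 + m14 * m24 + (G - 1) * ((m11 + m12) * (m12 + m22)) =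
      4 * G * m12)
    (e22 : m12 * m12 + m22 * m22 + m23 * m23 + m24 * m24 + (G - 1) * ((m12 + m22) * (m12 + m22)) =
      4 * G * m22)
    (e13 : m11 * m13 + m12 * m23 + m13 * m33 + m14 * m34 + (G - 1) * ((m11 + m12) * (m13 + m23)) =
      4 * G * m13)
    (e33 : m13 * m13 + m23 * m23 + m33 * m33 + m34 * m34 + (G - 1) * ((m13 + m23) * (m13 + m23)) =
      4 * G * m33) :
    ∃ α γ δ : ℤ, m11 = 1 + α ∧ m12 = 1 - α ∧ m13 = γ - 1 ∧ m14 = -1 - γ ∧ m22 = 1 + α ∧
      m23 = -1 - γ ∧ m24 = γ - 1 ∧ m33 = 1 + δ ∧ m34 = 1 - δ ∧ m44 = 1 + δ ∧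
      α * α + γ * γ = 2 * G * α ∧ δ * δ + γ * γ = 2 * G * δ ∧ γ * (α + δ - 2 * G) = 0 := by
  -- the squares of the sums over the first pair
  have hsq : (m11 + m12) * (m11 + m12) + (m12 + m22) * (m12 + m22) + (m13 + m23) * (m13 + m23) +
      (m14 + m24) * (m14 + m24) = 16 := by
    linear_combination e11 + 2 * e12 + e22 + (4 * G - (G - 1) * (m11 + 2 * m12 + m22 + 4)) * pp
  have h0 : (m11 + m12 - 2) * (m11 + m12 - 2) + (m12 + m22 - 2) * (m12 + m22 - 2) +
      (m13 + m23 + 2) * (m13 + m23 + 2) + (m14 + m24 + 2) * (m14 + m24 + 2) = 0 := by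
    linear_combination hsq - 8 * pp + 4 * r1 + 4 * r2
  have a1 : m11 + m12 = 2 := by
    have h : (m11 + m12 - 2) * (m11 + m12 - 2) = 0 := le_antisymm
      (by nlinarith [mul_self_nonneg (m12 + m22 - 2), mul_self_nonneg (m13 + m23 + 2),
        mul_self_nonneg (m14 + m24 + 2)]) (mul_self_nonneg _)
    have := mul_self_eq_zero.1 h
    linarith
  have a2 : m12 + m22 = 2 := by linarith
  have a3 : m13 + m23 = -2 := by
    have h : (m13 + m23 + 2) * (m13 + m23 + 2) = 0 := le_antisymm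
      (by nlinarith [mul_self_nonneg (m12 + m22 - 2), mul_self_nonneg (m11 + m12 - 2),
        mul_self_nonneg (m14 + m24 + 2)]) (mul_self_nonneg _)
    have := mul_self_eq_zero.1 h
    linarith
  obtain ⟨α, rfl⟩ : ∃ α, m11 = 1 + α := ⟨m11 - 1, by ring⟩
  obtain ⟨γ, rfl⟩ : ∃ γ, m13 = γ - 1 := ⟨m13 + 1, by ring⟩
  obtain ⟨δ, rfl⟩ : ∃ δ, m33 = 1 + δ := ⟨m33 - 1, by ring⟩
  have v12 : m12 = 1 - α := by linarith
  have v22 : m22 = 1 + α := by linarith
  have v14 : m14 = -1 - γ := by linarith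
  have v23 : m23 = -1 - γ := by linarith
  have v24 : m24 = γ - 1 := by linarith
  have v34 : m34 = 1 - δ := by linarith
  have v44 : m44 = 1 + δ := by linarith
  subst v12 v22 v14 v23 v24 v34 v44
  refine ⟨α, γ, δ, rfl, rfl, rfl, rfl, rfl, rfl, rfl, rfl, rfl, rfl, ?_, ?_, ?_⟩
  · linarith
  · linarith
  · linarith

/-- A single row: among the four places some pair carries the value four. -/
lemma pair_four {m : Fin 4 → Fin 4 → ℤ} (hs : ∀ i j, m i j = m j i)
    (hodd : ∀ i j, Odd (m i j)) (hrow : ∀ i, ∑ j, m i j = 0)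
    (hsq : ∀ i, ∑ j, m i j * m j i = 4 * m i i) :
    ∃ i j, i ≠ j ∧ m i i + 2 * m i j + m j j = 4 := by
  have h1 : ∀ i j, 1 ≤ m i j * m i j := fun i j => by
    have : m i j ≠ 0 := fun e => by simpa [e] using hodd i j
    have := mul_self_pos.2 this
    omega
  have hd : ∀ i, m i i = 1 ∨ m i i = 3 := fun i => by
    have h := hsq i
    rw [Finset.sum_congr rfl fun j _ => by rw [hs j i]] at h
    have h' : m i i * m i i + 3 ≤ 4 * m i i := by
      rw [← h, ← Finset.add_sum_erase _ _ (Finset.mem_univ i)]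
      refine add_le_add le_rfl (le_trans ?_ (Finset.sum_le_sum fun j _ => h1 i j))
      simp
    have : 1 ≤ m i i := by nlinarith
    have : m i i ≤ 3 := by nlinarith
    obtain ⟨k, hk⟩ := hodd i i
    omega
  have hoff : ∀ i j, j ≠ i → (m i j = 1 ∨ m i j = -1) ∧ (m i i = 3 → m i j = -1) := fun i j hji => by
    have h := hsq i
    rw [Finset.sum_congr rfl fun k _ => by rw [hs k i],
      ← Finset.add_sum_erase _ _ (Finset.mem_univ i)] at h
    have hj : j ∈ Finset.univ.erase i := Finset.mem_erase.2 ⟨hji, Finset.mem_univ _⟩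
    have hc : (Finset.univ.erase i).card = 3 := by simp
    have hd' := hd i
    rw [← Finset.add_sum_erase _ _ hj] at h
    have h2 : (2 : ℤ) ≤ ∑ k ∈ (Finset.univ.erase i).erase j, m i k * m i k := by
      refine le_trans (le_of_eq ?_) (Finset.sum_le_sum fun k _ => h1 i k)
      rw [Finset.sum_const, Finset.card_erase_of_mem hj, hc]
      rfl
    have hsq1 : m i j * m i j ≤ 1 := by rcases hd' with e | e <;> rw [e] at h <;> linarith
    have hpm : ∀ k, m i k * m i k ≤ 1 → m i k = 1 ∨ m i k = -1 := fun k hk =>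
      mul_self_eq_one_iff.1 (le_antisymm hk (h1 i k))
    refine ⟨hpm j hsq1, fun e3 => ?_⟩
    have hr := hrow i
    rw [← Finset.add_sum_erase _ _ (Finset.mem_univ i), ← Finset.add_sum_erase _ _ hj, e3] at hr
    have hk : ∀ k ∈ (Finset.univ.erase i).erase j, -1 ≤ m i k := fun k hk => by
      have hle : m i k * m i k ≤ 1 := by
        rw [← Finset.add_sum_erase _ _ hk, e3] at h
        have h3 : (1 : ℤ) ≤ ∑ r ∈ ((Finset.univ.erase i).erase j).erase k, m i r * m i r := by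
          refine le_trans (le_of_eq ?_) (Finset.sum_le_sum fun r _ => h1 i r)
          rw [Finset.sum_const, Finset.card_erase_of_mem hk, Finset.card_erase_of_mem hj, hc]
          rfl
        have := h1 i j
        linarith
      rcases hpm k hle with e | e <;> omega
    have : (-2 : ℤ) ≤ ∑ k ∈ (Finset.univ.erase i).erase j, m i k := by
      refine le_trans (le_of_eq ?_) (Finset.sum_le_sum hk)
      rw [Finset.sum_const, Finset.card_erase_of_mem hj, hc]
      rfl
    rcases hpm j hsq1 with e | e <;> omega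
  by_cases hall : ∀ i, m i i = 3
  · exact ⟨0, 1, by decide, by rw [hall 0, hall 1, (hoff 0 1 (by decide)).2 (hall 0)]; norm_num⟩
  push Not at hall
  obtain ⟨i, hi⟩ := hall
  have hi1 : m i i = 1 := (hd i).resolve_right hi
  obtain ⟨j, hji, hj⟩ : ∃ j, j ≠ i ∧ m i j = 1 := by
    by_contra hno
    push Not at hno
    have hr := hrow i
    rw [← Finset.add_sum_erase _ _ (Finset.mem_univ i),
      Finset.sum_congr rfl fun k hk => ((hoff i k (Finset.ne_of_mem_erase hk)).1).resolve_left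
        (hno k (Finset.ne_of_mem_erase hk)), hi1] at hr
    simp at hr
  refine ⟨i, j, hji.symm, ?_⟩
  have hjj : m j j = 1 := (hd j).resolve_right fun e => by
    have := (hoff j i hji.symm).2 e
    rw [hs j i, hj] at this
    norm_num at this
  rw [hi1, hj, hjj]
  norm_num

namespace MidHyp

variable {R : ι → ι → ℤ} (hyp : MidHyp T g F R) (S : Shape T g F) (hT : T = S.H ∪ S.Y)
include hyp hT

omit hT in
lemma pos : 0 < g := by
  obtain ⟨k, hk⟩ := hyp.two
  rw [hk]
  positivity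

omit hT in
lemma row_y {s : ℕ} (hs : s ∈ Finset.Ico 1 g) {q : ι} (hq : q ∈ T) :
    R (S.y s) q = -F s (S.y s) * (F g S.a * R S.a q + F g S.b * R S.b q) := by
  have h := hyp.perp s (Finset.mem_Icc.2 ⟨(Finset.mem_Ico.1 hs).1, (Finset.mem_Ico.1 hs).2.le⟩) q hq
  rw [S.sum_row _ hs] at h
  linear_combination F s (S.y s) * h - R (S.y s) q * S.sq_y hs

omit hT in
lemma ent_row {q : ι} (hq : q ∈ T) :
    S.ent R S.a q + S.ent R S.b q + S.ent R S.c q + S.ent R S.d q = 0 := by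
  have h := hyp.perp g (Finset.mem_Icc.2 ⟨hyp.pos, le_rfl⟩) q hq
  rw [S.sum_top] at h
  simp only [Shape.ent]
  linear_combination F g q * h

lemma ent_sq {p q : ι} (hp : p ∈ S.H) (hq : q ∈ S.H) :
    S.ent R p S.a * S.ent R S.a q + S.ent R p S.b * S.ent R S.b q + S.ent R p S.c * S.ent R S.c q +
      S.ent R p S.d * S.ent R S.d q +
      ((g : ℤ) - 1) * ((S.ent R p S.a + S.ent R p S.b) * (S.ent R S.a q + S.ent R S.b q)) =
      4 * g * S.ent R p q := by
  have hpT := S.mem hp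
  have hqT := S.mem hq
  have h := hyp.sq p hpT q hqT
  have haT : S.a ∈ T := S.mem (by simp)
  have hbT : S.b ∈ T := S.mem (by simp)
  rw [S.sum_T hT, Finset.sum_congr rfl fun s hs => show R p (S.y s) * R (S.y s) q =
      (F g S.a * R p S.a + F g S.b * R p S.b) * (F g S.a * R S.a q + F g S.b * R S.b q) by
    rw [hyp.symm p hpT _ (S.y_mem s hs), hyp.row_y S hs hpT, hyp.row_y S hs hqT,
      hyp.symm _ haT p hpT, hyp.symm _ hbT p hpT]
    linear_combination ((F g S.a * R p S.a + F g S.b * R p S.b) *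
      (F g S.a * R S.a q + F g S.b * R S.b q)) * S.sq_y hs,
    Finset.sum_const, Nat.card_Ico, nsmul_eq_mul, Nat.cast_sub hyp.pos, Nat.cast_one] at h
  simp only [Shape.ent]
  linear_combination (F g p * F g q) * h +
    (F g p * F g q * R p S.a * R S.a q) * S.sq_one (χ := S.a) (by simp [S.mem_H]) +
    (F g p * F g q * R p S.b * R S.b q) * S.sq_one (χ := S.b) (by simp [S.mem_H]) +
    (F g p * F g q * R p S.c * R S.c q) * S.sq_one (χ := S.c) (by simp [S.mem_H]) +
    (F g p * F g q * R p S.d * R S.d q) * S.sq_one (χ := S.d) (by simp [S.mem_H])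

/-- The value on the first pair. -/
def pairVal (S : Shape T g F) (R : ι → ι → ℤ) : ℤ :=
  S.ent R S.a S.a + 2 * S.ent R S.a S.b + S.ent R S.b S.b

lemma pairVal_eq (hg2 : 2 ≤ g) : pairVal S R = 4 := by
  have hs : 1 ∈ Finset.Ico 1 g := Finset.mem_Ico.2 ⟨le_rfl, by omega⟩
  have hyT := S.y_mem 1 hs
  have ha : S.a ∈ S.H := by simp [S.mem_H]
  have hb : S.b ∈ S.H := by simp [S.mem_H]
  have haT : S.a ∈ T := S.H_subset ha
  have hbT : S.b ∈ T := S.H_subset hb
  have hy0 : F g (S.y 1) = 0 := S.zero _ hyT (S.y_out 1 hs)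
  have hyy : R (S.y 1) (S.y 1) = pairVal S R := by
    rw [hyp.row_y S hs hyT, hyp.symm _ haT _ hyT, hyp.symm _ hbT _ hyT, hyp.row_y S hs haT,
      hyp.row_y S hs hbT]
    simp only [pairVal, Shape.ent]
    rw [hyp.symm _ hbT _ haT]
    linear_combination (F g S.a * F g S.a * R S.a S.a + 2 * (F g S.a * F g S.b * R S.a S.b) +
      F g S.b * F g S.b * R S.b S.b) * S.sq_y hs
  obtain ⟨h4, h0⟩ := hyp.diag _ hyT hy0
  rw [hyy] at h4 h0
  have e11 := hyp.ent_sq S hT ha ha
  have e12 := hyp.ent_sq S hT ha hb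
  have e22 := hyp.ent_sq S hT hb hb
  have hab : S.ent R S.b S.a = S.ent R S.a S.b := by
    simp only [Shape.ent]; rw [hyp.symm _ hbT _ haT]; ring
  simp only [hab] at e11 e12 e22
  have key : (S.ent R S.a S.a + S.ent R S.a S.b) * (S.ent R S.a S.a + S.ent R S.a S.b) +
      (S.ent R S.a S.b + S.ent R S.b S.b) * (S.ent R S.a S.b + S.ent R S.b S.b) +
      (S.ent R S.a S.c + S.ent R S.b S.c) * (S.ent R S.a S.c + S.ent R S.b S.c) +
      (S.ent R S.a S.d + S.ent R S.b S.d) * (S.ent R S.a S.d + S.ent R S.b S.d) +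
      ((g : ℤ) - 1) * (pairVal S R * pairVal S R) = 4 * g * pairVal S R := by
    have hs1 : ∀ x ∈ S.H, ∀ y ∈ S.H, S.ent R x y = S.ent R y x := fun x hx y hy => by
      simp only [Shape.ent]; rw [hyp.symm _ (S.mem hx) _ (S.mem hy)]; ring
    rw [hs1 S.c (by simp [S.mem_H]) _ ha, hs1 S.d (by simp [S.mem_H]) _ ha] at e11
    rw [hs1 S.c (by simp [S.mem_H]) _ hb, hs1 S.d (by simp [S.mem_H]) _ hb] at e12 e22
    simp only [pairVal]
    linear_combination e11 + 2 * e12 + e22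
  set p := pairVal S R
  have hn1 := mul_self_nonneg (S.ent R S.a S.c + S.ent R S.b S.c)
  have hn2 := mul_self_nonneg (S.ent R S.a S.d + S.ent R S.b S.d)
  have hp : p = (S.ent R S.a S.a + S.ent R S.a S.b) + (S.ent R S.a S.b + S.ent R S.b S.b) := by
    simp only [p, pairVal]; ring
  set x := S.ent R S.a S.a + S.ent R S.a S.b
  set x' := S.ent R S.a S.b + S.ent R S.b S.b
  have r1 := hyp.ent_row S haT
  have r2 := hyp.ent_row S hbT
  have hsum : (S.ent R S.a S.c + S.ent R S.b S.c) + (S.ent R S.a S.d + S.ent R S.b S.d) = -p := by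
    simp only [Shape.ent] at r1 r2 ⊢
    simp only [p, pairVal, Shape.ent]
    rw [hyp.symm _ (S.mem (by simp : S.c ∈ _)) _ haT, hyp.symm _ (S.mem (by simp : S.d ∈ _)) _ haT,
      hyp.symm _ hbT _ haT] at r1
    rw [hyp.symm _ (S.mem (by simp : S.c ∈ _)) _ hbT, hyp.symm _ (S.mem (by simp : S.d ∈ _)) _ hbT] at r2
    linear_combination r1 + r2
  have hg : (1 : ℤ) ≤ g := by exact_mod_cast hyp.pos
  have hle : (g : ℤ) * (p * p) ≤ 4 * g * p := by
    have e1 : p * p ≤ 2 * (x * x + x' * x') := by rw [hp]; nlinarith [mul_self_nonneg (x - x')]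
    have e2 : p * p ≤ 2 * ((S.ent R S.a S.c + S.ent R S.b S.c) * (S.ent R S.a S.c + S.ent R S.b S.c) +
        (S.ent R S.a S.d + S.ent R S.b S.d) * (S.ent R S.a S.d + S.ent R S.b S.d)) := by
      have e : p = -((S.ent R S.a S.c + S.ent R S.b S.c) + (S.ent R S.a S.d + S.ent R S.b S.d)) := by
        linarith
      rw [e]
      nlinarith [mul_self_nonneg ((S.ent R S.a S.c + S.ent R S.b S.c) - (S.ent R S.a S.d + S.ent R S.b S.d))]
    linarith [key, e1, e2]
  have hle' : p * p ≤ 4 * p := le_of_mul_le_mul_left (by linarith) (show (0 : ℤ) < g by linarith)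
  have : 0 ≤ p := by nlinarith
  have : p ≤ 4 := by nlinarith
  omega

/-- **The classification.** -/
theorem classify_of_pair (hpp : pairVal S R = 4) :
    (∃ f : ι → ℤ, (f = S.vec 1 (-1) 0 0 ∨ f = S.vec 0 0 1 (-1)) ∧ ∀ p ∈ T, ∀ q ∈ T,
      R p q = S.vec 1 1 (-1) (-1) p * S.vec 1 1 (-1) (-1) q + 2 * g * (f p * f q)) ∨
    ∃ (m : ℕ) (w : Fin m → ι → ℤ), m ≤ 2 ∧
      (∀ j, w j = S.vec 1 (-1) 1 (-1) ∨ w j = S.vec 1 (-1) (-1) 1) ∧ Function.Injective w ∧
      ∀ p ∈ T, ∀ q ∈ T, R p q = S.vec 1 1 (-1) (-1) p * S.vec 1 1 (-1) (-1) q +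
        g * ∑ j, w j p * w j q := by
  have hH : ∀ x, x = S.a ∨ x = S.b ∨ x = S.c ∨ x = S.d → x ∈ S.H ∧ x ∈ T := fun x hx =>
    ⟨S.mem_H.2 hx, S.H_subset (S.mem_H.2 hx)⟩
  obtain ⟨ha, haT⟩ := hH S.a (by tauto)
  obtain ⟨hb, hbT⟩ := hH S.b (by tauto)
  obtain ⟨hc, hcT⟩ := hH S.c (by tauto)
  obtain ⟨hd, hdT⟩ := hH S.d (by tauto)
  have hsymm : ∀ x ∈ T, ∀ y ∈ T, S.ent R x y = S.ent R y x := fun x hx y hy => by
    simp only [Shape.ent]; rw [hyp.symm _ hx _ hy]; ring
  have r1 := hyp.ent_row S haT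
  have r2 := hyp.ent_row S hbT
  have r3 := hyp.ent_row S hcT
  have r4 := hyp.ent_row S hdT
  have e11 := hyp.ent_sq S hT ha ha
  have e12 := hyp.ent_sq S hT ha hb
  have e22 := hyp.ent_sq S hT hb hb
  have e13 := hyp.ent_sq S hT ha hc
  have e33 := hyp.ent_sq S hT hc hc
  simp only [hsymm _ hbT _ haT, hsymm _ hcT _ haT, hsymm _ hdT _ haT, hsymm _ hcT _ hbT,
    hsymm _ hdT _ hbT, hsymm _ hdT _ hcT] at r1 r2 r3 r4 e11 e12 e22 e13 e33
  obtain ⟨α, γ, δ, v11, v12, v13, v14, v22, v23, v24, v33, v34, v44, q1, q2, q3⟩ :=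
    mid_solve r1 r2 r3 r4 hpp e11 e12 e22 e13 e33
  -- everything is decided on the four places
  have hext : ∀ K : ι → ι → ℤ, (∀ p, ∀ q, K p q = K q p) →
      (∀ s ∈ Finset.Ico 1 g, ∀ q,
        K (S.y s) q = -F s (S.y s) * (F g S.a * K S.a q + F g S.b * K S.b q)) →
      (∀ p ∈ S.H, ∀ q ∈ S.H, R p q = K p q) → ∀ p ∈ T, ∀ q ∈ T, R p q = K p q := by
    intro K hK hrow hHH
    have h1 : ∀ p ∈ T, ∀ q ∈ S.H, R p q = K p q := by
      intro p hp q hq
      rw [hT, Finset.mem_union] at hp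
      rcases hp with hp | hp
      · exact hHH p hp q hq
      · obtain ⟨s, hs, rfl⟩ := Finset.mem_image.1 hp
        rw [hyp.row_y S hs (S.mem hq), hrow s hs, hHH _ ha _ hq, hHH _ hb _ hq]
    intro p hp q hq
    rw [hT, Finset.mem_union] at hp
    rcases hp with hp | hp
    · rw [hyp.symm p (S.mem hp) q hq, hK p q]; exact h1 q hq p hp
    · obtain ⟨s, hs, rfl⟩ := Finset.mem_image.1 hp
      rw [hyp.row_y S hs hq, hrow s hs, hyp.symm _ haT q hq, hyp.symm _ hbT q hq, h1 q hq _ ha,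
        h1 q hq _ hb, hK q S.a, hK q S.b]
  have hR : ∀ p ∈ S.H, ∀ q ∈ S.H, R p q = F g p * F g q * S.ent R p q := fun p hp q hq => by
    simp only [Shape.ent]
    linear_combination -(R p q * (F g q * F g q)) * S.sq_one hp - R p q * S.sq_one hq
  have sa := S.sq_one ha
  have sb := S.sq_one hb
  have key : ∀ (n : ℕ) (c : Fin n → ℤ) (x : Fin n → ℤ × ℤ × ℤ × ℤ),
      (∑ j, c j * ((x j).1 * (x j).1) = α) → (∑ j, c j * ((x j).1 * (x j).2.2.1) = γ) →
      (∑ j, c j * ((x j).2.2.1 * (x j).2.2.1) = δ) →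
      (∀ j, (x j).2.1 = -(x j).1 ∧ (x j).2.2.2 = -(x j).2.2.1) →
      ∀ p ∈ T, ∀ q ∈ T, R p q = S.vec 1 1 (-1) (-1) p * S.vec 1 1 (-1) (-1) q +
        ∑ j, c j * (S.vec (x j).1 (x j).2.1 (x j).2.2.1 (x j).2.2.2 p *
          S.vec (x j).1 (x j).2.1 (x j).2.2.1 (x j).2.2.2 q) := by
    intro n c x hα hγ hδ hx
    have hy : ∀ (x₁ x₂ x₃ x₄ : ℤ) (s : ℕ), s ∈ Finset.Ico 1 g → S.vec x₁ x₂ x₃ x₄ (S.y s) =
        -F s (S.y s) * (F g S.a * S.vec x₁ x₂ x₃ x₄ S.a + F g S.b * S.vec x₁ x₂ x₃ x₄ S.b) := by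
      intro x₁ x₂ x₃ x₄ s hs
      rw [S.vec_y _ _ _ _ hs, S.vec_a, S.vec_b]
      linear_combination (F s (S.y s) * x₁) * sa + (F s (S.y s) * x₂) * sb
    refine hext _ (fun p q => ?_) (fun s hs q => ?_) ?_
    · rw [mul_comm]
      exact congrArg _ (Finset.sum_congr rfl fun j _ => by ring)
    · rw [hy _ _ _ _ s hs, Finset.sum_congr rfl fun j _ => by rw [hy _ _ _ _ s hs]]
      simp only [mul_add, Finset.mul_sum]
      rw [add_mul, Finset.sum_congr rfl fun j _ => show c j * ((-F s (S.y s) * (F g S.a *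
          S.vec (x j).1 (x j).2.1 (x j).2.2.1 (x j).2.2.2 S.a) + -F s (S.y s) * (F g S.b *
          S.vec (x j).1 (x j).2.1 (x j).2.2.1 (x j).2.2.2 S.b)) *
          S.vec (x j).1 (x j).2.1 (x j).2.2.1 (x j).2.2.2 q) =
        -F s (S.y s) * (F g S.a * (c j * (S.vec (x j).1 (x j).2.1 (x j).2.2.1 (x j).2.2.2 S.a *
          S.vec (x j).1 (x j).2.1 (x j).2.2.1 (x j).2.2.2 q))) +
        -F s (S.y s) * (F g S.b * (c j * (S.vec (x j).1 (x j).2.1 (x j).2.2.1 (x j).2.2.2 S.b *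
          S.vec (x j).1 (x j).2.1 (x j).2.2.1 (x j).2.2.2 q))) by ring, Finset.sum_add_distrib]
      ring
    · intro p hp q hq
      rw [hR p hp q hq]
      rcases S.mem_H.1 hp with rfl | rfl | rfl | rfl <;>
        rcases S.mem_H.1 hq with rfl | rfl | rfl | rfl <;>
        simp only [S.vec_a, S.vec_b, S.vec_c, S.vec_d, hsymm _ hbT _ haT, hsymm _ hcT _ haT,
          hsymm _ hdT _ haT, hsymm _ hcT _ hbT, hsymm _ hdT _ hbT, hsymm _ hdT _ hcT,
          v11, v12, v13, v14, v22, v23, v24, v33, v34, v44, (fun j => (hx j).1),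
          (fun j => (hx j).2), ← hα, ← hγ, ← hδ] <;>
        simp only [mul_add, mul_sub, Finset.mul_sum, mul_neg, neg_mul] <;>
        ring_nf <;>
        (try simp only [Finset.sum_add_distrib, Finset.sum_neg_distrib, Finset.mul_sum, Finset.sum_mul]) <;>
        (try ring_nf) <;>
        (try simp only [mul_comm, mul_left_comm, mul_assoc])
  have hev : ∀ x ∈ S.H, ∀ y ∈ S.H, Odd (S.ent R x y) := fun x hx y hy => by
    have hne : ∀ z ∈ S.H, F g z ≠ 0 := fun z hz => by
      rcases S.one z hz with e | e <;> rw [e] <;> norm_num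
    have hodd : ∀ z ∈ S.H, Odd (F g z) := fun z hz => by
      rcases S.one z hz with e | e <;> rw [e] <;> decide
    exact ((hodd x hx).mul (hodd y hy)).mul ((hyp.odd x (S.mem hx) y (S.mem hy)).2 ⟨hne x hx, hne y hy⟩)
  have hαe : Even α := by
    have := hev _ ha _ ha
    rw [v11] at this
    obtain ⟨k, hk⟩ := this
    exact ⟨k, by linarith⟩
  have hδe : Even δ := by
    have := hev _ hc _ hc
    rw [v33] at this
    obtain ⟨k, hk⟩ := this
    exact ⟨k, by linarith⟩
  have hγe : Even γ := by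
    have := hev _ ha _ hc
    rw [v13] at this
    obtain ⟨k, hk⟩ := this
    exact ⟨k + 1, by linarith⟩
  by_cases hγ : γ = 0
  · subst hγ
    have ca : α = 0 ∨ α = 2 * g := by
      rcases mul_eq_zero.1 (show α * (α - 2 * g) = 0 by linear_combination q1) with e | e
      · exact Or.inl e
      · exact Or.inr (sub_eq_zero.1 e)
    have cd : δ = 0 ∨ δ = 2 * g := by
      rcases mul_eq_zero.1 (show δ * (δ - 2 * g) = 0 by linear_combination q2) with e | e
      · exact Or.inl e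
      · exact Or.inr (sub_eq_zero.1 e)
    rcases ca with rfl | rfl <;> rcases cd with rfl | rfl
    · right
      refine ⟨0, Fin.elim0, by omega, fun j => j.elim0, fun j => j.elim0, ?_⟩
      simpa using key 0 Fin.elim0 Fin.elim0 (by simp) (by simp) (by simp) (fun j => j.elim0)
    · left
      refine ⟨_, Or.inr rfl, ?_⟩
      simpa using key 1 (fun _ => 2 * (g : ℤ)) (fun _ => (0, 0, 1, -1)) (by simp) (by simp) (by simp)
        (fun _ => ⟨by simp, by simp⟩)
    · left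
      refine ⟨_, Or.inl rfl, ?_⟩
      simpa using key 1 (fun _ => 2 * (g : ℤ)) (fun _ => (1, -1, 0, 0)) (by simp) (by simp) (by simp)
        (fun _ => ⟨by simp, by simp⟩)
    · right
      have h := key 2 (fun _ => (g : ℤ)) ![(1, -1, 1, -1), (1, -1, -1, 1)]
        (by simp [Fin.sum_univ_two]; ring) (by simp [Fin.sum_univ_two])
        (by simp [Fin.sum_univ_two]; ring) (fun j => by fin_cases j <;> simp)
      refine ⟨2, ![S.vec 1 (-1) 1 (-1), S.vec 1 (-1) (-1) 1], le_rfl,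
        fun j => by fin_cases j <;> simp, ?_, ?_⟩
      · intro i j hij
        have hne : S.vec 1 (-1) 1 (-1) ≠ S.vec 1 (-1) (-1) 1 := fun e => by
          have h' := congrFun e S.c
          rw [S.vec_c, S.vec_c] at h'
          rcases S.one S.c hc with e' | e' <;> rw [e'] at h' <;> norm_num at h'
        fin_cases i <;> fin_cases j <;> first | rfl | exact absurd hij hne | exact absurd hij.symm hne
      · intro p hp q hq
        rw [h p hp q hq]
        simp [Fin.sum_univ_two, mul_add]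
  · right
    have hsum : α + δ = 2 * g := by
      linarith [(mul_eq_zero.1 q3).resolve_left hγ]
    have hprod : γ * γ = α * δ := by
      linear_combination q1 - α * hsum
    obtain ⟨a', rfl⟩ := hαe
    obtain ⟨d', rfl⟩ := hδe
    obtain ⟨c', rfl⟩ := hγe
    have h1 : a' + d' = g := by linarith
    have h2 : a' * d' = c' * c' := by linarith
    have ha0 : 0 ≤ a' := by
      by_contra hneg
      have : 0 ≤ d' := by linarith
      nlinarith [mul_self_pos.2 (show c' ≠ 0 from fun e => hγ (by rw [e]; rfl))]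
    have hd0 : 0 ≤ d' := by
      by_contra hneg
      nlinarith [mul_self_pos.2 (show c' ≠ 0 from fun e => hγ (by rw [e]; rfl))]
    obtain ⟨k, hk⟩ := hyp.two
    have hnat := eq_of_add_eq_two_pow k a'.toNat d'.toNat c'.natAbs (by omega) (by
      zify
      rw [Int.toNat_of_nonneg ha0, Int.toNat_of_nonneg hd0, ← abs_mul, h2,
        abs_of_nonneg (mul_self_nonneg c')]) (fun e => hγ (by rw [Int.natAbs_eq_zero.1 e]; rfl))
    have had : a' = d' := by omega
    subst had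
    have hc' : c' = a' ∨ c' = -a' := mul_self_eq_mul_self_iff.1 h2.symm
    rcases hc' with rfl | rfl
    · refine ⟨1, fun _ => S.vec 1 (-1) 1 (-1), by omega, fun _ => Or.inl rfl,
        fun i j _ => Subsingleton.elim i j, ?_⟩
      simpa using key 1 (fun _ => (g : ℤ)) (fun _ => (1, -1, 1, -1)) (by simp; linarith)
        (by simp; linarith) (by simp; linarith) (fun _ => ⟨by simp, by simp⟩)
    · refine ⟨1, fun _ => S.vec 1 (-1) (-1) 1, by omega, fun _ => Or.inr rfl,
        fun i j _ => Subsingleton.elim i j, ?_⟩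
      simpa using key 1 (fun _ => (g : ℤ)) (fun _ => (1, -1, -1, 1)) (by simp; linarith)
        (by simp; linarith) (by simp; linarith) (fun _ => ⟨by simp, by simp⟩)

/-- The shape can be chosen so that the first pair carries the value four. -/
theorem exists_pair :
    ∃ S' : Shape T g F, T = S'.H ∪ S'.Y ∧ pairVal S' R = 4 := by
  by_cases hg2 : 2 ≤ g
  · exact ⟨S, hT, hyp.pairVal_eq S hT hg2⟩
  obtain rfl : g = 1 := by have := hyp.pos; omega
  set e : Fin 4 → ι := ![S.a, S.b, S.c, S.d] with he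
  have hmem : ∀ i, e i ∈ S.H := fun i => by fin_cases i <;> simp [he, S.mem_H]
  have hinj : Function.Injective e := by
    intro i j hij
    fin_cases i <;> fin_cases j <;>
      simp [he, S.ab, S.ac, S.ad, S.bc, S.bd, S.cd, S.ab.symm, S.ac.symm, S.ad.symm, S.bc.symm,
        S.bd.symm, S.cd.symm] at hij ⊢
  have hodd : ∀ i j, Odd (S.ent R (e i) (e j)) := fun i j => by
    have hne : ∀ z ∈ S.H, F 1 z ≠ 0 ∧ Odd (F 1 z) := fun z hz => by
      rcases S.one z hz with e | e <;> rw [e] <;> exact ⟨by norm_num, by decide⟩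
    exact ((hne _ (hmem i)).2.mul (hne _ (hmem j)).2).mul
      ((hyp.odd _ (S.mem (hmem i)) _ (S.mem (hmem j))).2 ⟨(hne _ (hmem i)).1, (hne _ (hmem j)).1⟩)
  obtain ⟨i, j, hij, hval⟩ := pair_four (m := fun i j => S.ent R (e i) (e j))
    (fun i j => by simp only [Shape.ent]; rw [hyp.symm _ (S.mem (hmem i)) _ (S.mem (hmem j))]; ring)
    hodd
    (fun i => by
      have h := hyp.ent_row S (S.mem (hmem i))
      simp only [Shape.ent] at h
      simp only [Fin.sum_univ_four, he, Shape.ent] at h ⊢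
      rw [hyp.symm _ (S.mem (hmem i)) _ (S.mem (hmem 0)), hyp.symm _ (S.mem (hmem i)) _ (S.mem (hmem 1)),
        hyp.symm _ (S.mem (hmem i)) _ (S.mem (hmem 2)), hyp.symm _ (S.mem (hmem i)) _ (S.mem (hmem 3))]
      simp only [he, Matrix.cons_val] at h ⊢
      linear_combination h)
    (fun i => by
      have h := hyp.ent_sq S hT (hmem i) (hmem i)
      simp only [Fin.sum_univ_four]
      simpa [he] using h)
  obtain ⟨k, l, hkl, hki, hkj, hli, hlj, hcover⟩ : ∃ k l : Fin 4, k ≠ l ∧ k ≠ i ∧ k ≠ j ∧ l ≠ i ∧ l ≠ j ∧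
      ({i, j, k, l} : Finset (Fin 4)) = Finset.univ := by
    revert hij
    clear hval
    revert i j
    decide
  let S' := S.reorder le_rfl (e i) (e j) (e k) (e l) (hinj.ne hij) (hinj.ne hki.symm)
    (hinj.ne hli.symm) (hinj.ne hkj.symm) (hinj.ne hlj.symm) (hinj.ne hkl) (by
      have h := congrArg (Finset.image e) hcover
      simp only [Finset.image_insert, Finset.image_singleton] at h
      rw [h]
      ext x
      simp [he, Fin.exists_fin_succ, eq_comm])
  have hH' : S'.H = S.H := by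
    show ({e i, e j, e k, e l} : Finset ι) = {S.a, S.b, S.c, S.d}
    have h := congrArg (Finset.image e) hcover
    simp only [Finset.image_insert, Finset.image_singleton] at h
    rw [h]
    ext x
    simp [he, Fin.exists_fin_succ, eq_comm]
  refine ⟨S', by rw [hH']; exact hT, ?_⟩
  exact hval

end MidHyp

end Cfsg.Lib.Blocks.QuaternionDefect
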