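import Mathlib
import Cfsg.Agent.Blocks.QuaternionDefect.Axis
import Cfsg.Agent.Blocks.DihedralDefect.Psi

/-!
# The parity of the last coherent character
-/

set_option autoImplicit false
set_option linter.unusedSectionVars false

namespace Cfsg.Lib.Blocks.QuaternionDefect

open Cfsg Cfsg.Lib.Chars
open scoped ComplexConjugate

universe u

variable {P : Type u} [Group P] [Fintype P] {σ τ : P} {g : ℕ}

/-- The coefficients of `θ₁ - θ₀` have the parity of the degrees. -/
theorem top_parity_aux (A : Axis4 σ τ g) {θ₀ θ₁ : P → ℂ} (hc0 : IsCharacter P θ₀)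
    (hc1 : IsCharacter P θ₁) (hoff : ∀ x, x ∉ Subgroup.zpowers σ → θ₀ x = 0 ∧ θ₁ x = 0)
    (v0 : ∀ a : ℕ, θ₀ (σ ^ a) = 2) (v1 : ∀ a : ℕ, θ₁ (σ ^ a) = 2 * (-1) ^ a)
    (n0 : classInner θ₀ θ₀ = 2) (n1 : classInner θ₁ θ₁ = 2)
    (hlin : ∀ l : P →* ℂˣ, l (σ ^ 2) = 1) (η : IrrCharacter P) :
    ∃ k : ℤ, classInner (θ₁ - θ₀) (η : P → ℂ) = k ∧
      (Odd k ↔ Odd (deg (η : P → ℂ))) := by
  classical
  obtain ⟨m0, hm0⟩ := IsCharacter.exists_mult hc0 η.2
  obtain ⟨m1, hm1⟩ := IsCharacter.exists_mult hc1 η.2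
  refine ⟨(m1 : ℤ) - m0, ?_, ?_⟩
  · rw [classInner_sub_left, hm0, hm1]
    push_cast
    rfl
  by_cases h1 : deg (η : P → ℂ) = 1
  · -- a linear character occurs in exactly one of the two
    have hone : (η : P → ℂ) 1 = 1 := by rw [irr_apply_one_eq_deg, h1, Nat.cast_one]
    obtain ⟨l, hl⟩ := exists_hom_of_deg_one (isCharacter_of_irr η.2) hone
    have hσ : l (σ ^ 2) = 1 := hlin l
    have hval : ∀ x : P, (θ₀ + θ₁) x *
        conj ((η : P → ℂ) x) = if x ∈ Subgroup.zpowers (σ ^ 2) then 4 else 0 := by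
      intro x
      by_cases hx : x ∈ Subgroup.zpowers σ
      · obtain ⟨a, rfl⟩ := (Submonoid.mem_powers_iff x σ).1 (mem_powers_iff_mem_zpowers.2 hx)
        have hiff : σ ^ a ∈ Subgroup.zpowers (σ ^ 2) ↔ Even a := by
          constructor
          · intro h
            obtain ⟨k, hk⟩ := Subgroup.mem_zpowers_iff.1 h
            rw [← zpow_natCast σ 2, ← zpow_mul, ← zpow_natCast σ a, zpow_eq_zpow_iff_modEq, A.ord] at hk
            have : (2 : ℤ) ∣ (a : ℤ) := by
              have h2 : ((4 * g : ℕ) : ℤ) ∣ (a : ℤ) - ((2 : ℕ) : ℤ) * k := Int.modEq_iff_dvd.1 hk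
              have h3 : (2 : ℤ) ∣ (a : ℤ) - ((2 : ℕ) : ℤ) * k :=
                dvd_trans ⟨2 * g, by push_cast; ring⟩ h2
              omega
            exact even_iff_two_dvd.2 (by exact_mod_cast this)
          · rintro ⟨b, rfl⟩
            exact Subgroup.mem_zpowers_iff.2 ⟨b, by rw [zpow_natCast, ← pow_mul]; ring_nf⟩
        rw [Pi.add_apply, v0, v1]
        rcases Nat.even_or_odd a with he | ho
        · rw [if_pos (hiff.2 he), he.neg_one_pow]
          obtain ⟨b, rfl⟩ := he
          rw [hl]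
          simp only [show σ ^ (b + b) = (σ ^ 2) ^ b by rw [← pow_mul]; ring_nf, map_pow l (σ ^ 2) b,
            hσ, one_pow, Units.val_one, map_one]
          norm_num
        · rw [if_neg (fun h => Nat.not_even_iff_odd.2 ho (hiff.1 h)), ho.neg_one_pow]
          norm_num
      · rw [Pi.add_apply, (hoff x hx).1, (hoff x hx).2, add_zero, zero_mul,
          if_neg fun h => hx ((Subgroup.zpowers_le.2 (Subgroup.pow_mem _ (Subgroup.mem_zpowers σ) 2)) h)]
    have hsum : ((m0 : ℂ) + m1) = 1 := by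
      rw [← hm0, ← hm1, ← classInner_add_left, classInner_def,
        Finset.sum_congr rfl fun x _ => hval x, ← Finset.sum_filter, Finset.sum_const, nsmul_eq_mul,
        ← Fintype.card_subtype, ← Nat.card_eq_fintype_card,
        show Nat.card {x // x ∈ Subgroup.zpowers (σ ^ 2)} = 2 * g by
          rw [show Nat.card {x // x ∈ Subgroup.zpowers (σ ^ 2)} = orderOf (σ ^ 2) from
            Nat.card_zpowers _, orderOf_pow_of_dvd two_ne_zero (by rw [A.ord]; exact ⟨2 * g, by ring⟩),
            A.ord, show 4 * g = 2 * (2 * g) by ring, Nat.mul_div_cancel_left _ two_pos], A.card]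
      have : (g : ℂ) ≠ 0 := Nat.cast_ne_zero.2 A.pos.ne'
      push_cast
      field_simp
      norm_num
    have hsum' : m0 + m1 = 1 := by exact_mod_cast hsum
    simp only [h1, odd_one, iff_true]
    rcases (show m0 = 0 ∧ m1 = 1 ∨ m0 = 1 ∧ m1 = 0 by omega) with ⟨rfl, rfl⟩ | ⟨rfl, rfl⟩ <;> decide
  · -- the other ones occur in neither
    have hzero : ∀ θ : P → ℂ, IsCharacter P θ → classInner θ θ = 2 → θ 1 = 2 → ∀ m : ℕ,
        classInner θ (η : P → ℂ) = m → m = 0 := by
      intro θ hc hnorm hθ1 m hm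
      obtain ⟨μ, hμ⟩ := IsCharacter.exists_decomp hc
      have hmult : ∀ ξ : IrrCharacter P, classInner θ (ξ : P → ℂ) = (μ ξ : ℂ) :=
        fun ξ => by
          rw [hμ, show (∑ η : IrrCharacter P, μ η • (η : P → ℂ)) =
            ∑ η : IrrCharacter P, (μ η : ℂ) • (η : P → ℂ) from
            Finset.sum_congr rfl fun a _ => by rw [Nat.cast_smul_eq_nsmul], classInner_irrSum]
      have hn : ∑ ξ : IrrCharacter P, μ ξ * μ ξ = 2 := by
        have h := hnorm
        have e : classInner θ θ =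
            ∑ ξ : IrrCharacter P, (μ ξ : ℂ) * (μ ξ : ℂ) := by
          conv_lhs =>
            arg 2
            rw [hμ]
          rw [classInner_sum_right]
          exact Finset.sum_congr rfl fun ξ _ => by
            rw [← Nat.cast_smul_eq_nsmul ℂ, classInner_smul_right, hmult]; simp
        rw [e] at h
        exact_mod_cast h
      have hd : ∑ ξ : IrrCharacter P, μ ξ * deg (ξ : P → ℂ) = 2 := by
        have h := congrFun hμ 1
        rw [hθ1] at h
        simp only [Finset.sum_apply, Pi.mul_apply, Pi.natCast_apply, nsmul_eq_mul,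
          irr_apply_one_eq_deg] at h
        exact_mod_cast h.symm
      have hμη : m = μ η := by exact_mod_cast hm.symm.trans (hmult η)
      by_contra h0
      rw [hμη] at h0
      have hle : ∀ ξ : IrrCharacter P, μ ξ ≤ μ ξ * deg (ξ : P → ℂ) := fun ξ =>
        Nat.le_mul_of_pos_right _ (deg_irr_pos ξ)
      have hlt : μ η < μ η * deg (η : P → ℂ) := by
        have := deg_irr_pos η
        exact (lt_mul_iff_one_lt_right (Nat.pos_of_ne_zero h0)).2 (by omega)
      have hle' : ∀ ξ : IrrCharacter P, μ ξ ≤ 1 := fun ξ => by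
        have h2 : μ ξ * μ ξ ≤ 2 := hn ▸ Finset.single_le_sum (fun a _ => Nat.zero_le (μ a * μ a))
          (Finset.mem_univ ξ)
        by_contra hgt
        have : 2 * 2 ≤ μ ξ * μ ξ := Nat.mul_le_mul (by omega) (by omega)
        omega
      have hsum1 : ∑ ξ : IrrCharacter P, μ ξ = 2 := by
        rw [← hn]
        refine Finset.sum_congr rfl fun ξ _ => ?_
        have := hle' ξ
        rcases (show μ ξ = 0 ∨ μ ξ = 1 by omega) with e | e <;> simp [e]
      have := Finset.sum_lt_sum (fun ξ (_ : ξ ∈ Finset.univ) => hle ξ) ⟨η, Finset.mem_univ _, hlt⟩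
      omega
    have e0 := hzero θ₀ hc0 n0 (by simpa using v0 0) m0 hm0
    have e1 := hzero θ₁ hc1 n1 (by simpa using v1 0) m1 hm1
    subst e0 e1
    simp only [Nat.cast_zero, sub_zero, Int.not_odd_zero, false_iff, Nat.not_odd_iff_even]
    obtain ⟨k, hk⟩ := IsPGroup.iff_card.1 A.isPGroup
    have hdvd : deg (η : P → ℂ) ∣ Nat.card P := IsIrrCharacter.deg_dvd η.2
    rw [hk] at hdvd
    obtain ⟨j, -, hj⟩ := (Nat.dvd_prime_pow Nat.prime_two).1 hdvd
    rw [hj] at h1 ⊢
    rcases Nat.eq_zero_or_pos j with rfl | h0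
    · simp at h1
    · exact (Nat.even_pow.2 ⟨even_two, h0.ne'⟩)

end Cfsg.Lib.Blocks.QuaternionDefect
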