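import Mathlib
import Cfsg.Agent.Blocks.DihedralDefect.Psi
import Cfsg.Agent.Chars.Construct
import Cfsg.Agent.Chars.Values
import Cfsg.Agent.Blocks.QuaternionDefect.Axis
import Cfsg.Agent.Blocks.QuaternionDefect.Parity

/-!
# The coherent characters of a generalized quaternion group
-/

set_option autoImplicit false
set_option linter.unusedSectionVars false
set_option linter.style.haveILetI false

namespace Cfsg.Lib.Blocks.QuaternionDefect

open Cfsg Cfsg.Lib.Chars
open Cfsg.Lib.Blocks.DihedralDefect (Dih)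
open scoped ComplexConjugate

universe u v

/-- `P` is generalized quaternion of order `8 g`. -/
structure Quat {P : Type u} [Group P] (σ τ : P) (g : ℕ) : Prop where
  dih : Dih σ τ (2 * g)
  sq : τ * τ = σ ^ (2 * g)
  two : ∃ k : ℕ, g = 2 ^ k

namespace Quat

variable {P : Type u} [Group P] [Fintype P] {σ τ : P} {g : ℕ} (Q : Quat σ τ g)

include Q

lemma pos : 0 < g := by
  have := Q.dih.pos
  omega

lemma z_order : orderOf (σ ^ (2 * g)) = 2 := by
  have := Q.pos
  rw [orderOf_pow_of_dvd (by omega) (by rw [Q.dih.ord]; exact dvd_mul_left _ 2), Q.dih.ord,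
    Nat.mul_div_cancel _ (by omega)]

lemma z_sq : σ ^ (2 * g) * σ ^ (2 * g) = 1 := by
  rw [← pow_two]; exact orderOf_dvd_iff_pow_eq_one.1 (by rw [Q.z_order])

lemma y_order : orderOf (σ ^ g) = 4 := by
  have := Q.pos
  rw [orderOf_pow_of_dvd (by omega) (by rw [Q.dih.ord]; exact ⟨4, by ring⟩), Q.dih.ord,
    show 2 * (2 * g) = 4 * g by ring, Nat.mul_div_cancel _ Q.pos]

lemma z_comm (x : P) : x * σ ^ (2 * g) = σ ^ (2 * g) * x := by
  have hz : (σ ^ (2 * g))⁻¹ = σ ^ (2 * g) := inv_eq_of_mul_eq_one_right Q.z_sq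
  have h : x⁻¹ * σ ^ (2 * g) * x = σ ^ (2 * g) := by
    rcases Q.dih.conj_value x ((2 * g : ℕ) : ℤ) with ⟨e, -⟩ | ⟨e, -⟩ <;>
      simp only [zpow_natCast, zpow_neg] at e
    · exact e
    · rw [e, hz]
  calc x * σ ^ (2 * g) = x * (x⁻¹ * σ ^ (2 * g) * x) := by rw [h]
    _ = σ ^ (2 * g) * x := by group

lemma off_sq {u : P} (hu : u ∉ Subgroup.zpowers σ) : u * u = σ ^ (2 * g) := by
  obtain ⟨j, hj⟩ := Subgroup.mem_zpowers_iff.1 ((Q.dih.cases u).resolve_left hu)
  have hu' : u = τ⁻¹ * σ ^ j := by rw [hj]; group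
  have hτ : τ * σ ^ j * τ⁻¹ = σ ^ (-j) := by
    rw [← MulAut.conj_apply, map_zpow, MulAut.conj_apply, Q.dih.inv, inv_zpow, zpow_neg]
  have hz : (τ * τ)⁻¹ = σ ^ (2 * g) := by rw [Q.sq, inv_eq_of_mul_eq_one_right Q.z_sq]
  calc u * u = (τ * τ)⁻¹ * (τ * σ ^ j * τ⁻¹) * σ ^ j := by rw [hu']; group
    _ = σ ^ (2 * g) := by rw [hz, hτ]; group

lemma pow_four {u : P} (hu : u ^ 4 ≠ 1) : u ∈ Subgroup.zpowers σ := by
  by_contra h
  exact hu (by rw [show 4 = 2 * 2 from rfl, pow_mul, pow_two u, Q.off_sq h, pow_two, Q.z_sq])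

lemma isPGroup : IsPGroup 2 P := by
  obtain ⟨k, hk⟩ := Q.two
  exact IsPGroup.of_card (n := k + 3) (by rw [Q.dih.card, hk]; ring)

lemma z_mem {u : P} (hu : u ≠ 1) : σ ^ (2 * g) ∈ Subgroup.zpowers u := by
  by_cases h : u ∈ Subgroup.zpowers σ
  · obtain ⟨e, he⟩ := IsPGroup.iff_orderOf.1 Q.isPGroup u
    obtain ⟨e', rfl⟩ : ∃ e', e = e' + 1 := ⟨e - 1, by
      rcases Nat.eq_zero_or_pos e with rfl | h0
      · exact absurd (orderOf_eq_one_iff.1 he) hu
      · omega⟩
    have ho : orderOf (u ^ 2 ^ e') = 2 := by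
      rw [orderOf_pow_of_dvd (by positivity) (by rw [he]; exact pow_dvd_pow 2 (Nat.le_succ e')), he,
        pow_succ', Nat.mul_div_cancel _ (by positivity)]
    have hmem := Subgroup.pow_mem _ h (2 ^ e')
    have hz := Subgroup.pow_mem _ (Subgroup.mem_zpowers σ) (2 * g)
    by_contra hne
    have hne' : u ^ 2 ^ e' ≠ σ ^ (2 * g) := fun e =>
      hne (e ▸ Subgroup.pow_mem _ (Subgroup.mem_zpowers u) _)
    classical
    have hsub : ({1, ⟨_, hmem⟩, ⟨_, hz⟩} : Finset (Subgroup.zpowers σ)) ⊆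
        Finset.univ.filter (fun a => a ^ 2 = 1) := by
      intro a ha
      simp only [Finset.mem_insert, Finset.mem_singleton] at ha
      refine Finset.mem_filter.2 ⟨Finset.mem_univ _, Subtype.ext ?_⟩
      rcases ha with rfl | rfl | rfl
      · simp
      · show (u ^ 2 ^ e') ^ 2 = 1
        exact orderOf_dvd_iff_pow_eq_one.1 (by rw [ho])
      · show (σ ^ (2 * g)) ^ 2 = 1
        rw [pow_two, Q.z_sq]
    have h3 : ({1, ⟨_, hmem⟩, ⟨_, hz⟩} : Finset (Subgroup.zpowers σ)).card = 3 := by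
      refine Finset.card_eq_three.2 ⟨_, _, _, ?_, ?_, ?_, rfl⟩
      · intro e
        rw [show u ^ 2 ^ e' = 1 from (congrArg Subtype.val e).symm] at ho
        simp at ho
      · intro e
        have := Q.z_order
        rw [show σ ^ (2 * g) = 1 from (congrArg Subtype.val e).symm] at this
        simp at this
      · exact fun e => hne' (congrArg Subtype.val e)
    have := (Finset.card_le_card hsub).trans (IsCyclic.card_pow_eq_one_le two_pos)
    omega
  · exact Q.off_sq h ▸ Subgroup.mul_mem _ (Subgroup.mem_zpowers u) (Subgroup.mem_zpowers u)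

lemma involution {u : P} (hu : orderOf u = 2) : u = σ ^ (2 * g) := by
  have hu1 : u ≠ 1 := fun e => by simp [e] at hu
  obtain ⟨k, hk⟩ := Subgroup.mem_zpowers_iff.1 (Q.z_mem hu1)
  rw [← zpow_mod_orderOf, hu] at hk
  rcases Int.emod_two_eq_zero_or_one k with e | e
  · rw [show k % ((2 : ℕ) : ℤ) = 0 from e, zpow_zero] at hk
    have := Q.z_order
    simp [← hk] at this
  · rwa [show k % ((2 : ℕ) : ℤ) = 1 from e, zpow_one] at hk

/-- A rotation of order at least four has `σ ^ g` as a power. -/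
lemma y_mem {u : P} (hu : u ∈ Subgroup.zpowers σ) (h1 : u * u ≠ 1) :
    σ ^ g ∈ Subgroup.zpowers u := by
  obtain ⟨e, he⟩ := IsPGroup.iff_orderOf.1 Q.isPGroup u
  obtain ⟨e', rfl⟩ : ∃ e', e = e' + 2 := ⟨e - 2, by
    by_contra hlt
    refine h1 (?_ : u * u = 1)
    rw [← pow_two, ← orderOf_dvd_iff_pow_eq_one, he]
    exact pow_dvd_pow 2 (show e ≤ 1 by omega)⟩
  have ho : orderOf (u ^ 2 ^ e') = 4 := by
    rw [orderOf_pow_of_dvd (by positivity) (by rw [he]; exact pow_dvd_pow 2 (by omega)), he,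
      pow_add, mul_comm, Nat.mul_div_cancel _ (by positivity)]
    norm_num
  have := zpowers_four_eq ho Q.y_order (Subgroup.pow_mem _ hu (2 ^ e'))
    (Subgroup.pow_mem _ (Subgroup.mem_zpowers σ) g)
  exact (Subgroup.zpowers_le.2 (Subgroup.pow_mem _ (Subgroup.mem_zpowers u) _)) (this ▸ Subgroup.mem_zpowers (σ ^ g))

variable {ζ : ℂ} (hζ : IsPrimitiveRoot ζ (2 * (2 * g)))

/-- The generalized character vanishing outside the rotations of order at least four. -/
noncomputable def psi (i : ℕ) : P → ℂ := Q.dih.theta hζ i - Q.dih.theta hζ (i % 2)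

lemma psi_isGen (i : ℕ) : IsGeneralizedCharacter P (Q.psi hζ i) :=
  IsGeneralizedCharacter.sub (IsCharacter.isGeneralized (Q.dih.theta_isChar hζ i))
    (IsCharacter.isGeneralized (Q.dih.theta_isChar hζ (i % 2)))

lemma psi_even (s : ℕ) : Q.psi hζ (2 * s) = Q.dih.psi hζ (2 * s) := by
  rw [psi, Dih.psi, Nat.mul_mod_right]

include hζ in
lemma root_half : ζ ^ (2 * g) = -1 := by
  have := Q.pos
  have h1 : (ζ ^ (2 * g)) * (ζ ^ (2 * g)) = 1 := by rw [← pow_add, ← two_mul, hζ.pow_eq_one]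
  rcases mul_self_eq_one_iff.1 h1 with e | e
  · exact absurd e (hζ.pow_ne_one_of_pos_of_lt (by omega) (by omega))
  · exact e

lemma theta_z_mul (i : ℕ) (x : P) :
    Q.dih.theta hζ i (σ ^ (2 * g) * x) = (-1) ^ i * Q.dih.theta hζ i x := by
  by_cases hx : x ∈ Subgroup.zpowers σ
  · obtain ⟨a, -, rfl⟩ := Q.dih.eq_pow hx
    rw [← pow_add, Q.dih.theta_pow, Q.dih.theta_pow, mul_add, pow_add, mul_comm i (2 * g),
      pow_mul, Q.root_half hζ, mul_inv, ← inv_pow, show (-1 : ℂ)⁻¹ = -1 by norm_num, mul_add]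
  · rw [Q.dih.theta_off hζ i hx, Q.dih.theta_off hζ i fun h => hx ?_, mul_zero]
    exact (Subgroup.mul_mem_cancel_left _ (Subgroup.pow_mem _ (Subgroup.mem_zpowers σ) _)).1 h

lemma psi_z_mul (i : ℕ) (x : P) : Q.psi hζ i (σ ^ (2 * g) * x) = (-1) ^ i * Q.psi hζ i x := by
  rw [psi, Pi.sub_apply, Pi.sub_apply, Q.theta_z_mul, Q.theta_z_mul,
    show (-1 : ℂ) ^ (i % 2) = (-1) ^ i from (neg_one_pow_eq_pow_mod_two i).symm]
  ring

lemma psi_off (i : ℕ) {x : P} (hx : x ∉ Subgroup.zpowers σ ∨ x * x = 1) : Q.psi hζ i x = 0 := by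
  rcases hx with hx | hx
  · simp [psi, Q.dih.theta_off hζ _ hx]
  have h1 : Q.psi hζ i 1 = 0 := by
    have h := fun j : ℕ => Q.dih.theta_pow hζ j 0
    simp only [mul_zero, pow_zero, inv_one] at h
    simp [psi, h]
  by_cases hx1 : x = 1
  · rwa [hx1]
  · have ho : orderOf x = 2 := orderOf_eq_prime (by rwa [pow_two]) hx1
    rw [Q.involution ho, ← mul_one (σ ^ (2 * g)), Q.psi_z_mul, h1, mul_zero]

lemma theta_inner_small {i j : ℕ} (hi : i ≤ 2 * g) (hj : j < 2 * g) (hij : i ≠ 0 ∨ j ≠ 0) :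
    classInner (Q.dih.theta hζ i) (Q.dih.theta hζ j) = if i = j then 1 else 0 := by
  have := Q.pos
  rw [Q.dih.theta_inner]
  have h1 : ((2 * (2 * g) : ℕ) : ℤ) ∣ (i : ℤ) - j ↔ i = j := by
    refine ⟨fun e => ?_, fun e => by simp [e]⟩
    have := Int.eq_zero_of_abs_lt_dvd e (by rw [abs_lt]; push_cast; omega)
    omega
  have h2 : ¬ ((2 * (2 * g) : ℕ) : ℤ) ∣ (i : ℤ) + j := fun e => by
    rw [← Nat.cast_add] at e
    have := Nat.le_of_dvd (by omega) (Int.natCast_dvd_natCast.1 e)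
    omega
  rw [if_neg h2, add_zero]
  simp only [h1]

/-- Inner products of the odd ones. -/
lemma psi_inner_odd {s t : ℕ} (hs : s ∈ Finset.Ico 1 g) (ht : t ∈ Finset.Ico 1 g) :
    classInner (Q.psi hζ (2 * s + 1)) (Q.psi hζ (2 * t + 1)) =
      1 + if s = t then 1 else 0 := by
  rw [Finset.mem_Ico] at hs ht
  simp only [psi, classInner_sub_left, classInner_sub_right, show (2 * s + 1) % 2 = 1 by omega,
    show (2 * t + 1) % 2 = 1 by omega]
  rw [Q.theta_inner_small hζ (by omega) (by omega) (Or.inl (by omega)),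
    Q.theta_inner_small hζ (by omega) (by omega) (Or.inl (by omega)),
    Q.theta_inner_small hζ (by omega) (by omega) (Or.inl (by omega)),
    Q.theta_inner_small hζ (by omega) (by omega) (Or.inl (by omega))]
  rw [if_neg (show ¬ 2 * s + 1 = 1 by omega), if_neg (show ¬ 1 = 2 * t + 1 by omega), if_pos rfl]
  simp only [show (2 * s + 1 = 2 * t + 1) = (s = t) by rw [eq_iff_iff]; omega]
  split_ifs <;> ring

/-- The even and odd ones are orthogonal. -/
lemma psi_inner_cross {s t : ℕ} (hs : s ∈ Finset.Icc 1 g) (ht : t ∈ Finset.Ico 1 g) :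
    classInner (Q.psi hζ (2 * s)) (Q.psi hζ (2 * t + 1)) = 0 := by
  rw [Finset.mem_Icc] at hs
  rw [Finset.mem_Ico] at ht
  simp only [psi, classInner_sub_left, classInner_sub_right, show (2 * t + 1) % 2 = 1 by omega,
    Nat.mul_mod_right]
  rw [Q.theta_inner_small hζ (by omega) (by omega) (Or.inl (by omega)),
    Q.theta_inner_small hζ (by omega) (by omega) (Or.inr (by omega)),
    Q.theta_inner_small hζ (by omega) (by omega) (Or.inl (by omega)),
    Q.theta_inner_small hζ (by omega) (by omega) (Or.inr (by omega))]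
  rw [if_neg (by omega), if_neg (by omega), if_neg (by omega), if_neg (by omega)]
  ring

lemma theta_norm {i : ℕ} (hi : i = 0 ∨ i = 2 * g) :
    classInner (Q.dih.theta hζ i) (Q.dih.theta hζ i) = 2 := by
  rw [Q.dih.theta_inner, if_pos (by simp), if_pos]
  · norm_num
  · rcases hi with rfl | rfl
    · simp
    · exact ⟨1, by push_cast; ring⟩

lemma axis : Axis4 σ τ g where
  ord := by rw [Q.dih.ord]; ring
  card := by rw [Q.dih.card]; ring
  two := Q.two
  out := Q.dih.out
  inv_mod := by rw [Q.dih.inv, inv_mul_cancel]; exact one_mem _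
  sq_mod := by rw [Q.sq]; exact Subgroup.mem_zpowers _

/-- The parity of the coefficients of the last one is that of the degrees. -/
lemma psi_top_parity (η : IrrCharacter P) :
    ∃ k : ℤ, classInner (Q.psi hζ (2 * g)) (η : P → ℂ) = k ∧
      (Odd k ↔ Odd (deg (η : P → ℂ))) := by
  rw [psi, Nat.mul_mod_right]
  refine top_parity_aux Q.axis (Q.dih.theta_isChar hζ 0) (Q.dih.theta_isChar hζ (2 * g))
    (fun x hx => ⟨Q.dih.theta_off hζ 0 hx, Q.dih.theta_off hζ _ hx⟩) (fun a => ?_) (fun a => ?_)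
    (Q.theta_norm hζ (Or.inl rfl)) (Q.theta_norm hζ (Or.inr rfl)) (fun l => ?_) η
  · rw [Q.dih.theta_pow, zero_mul, pow_zero, inv_one]; norm_num
  · rw [Q.dih.theta_pow, pow_mul, Q.root_half hζ, ← inv_pow, show (-1 : ℂ)⁻¹ = -1 by norm_num]
    ring
  · have h := congrArg l Q.dih.inv
    rw [map_mul, map_mul, map_inv, map_inv, mul_comm (l τ), mul_assoc, mul_inv_cancel, mul_one] at h
    rw [map_pow, pow_two]
    nth_rewrite 1 [h]
    rw [inv_mul_cancel]

/-- The generalized characters as data for the rows. -/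
lemma psiData : PsiData σ g (Q.psi hζ) where
  isGen := Q.psi_isGen hζ
  off := fun i _ hx => Q.psi_off hζ i hx
  z_mul := Q.psi_z_mul hζ
  inner_even := fun s hs t ht => by
    rw [Finset.mem_Icc] at hs ht
    rw [Q.psi_even, Q.psi_even, Q.dih.psi_inner hζ (Finset.mem_Icc.2 ⟨by omega, by omega⟩)
      (Finset.mem_Icc.2 ⟨by omega, by omega⟩)]
    simp only [show (2 * s = 2 * g) = (s = g) by rw [eq_iff_iff]; omega,
      show (2 * t = 2 * g) = (t = g) by rw [eq_iff_iff]; omega,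
      show (2 * s = 2 * t) = (s = t) by rw [eq_iff_iff]; omega]
  inner_odd := fun _ hs _ ht => Q.psi_inner_odd hζ hs ht
  inner_cross := fun _ hs _ ht => Q.psi_inner_cross hζ hs ht
  top_parity := Q.psi_top_parity hζ

end Quat

/-- The standard generators of a generalized quaternion group. -/
lemma quat_quaternionGroup {g : ℕ} (h0 : 0 < g) (two : ∃ k : ℕ, g = 2 ^ k) :
    Quat (QuaternionGroup.a 1 : QuaternionGroup (2 * g)) (QuaternionGroup.xa 0) g := by
  haveI : NeZero (2 * g) := ⟨by omega⟩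
  refine ⟨⟨by omega, even_two_mul g, QuaternionGroup.orderOf_a_one, ?_, fun h => ?_, ?_⟩, ?_, two⟩
  · rw [Nat.card_eq_fintype_card, QuaternionGroup.card]
  · obtain ⟨k, hk⟩ := (Submonoid.mem_powers_iff _ _).1 (mem_powers_iff_mem_zpowers.2 h)
    rw [QuaternionGroup.a_one_pow] at hk
    cases hk
  · rw [mul_inv_eq_iff_eq_mul, eq_inv_mul_iff_mul_eq, QuaternionGroup.xa_mul_a,
      QuaternionGroup.a_mul_xa]
    simp
  · rw [QuaternionGroup.xa_mul_xa, QuaternionGroup.a_one_pow]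
    simp

/-- Transport along an isomorphism. -/
lemma Quat.map {P : Type u} [Group P] {P' : Type v} [Group P'] {σ τ : P} {g : ℕ}
    (Q : Quat σ τ g) (e : P ≃* P') : Quat (e σ) (e τ) g where
  dih :=
    { pos := Q.dih.pos
      even := Q.dih.even
      ord := (MulEquiv.orderOf_eq e σ).trans Q.dih.ord
      card := (Nat.card_congr e.toEquiv).symm.trans Q.dih.card
      out := fun hm => Q.dih.out (by
        obtain ⟨k, hk⟩ := Subgroup.mem_zpowers_iff.1 hm
        exact Subgroup.mem_zpowers_iff.2 ⟨k, e.injective (by rw [map_zpow, hk])⟩)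
      inv := by rw [← map_inv, ← map_mul, ← map_mul, Q.dih.inv, map_inv] }
  sq := by rw [← map_mul, Q.sq, map_pow]
  two := Q.two

end Cfsg.Lib.Blocks.QuaternionDefect
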