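import Mathlib
import Cfsg.Agent.Blocks.QuaternionDefect.Psi
import Cfsg.Agent.Blocks.DihedralDefect.Centre
import Cfsg.Agent.Blocks.KleinFourBlock
import Cfsg.Agent.PGroups.CyclicMaximal
import Cfsg.Agent.Blocks.CentralTwo
import Cfsg.Agent.S4528

/-!
# A block with quaternion defect group modulo the central involution
-/

set_option autoImplicit false
set_option linter.unusedSectionVars false
set_option linter.style.haveILetI false

namespace Cfsg.Lib.Blocks.QuaternionDefect

open Cfsg Cfsg.Lib.Chars Cfsg.Lib.Blocks Cfsg.Lib.Blocks.CentralReduction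
open scoped ComplexConjugate

universe u

variable {G : Type u} [Group G] [Fintype G] {M : Ideal AlgInt}

/-- The block modulo the central involution: the members trivial on it, one of which has height
zero, and the regular rank. -/
theorem quotient_facts (hM : IsPModular 2 M) {β : Set (IrrCharacter G)} (hβ : IsPBlock M β)
    {D : Subgroup G} (hD : IsDefectGroup 2 M β D) [Fintype D] {σ τ : D} {g : ℕ}
    (Q : Axis4 σ τ g) (hz : ((σ ^ (2 * g) : D) : G) ∈ Subgroup.center G) :
    Nat.card (trivPart β ((σ ^ (2 * g) : D) : G)) = g + 3 ∧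
      (∃ φ ∈ trivPart β ((σ ^ (2 * g) : D) : G), blockHeight 2 β (φ : G → ℂ) = 0) ∧
      blockRank 2 β ≤ 3 := by
  classical
  haveI : Fact (Nat.Prime 2) := ⟨Nat.prime_two⟩
  set z : G := ((σ ^ (2 * g) : D) : G) with hzdef
  have hzo : orderOf z = 2 := by rw [hzdef, Subgroup.orderOf_coe, Q.z_order]
  haveI : (Subgroup.zpowers z).Normal := ⟨fun a ha x => by
    rw [Subgroup.mem_center_iff.1 ((Subgroup.zpowers_le.2 hz) ha) x, mul_inv_cancel_right]
    exact ha⟩
  set N := Subgroup.zpowers z with hN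
  letI := Fintype.ofFinite (G ⧸ N)
  have hNp : IsPGroup 2 N := IsPGroup.of_card (n := 1) (by rw [hN, Nat.card_zpowers, hzo, pow_one])
  obtain ⟨βb, hβb, hsub, hdef⟩ := exists_block_quotient hM N hNp hβ
  have hreg : ∀ w : G, ¬ 2 ∣ orderOf w → w ∈ Subgroup.centralizer (N : Set G) := fun w _ =>
    Subgroup.mem_centralizer_iff.2 fun a ha =>
      (Subgroup.mem_center_iff.1 ((Subgroup.zpowers_le.2 hz) ha) w).symm
  have hT : trivPart β z = inflate N '' βb := by
    obtain ⟨φ₀, hφ₀⟩ := IsPBlock.nonempty hM hβb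
    ext θ
    constructor
    · rintro ⟨hθf, hθy⟩
      have hker : ∀ k ∈ (QuotientGroup.mk' N).ker, (θ : G → ℂ) k = (θ : G → ℂ) 1 := by
        intro k hk
        rw [QuotientGroup.ker_mk'] at hk
        obtain ⟨j, rfl⟩ := (Submonoid.mem_powers_iff k z).1 ((mem_powers_iff_mem_zpowers).2 hk)
        have h1 := IsIrrCharacter.apply_one_ne_zero θ.2
        have h := apply_central_pow θ hz j
        rw [hθy, div_self h1, one_pow, div_eq_one_iff_eq h1] at h
        exact h
      obtain ⟨b, hb, hbθ⟩ := exists_factor _ (QuotientGroup.mk'_surjective N)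
        (isCharacter_of_irr θ.2) hker
      have hirr : IsIrrCharacter (G ⧸ N) b := IsIrrCharacter.descend hb (QuotientGroup.mk' N)
        (QuotientGroup.mk'_surjective N) (hbθ ▸ θ.2)
      have he : inflate N ⟨b, hirr⟩ = θ := Subtype.ext hbθ.symm
      refine ⟨⟨b, hirr⟩, ?_, he⟩
      rw [IsPBlock.eq_blockOf hM hβb hφ₀]
      refine sameBlock_of_inflate hM hNp hreg ?_
      rw [he]
      exact IsPBlock.sameBlock hM hβ (hsub _ hφ₀) hθf
    · rintro ⟨φ, hφ, rfl⟩
      refine ⟨hsub φ hφ, ?_⟩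
      rw [inflate_val, inflate_val, (QuotientGroup.eq_one_iff z).2 (Subgroup.mem_zpowers z),
        QuotientGroup.mk_one]
  have hTcard : Nat.card (trivPart β z) = Nat.card βb := by
    rw [hT]
    refine Nat.card_image_of_injective (fun φ ψ h => Subtype.ext (funext fun q => ?_)) _
    obtain ⟨x, rfl⟩ := QuotientGroup.mk_surjective q
    exact congrFun (congrArg Subtype.val h) x
  -- the image of the defect group
  set π := QuotientGroup.mk' N with hπ
  set Db := D.map π with hDb
  have hDbar : IsDefectGroup 2 M βb Db := (hdef _).2 ⟨D, hD, rfl⟩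
  have hmem : ∀ a : D, π (a : G) ∈ Db := fun a => ⟨a, a.2, rfl⟩
  let ρ : D →* Db := (π.comp D.subtype).codRestrict Db hmem
  have hρs : Function.Surjective ρ := by
    rintro ⟨_, a, ha, rfl⟩
    exact ⟨⟨a, ha⟩, rfl⟩
  have hker : ρ.ker = Subgroup.zpowers (σ ^ (2 * g)) := by
    ext a
    rw [MonoidHom.mem_ker, Subgroup.mem_zpowers_iff]
    constructor
    · intro ha
      obtain ⟨j, hj⟩ := Subgroup.mem_zpowers_iff.1
        ((QuotientGroup.eq_one_iff (a : G)).1 (congrArg Subtype.val ha))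
      exact ⟨j, Subtype.ext (by rw [Subgroup.coe_zpow, ← hzdef, hj])⟩
    · rintro ⟨j, rfl⟩
      rw [map_zpow, show ρ (σ ^ (2 * g)) = 1 from
        Subtype.ext ((QuotientGroup.eq_one_iff z).2 (Subgroup.mem_zpowers z)), one_zpow]
  have hcard : Nat.card Db = 4 * g := by
    have h1 := (ρ.ker).card_mul_index
    rw [Subgroup.index_ker, MonoidHom.range_eq_top.2 hρs, Subgroup.card_top, Q.card, hker,
      Nat.card_zpowers, Q.z_order] at h1
    omega
  obtain ⟨k, hk⟩ := Q.two
  have hρz : ρ (σ ^ (2 * g)) = 1 := by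
    rw [← MonoidHom.mem_ker, hker]; exact Subgroup.mem_zpowers _
  have hord : orderOf (ρ σ) = 2 ^ (k + 1) := by
    refine orderOf_eq_prime_pow (fun hc => ?_) ?_
    · rw [← map_pow, ← MonoidHom.mem_ker, hker] at hc
      have hg : 2 ^ k = g := hk.symm
      rw [hg] at hc
      have h := orderOf_dvd_of_mem_zpowers hc
      rw [Q.z_order, Q.y_order] at h
      norm_num at h
    · rw [← map_pow, show 2 ^ (k + 1) = 2 * g by rw [hk, pow_succ'], hρz]
  have hgen : Cfsg.Lib.CyclicMax.TwoGen (ρ σ) (ρ τ) (k + 1) (-1) 0 := by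
    refine ⟨hord, by rw [hcard, hk]; ring, fun hin => Q.out ?_, ?_, ?_⟩
    · obtain ⟨i, hi⟩ := Subgroup.mem_zpowers_iff.1 hin
      have h : (σ ^ i)⁻¹ * τ ∈ ρ.ker := by
        rw [MonoidHom.mem_ker, map_mul, map_inv, map_zpow, hi, inv_mul_cancel]
      rw [hker] at h
      have h' := (Subgroup.zpowers_le.2 (Subgroup.pow_mem _ (Subgroup.mem_zpowers σ) (2 * g))) h
      exact (Subgroup.mul_mem_cancel_left _
        (Subgroup.inv_mem _ (Subgroup.zpow_mem _ (Subgroup.mem_zpowers σ) i))).1 h'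
    · have h : τ * σ * τ⁻¹ * σ ∈ ρ.ker := hker ▸ Q.inv_mod
      rw [MonoidHom.mem_ker, map_mul, map_mul, map_mul, map_inv] at h
      rw [zpow_neg_one]
      exact eq_inv_of_mul_eq_one_left h
    · have h : τ * τ ∈ ρ.ker := hker ▸ Q.sq_mod
      rw [zpow_zero, ← map_mul]
      exact h
  obtain ⟨eD⟩ := Cfsg.Lib.CyclicMax.toDihedral hgen (by omega)
  -- the quotient block
  obtain ⟨hcb, hrb⟩ : Nat.card βb = g + 3 ∧ blockRank 2 βb ≤ 3 := by
    rcases Nat.eq_zero_or_pos k with rfl | hk0
    · have hV : IsKleinFour Db := by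
        haveI : IsKleinFour (DihedralGroup 2) := inferInstance
        exact ⟨(Nat.card_congr eD.toEquiv).trans IsKleinFour.card_four,
          (Monoid.exponent_eq_of_mulEquiv eD).trans IsKleinFour.exponent_two⟩
      obtain ⟨c, hc⟩ := exists_pair_of_defect hM hβb hDbar
      obtain ⟨he, hcb, hr⟩ := klein_block (T := Subgroup.normalizer (Db : Set (G ⧸ N)) ⊓
          stabElem (bi M _ c)) hM hDbar hV hc.1 ((isPairStab_iff hM hc.1.1.2).2 rfl)
      refine ⟨by rw [hcb, hk]; rfl, ?_⟩
      rw [hr]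
      omega
    · have h := Cfsg.Agent.S4528.result M hM βb hβb Db hDbar (k + 2) (by omega)
        (by rw [show k + 2 - 1 = k + 1 by omega]; exact ⟨eD⟩)
      rw [show k + 2 - 2 = k by omega, ← hk] at h
      exact ⟨h.1, h.2.2.1⟩
  refine ⟨hTcard.trans hcb, ?_, (DihedralDefect.blockRank_le_quotient hM hβ hz hzo hβb hsub).trans hrb⟩
  -- height zero
  obtain ⟨φ, hφ, h0⟩ := exists_height_zero hM hβb
  refine ⟨inflate N φ, hT ▸ ⟨φ, hφ, rfl⟩, ?_⟩
  have h1 := blockDefect_add_minExp hM hβ
  have h2 := blockDefect_add_minExp hM hβb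
  have h3 := IsDefectGroup.card hM hβ hD
  have h4 := IsDefectGroup.card hM hβb hDbar
  rw [hcard] at h4
  rw [Q.card] at h3
  have hd : blockDefect 2 β = blockDefect 2 βb + 1 := by
    refine Nat.pow_right_injective le_rfl (show 2 ^ blockDefect 2 β = 2 ^ (blockDefect 2 βb + 1) from ?_)
    rw [pow_succ, ← h4, ← h3]
    ring
  have hfac : (Nat.card G).factorization 2 = (Nat.card (G ⧸ N)).factorization 2 + 1 := by
    rw [Subgroup.card_eq_card_quotient_mul_card_subgroup N,
      show Nat.card N = 2 by rw [hN, Nat.card_zpowers, hzo],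
      Nat.factorization_mul Nat.card_pos.ne' two_ne_zero, Finsupp.add_apply,
      Nat.prime_two.factorization_self]
  have hdeg : deg (inflate N φ : G → ℂ) = deg (φ : G ⧸ N → ℂ) := rfl
  have h5 := minExp_eq_of_height_zero hM hβb hφ h0
  rw [blockHeight]
  show (deg (inflate N φ : G → ℂ)).factorization 2 - minExp 2 β = 0
  rw [hdeg, h5]
  omega

/-- On the regular elements a member is an integral combination of those trivial on the central
involution. -/
theorem exists_regular_comb (hM : IsPModular 2 M) {β : Set (IrrCharacter G)} (hβ : IsPBlock M β)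
    {z : G} (hzc : z ∈ Subgroup.center G) (hzo : orderOf z = 2) (χ : IrrCharacter G) (hχ : χ ∈ β)
    [Fintype (trivPart β z)] :
    ∃ m : trivPart β z → ℤ, ∀ w : G, ¬ 2 ∣ orderOf w →
      (χ : G → ℂ) w = ∑ φ : trivPart β z, (m φ : ℂ) * ((φ : IrrCharacter G) : G → ℂ) w := by
  classical
  haveI : Fact (Nat.Prime 2) := ⟨Nat.prime_two⟩
  haveI : (Subgroup.zpowers z).Normal := ⟨fun a ha x => by
    rw [Subgroup.mem_center_iff.1 ((Subgroup.zpowers_le.2 hzc) ha) x, mul_inv_cancel_right]
    exact ha⟩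
  set X := Subgroup.zpowers z with hXdef
  letI := Fintype.ofFinite (G ⧸ X)
  have hXc : ∀ c ∈ X, ∀ d : G, d * c = c * d := fun c hc d =>
    Subgroup.mem_center_iff.1 ((Subgroup.zpowers_le.2 hzc) hc) d
  obtain ⟨v, n, hn, hHn⟩ :=
    Nat.exists_eq_pow_mul_and_not_dvd (Nat.card_pos (α := G)).ne' 2 (by norm_num)
  have hco : (2 ^ v).Coprime n := ((Nat.prime_two.coprime_iff_not_dvd).2 hn).pow_left v
  obtain ⟨t, ht0, ht1⟩ := Nat.chineseRemainder hco 0 1
  have hreg : ∀ a : G, ¬ 2 ∣ orderOf a → a ^ t = a := fun a ha =>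
    pow_eq_self_of_modEq_one (((Nat.prime_two.coprime_iff_not_dvd).2 ha).pow_left v |>.symm
      |>.dvd_of_dvd_mul_left (hHn ▸ orderOf_dvd_natCard a)) ht1
  have hzt : z ^ t = 1 := by
    refine pow_eq_one_of_modEq_zero ?_ ht0
    refine Nat.Coprime.dvd_of_dvd_mul_right ?_ (hHn ▸ orderOf_dvd_natCard z)
    rw [hzo]
    exact (Nat.prime_two.coprime_iff_not_dvd).2 hn
  have hXt : ∀ a b : G, (a : G ⧸ X) = (b : G ⧸ X) → a ^ t = b ^ t := by
    intro a b h
    obtain ⟨j, hj⟩ := Subgroup.mem_zpowers_iff.1 (QuotientGroup.eq.1 h)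
    have hb : b = a * z ^ j := by rw [hj, mul_inv_cancel_left]
    rw [hb, (show Commute a (z ^ j) from (Commute.zpow_right (Subgroup.mem_center_iff.1 hzc a) j)).mul_pow,
      ← zpow_natCast (z ^ j), ← zpow_mul, mul_comm j, zpow_mul, zpow_natCast, hzt, one_zpow, mul_one]
  have hcl : IsClassFunction G (χ : G → ℂ) := isClassFunction_irr χ
  set F : G ⧸ X → ℂ := fun q => (χ : G → ℂ) (q.out ^ t) with hF
  have hFc : ∀ c : G, F (c : G ⧸ X) = (χ : G → ℂ) (c ^ t) := fun c => by
    show (χ : G → ℂ) ((c : G ⧸ X).out ^ t) = _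
    rw [hXt _ c (QuotientGroup.out_eq' _)]
  have hFcl : IsClassFunction (G ⧸ X) F := by
    intro a b
    obtain ⟨a, rfl⟩ := QuotientGroup.mk_surjective a
    obtain ⟨b, rfl⟩ := QuotientGroup.mk_surjective b
    rw [← QuotientGroup.mk_inv, ← QuotientGroup.mk_mul, ← QuotientGroup.mk_mul, hFc, hFc, conj_pow]
    exact hcl _ _
  have hFgen : IsGeneralizedCharacter (G ⧸ X) F := by
    refine isGeneralized_of_elementary hFcl fun E hE => ?_
    obtain ⟨q, hq, hel⟩ := hE
    haveI := isNilpotent_of_isElementary hq hel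
    set E' := E.comap (QuotientGroup.mk' X) with hE'
    let f : E' →* E := (QuotientGroup.mk' X).subgroupComap E
    haveI : Group.IsNilpotent E' := by
      refine Subgroup.isNilpotent_of_ker_le_center f fun c hc => ?_
      have h1 : ((c : G) : G ⧸ X) = 1 := congrArg Subtype.val (MonoidHom.mem_ker.1 hc)
      exact Subgroup.mem_center_iff.2 fun d =>
        Subtype.ext (hXc _ ((QuotientGroup.eq_one_iff (c : G)).1 h1) (d : G))
    have hmul := mul_pow_of_isNilpotent (G := E') (hHn ▸ E'.card_subgroup_dvd_card) hco ht0 ht1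
    have hval : ∀ a : G, ∀ e : E, (a : G ⧸ X) = e → (e : G ⧸ X).out ^ t = a ^ t := fun a e h =>
      (hXt _ _ ((QuotientGroup.out_eq' _).trans h.symm))
    have hmem : ∀ e : E, (e : G ⧸ X).out ∈ E' := fun e => by
      show ((e : G ⧸ X).out : G ⧸ X) ∈ E
      rw [QuotientGroup.out_eq']
      exact e.2
    let θ : E →* G := MonoidHom.mk' (fun e => (e : G ⧸ X).out ^ t) fun e e' => by
      have h := congrArg Subtype.val
        (hmul ⟨_, hmem e⟩ ⟨_, hmem e'⟩)
      simp only [Subgroup.coe_mul, SubgroupClass.coe_pow] at h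
      rw [← h]
      refine hval _ _ ?_
      rw [QuotientGroup.mk_mul, QuotientGroup.out_eq', QuotientGroup.out_eq', Subgroup.coe_mul]
    obtain ⟨a, b, ha, hb, hab⟩ := IsCharacter.isGeneralized (isCharacter_of_irr χ.2)
    refine ⟨fun e => a (θ e), fun e => b (θ e), IsCharacter.comp_hom ha θ,
      IsCharacter.comp_hom hb θ, funext fun e => ?_⟩
    show (χ : G → ℂ) ((e : G ⧸ X).out ^ t) = _
    rw [hab]
    rfl
  choose m hm using fun φ : IrrCharacter (G ⧸ X) => IsGeneralizedCharacter.exists_mult hFgen φ.2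
  -- the members trivial on `z` are inflated
  have hin : ∀ φ : IrrCharacter (G ⧸ X),
      (inflate X φ : G → ℂ) z = (inflate X φ : G → ℂ) 1 := fun φ => by
    rw [inflate_val, inflate_val, (QuotientGroup.eq_one_iff z).2 (Subgroup.mem_zpowers z),
      QuotientGroup.mk_one]
  refine ⟨fun φ => ∑ ψ ∈ Finset.univ.filter (fun ψ => inflate X ψ = φ.1), m ψ, fun w hw => ?_⟩
  have hblk : blockPart β (χ : G → ℂ) w = (χ : G → ℂ) w := by
    rw [blockPart_eq_sum, Finset.sum_congr rfl fun ψ _ => by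
      rw [classInner_irrCharacter, ite_mul, one_mul, zero_mul], Finset.sum_ite_eq,
      if_pos (Finset.mem_filter.2 ⟨Finset.mem_univ _, hχ⟩)]
  rw [← hblk, blockPart_congr_regular hM hβ (θ' := fun c => ∑ φ : IrrCharacter (G ⧸ X),
    (m φ : ℂ) * (inflate X φ : G → ℂ) c) (fun c hc => ?_) hw, blockPart_sum_smul]
  · simp only [Int.cast_sum, Finset.sum_mul, Finset.sum_filter]
    rw [Finset.sum_comm]
    refine Finset.sum_congr rfl fun φ _ => ?_
    rw [blockPart_eq_sum, Finset.sum_congr rfl fun ψ _ => by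
      rw [classInner_irrCharacter, ite_mul, one_mul, zero_mul], Finset.sum_ite_eq]
    simp only [Finset.mem_filter, Finset.mem_univ, true_and, Int.cast_ite, Int.cast_zero, ite_mul,
      zero_mul, mul_ite, mul_zero]
    by_cases hφ : inflate X φ ∈ β
    · rw [if_pos hφ, Finset.sum_eq_single (⟨_, hφ, hin φ⟩ : trivPart β z)
        (fun b _ hne => if_neg fun e => hne (Subtype.ext e.symm))
        (fun h => absurd (Finset.mem_univ _) h), if_pos rfl]
    · rw [if_neg hφ, Finset.sum_eq_zero fun b _ => if_neg fun e => hφ ?_]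
      rw [e]; exact b.2.1
  · have h := classFunction_expand_apply hFcl (c : G ⧸ X)
    rw [hFc, hreg c hc] at h
    refine h.trans (Finset.sum_congr rfl fun φ _ => ?_)
    rw [hm]
    rfl

end Cfsg.Lib.Blocks.QuaternionDefect
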