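import Mathlib
import Cfsg.Agent.Blocks.RegIntResidue
import Cfsg.Agent.Blocks.CentralReduction
import Cfsg.Agent.Blocks.CentralTwo

/-!
# The reduced regular matrix of a 2-block
-/

set_option autoImplicit false
set_option linter.unusedSectionVars false

namespace Cfsg.Lib.Blocks.QuaternionDefect

open Cfsg Cfsg.Lib.Chars Cfsg.Lib.Blocks
open scoped ComplexConjugate

universe u

variable {G : Type u} [Group G] [Fintype G] {M : Ideal AlgInt} {p : ℕ}
  {β : Set (IrrCharacter G)}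

/-- The regular matrix is linear in the regular values. -/
lemma regRed_linear (hM : IsPModular p M) (hβ : IsPBlock M β) {ι : Type*} (s : Finset ι)
    (c : ι → ℤ) (φ : ι → IrrCharacter G) (θ : IrrCharacter G)
    (h : ∀ w : G, ¬ p ∣ orderOf w → (θ : G → ℂ) w = ∑ i ∈ s, (c i : ℂ) * (φ i : G → ℂ) w)
    {ψ : IrrCharacter G} (hψ : ψ ∈ β) :
    regRed p β θ ψ = ∑ i ∈ s, c i * regRed p β (φ i) ψ := by
  apply Int.cast_injective (α := ℂ)
  push_cast
  simp only [← pow_blockDefect_mul_classInner hM hβ _ hψ]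
  rw [show pRegularPart p (θ : G → ℂ) = ∑ i ∈ s, (c i : ℂ) • pRegularPart p (φ i : G → ℂ) from
    funext fun w => by
      simp only [Finset.sum_apply, Pi.smul_apply, smul_eq_mul, pRegularPart_apply]
      by_cases hw : p ∣ orderOf w
      · simp [hw]
      · simp only [hw, if_false, h w hw], classInner_sum_left, Finset.mul_sum]
  exact Finset.sum_congr rfl fun i _ => by rw [classInner_smul_left]; ring

/-- A relation on the regular elements is a relation between the rows. -/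
lemma sum_mul_regRed_eq_zero (hM : IsPModular p M) (hβ : IsPBlock M β) {ι : Type*} (s : Finset ι)
    (c : ι → ℂ) (φ : ι → IrrCharacter G)
    (h : ∀ w : G, ¬ p ∣ orderOf w → ∑ i ∈ s, c i * (φ i : G → ℂ) w = 0)
    {ψ : IrrCharacter G} (hψ : ψ ∈ β) :
    ∑ i ∈ s, c i * (regRed p β (φ i) ψ : ℂ) = 0 := by
  simp only [← pow_blockDefect_mul_classInner hM hβ _ hψ, mul_left_comm _ ((p : ℂ) ^ _)]
  rw [← Finset.mul_sum]
  simp only [← classInner_smul_left]
  rw [← classInner_sum_left, show (∑ i ∈ s, c i • pRegularPart p (φ i : G → ℂ)) = 0 from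
    funext fun w => by
      simp only [Finset.sum_apply, Pi.smul_apply, smul_eq_mul, pRegularPart_apply, Pi.zero_apply]
      by_cases hw : p ∣ orderOf w
      · simp [hw]
      · simp only [hw, if_false, h w hw], classInner_zero_left, mul_zero]

/-- Reproduction over the block. -/
lemma sum_regRed_mul (hM : IsPModular p M) (hβ : IsPBlock M β) [DecidablePred (· ∈ β)]
    {χ ψ : IrrCharacter G} (hχ : χ ∈ β) (hψ : ψ ∈ β) :
    ∑ θ ∈ Finset.univ.filter (· ∈ β), regRed p β χ θ * regRed p β θ ψ =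
      (p : ℤ) ^ blockDefect p β * regRed p β χ ψ := by
  have h := sum_regInt_mul_regInt hM.1 χ ψ
  rw [← Finset.sum_subset (Finset.filter_subset (· ∈ β) Finset.univ) (fun θ _ hθ => by
      rw [regInt_eq_zero hM hβ hχ (fun e => hθ (Finset.mem_filter.2 ⟨Finset.mem_univ _, e⟩)),
        zero_mul]),
    Finset.sum_congr rfl fun θ hθ => by
      rw [← pow_mul_regRed hM hβ χ (Finset.mem_filter.1 hθ).2, ← pow_mul_regRed hM hβ θ hψ],
    ← pow_mul_regRed hM hβ χ hψ, ← blockDefect_add_minExp hM hβ, pow_add] at h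
  have hp : (p : ℤ) ^ minExp p β ≠ 0 := pow_ne_zero _ (Int.natCast_ne_zero.2 hM.1.ne_zero)
  refine mul_left_cancel₀ (mul_ne_zero hp hp) ?_
  rw [Finset.mul_sum]
  calc _ = ∑ θ ∈ Finset.univ.filter (· ∈ β), (p : ℤ) ^ minExp p β * regRed p β χ θ *
        ((p : ℤ) ^ minExp p β * regRed p β θ ψ) := Finset.sum_congr rfl fun θ _ => by ring
    _ = _ := by rw [h]; ring

lemma regRed_self_pos (hM : IsPModular p M) (hβ : IsPBlock M β) {χ : IrrCharacter G} (hχ : χ ∈ β) :
    0 < regRed p β χ χ := by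
  have h := regInt_self_pos hM.1 χ
  rw [← pow_mul_regRed hM hβ χ hχ] at h
  exact pos_of_mul_pos_right h (pow_nonneg (Int.natCast_nonneg p) _)

lemma regRed_ne_zero (hM : IsPModular p M) (hβ : IsPBlock M β) {χ ψ : IrrCharacter G} (hχ : χ ∈ β)
    (h0 : blockHeight p β (χ : G → ℂ) = 0) (hψ : ψ ∈ β) : regRed p β χ ψ ≠ 0 := fun e => by
  have h := (regInt_height_zero hM hβ hχ h0 hψ).1
  rw [← pow_mul_regRed hM hβ χ hψ, e, mul_zero] at h
  exact h rfl

lemma pow_two_dvd_regRed_self (hM : IsPModular p M) (hβ : IsPBlock M β) {χ : IrrCharacter G}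
    (hχ : χ ∈ β) (h0 : blockHeight p β (χ : G → ℂ) ≠ 0) : (p : ℤ) ^ 2 ∣ regRed p β χ χ := by
  classical
  have hd := regInt_height_pos hM hβ hχ h0 hχ
  rw [← pow_mul_regRed hM hβ χ hχ] at hd
  obtain ⟨φ, hφ, hφ0⟩ := exists_height_zero hM hβ
  have hle := minExp_le hM hβ hχ
  have hlt : minExp p β < (deg (χ : G → ℂ)).factorization p := by
    refine lt_of_le_of_ne hle fun e => h0 ?_
    obtain ⟨a, ha⟩ := exists_defectClass hM hβ
    have h1 := minExp_eq_of_height_zero hM hβ hφ hφ0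
    rw [blockHeight_eq hM hβ ha] at hφ0 ⊢
    omega
  refine (mul_dvd_mul_iff_left
    (pow_ne_zero (minExp p β) (Int.natCast_ne_zero.2 hM.1.ne_zero))).1 ?_
  rw [← pow_add]
  exact (pow_dvd_pow _ (by omega)).trans hd

/-- Parity. -/
lemma odd_regRed_iff (hM : IsPModular 2 M) (hβ : IsPBlock M β) {χ ψ : IrrCharacter G} (hχ : χ ∈ β)
    (hψ : ψ ∈ β) : Odd (regRed 2 β χ ψ) ↔
      blockHeight 2 β (χ : G → ℂ) = 0 ∧ blockHeight 2 β (ψ : G → ℂ) = 0 := by
  classical
  haveI : Fact (Nat.Prime 2) := ⟨Nat.prime_two⟩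
  haveI := charP_res hM
  obtain ⟨θ₀, h₀, h00⟩ := exists_height_zero hM hβ
  have hodd : ∀ a : ℤ, Odd a ↔ ((a : ℤ) : Res M) ≠ 0 := fun a => by
    rw [Ne, CharP.intCast_eq_zero_iff (Res M) 2, ← Int.not_even_iff_odd, even_iff_two_dvd]
    rfl
  have hz : ∀ a ∈ β, (Odd (regRed 2 β a θ₀) ↔ blockHeight 2 β (a : G → ℂ) = 0) := by
    intro a ha
    constructor
    · intro ho
      by_contra hne
      have hd := regInt_height_pos hM hβ ha hne h₀
      rw [← pow_mul_regRed hM hβ a h₀, minExp_eq_of_height_zero hM hβ h₀ h00, pow_succ] at hd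
      have := (mul_dvd_mul_iff_left (pow_ne_zero _ (by norm_num : ((2 : ℕ) : ℤ) ≠ 0))).1 hd
      rw [← Int.not_even_iff_odd, even_iff_two_dvd] at ho
      exact ho this
    · intro h0'
      obtain ⟨-, he⟩ := regInt_height_zero hM hβ ha h0' h₀
      rw [← Int.not_even_iff_odd, even_iff_two_dvd]
      intro h2
      have h1 : ((2 : ℕ) : ℤ) ^ (minExp 2 β + 1) ∣ regInt 2 a θ₀ := by
        rw [pow_succ, ← pow_mul_regRed hM hβ a h₀]
        exact mul_dvd_mul_left _ (by exact_mod_cast h2)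
      have h3 := (Nat.prime_two.pow_dvd_iff_le_factorization
        (Int.natAbs_ne_zero.2 (regInt_height_zero hM hβ ha h0' h₀).1)).1
        (Int.natCast_dvd.1 (by exact_mod_cast h1))
      rw [he, minExp_eq_of_height_zero hM hβ h₀ h00] at h3
      omega
  have key := cast_regRed_mul hM hβ h₀ hχ hψ
  have hself : (regRed 2 β θ₀ θ₀ : Res M) ≠ 0 := (hodd _).1 ((hz θ₀ h₀).2 h00)
  rw [hodd, ← hz χ hχ, ← hz ψ hψ, hodd, hodd]
  constructor
  · intro h
    exact mul_ne_zero_iff.1 (key ▸ mul_ne_zero h hself)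
  · intro h e
    rw [e, zero_mul] at key
    exact mul_ne_zero h.1 h.2 key.symm

/-- A vector killed by the rows vanishes on the regular elements. -/
lemma sum_apply_eq_zero (hM : IsPModular p M) (hβ : IsPBlock M β) {ι : Type*} (s : Finset ι)
    (x : ι → ℤ) (φ : ι → IrrCharacter G) (hφ : ∀ i ∈ s, φ i ∈ β)
    (h : ∀ ψ ∈ β, ∑ i ∈ s, x i * regRed p β (φ i) ψ = 0) {w : G} (hw : ¬ p ∣ orderOf w) :
    ∑ i ∈ s, (x i : ℂ) * (φ i : G → ℂ) w = 0 := by
  classical
  refine mul_left_cancel₀ (pow_ne_zero ((Nat.card G).factorization p)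
    (Nat.cast_ne_zero.2 hM.1.ne_zero : (p : ℂ) ≠ 0)) ?_
  rw [mul_zero, Finset.mul_sum]
  calc _ = ∑ i ∈ s, ∑ ψ ∈ Finset.univ.filter (· ∈ β),
        (x i : ℂ) * ((regInt p (φ i) ψ : ℂ) * (ψ : G → ℂ) w) := Finset.sum_congr rfl fun i hi => by
        have e := pow_mul_pRegularPart_eq_sum hM hβ (hφ i hi) w
        rw [pRegularPart_apply, if_neg hw] at e
        rw [mul_left_comm, e, Finset.mul_sum]
    _ = 0 := by
        rw [Finset.sum_comm]
        refine Finset.sum_eq_zero fun ψ hψ => ?_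
        have e := congrArg (fun t : ℤ => ((p : ℤ) ^ minExp p β * t : ℤ)) (h ψ (Finset.mem_filter.1 hψ).2)
        simp only [mul_zero, Finset.mul_sum] at e
        rw [Finset.sum_congr rfl fun i _ => by
          rw [mul_left_comm, pow_mul_regRed hM hβ _ (Finset.mem_filter.1 hψ).2]] at e
        rw [Finset.sum_congr rfl fun i _ => (mul_assoc _ _ _).symm, ← Finset.sum_mul]
        have e' := congrArg (fun t : ℤ => (t : ℂ)) e
        push_cast at e'
        rw [e', zero_mul]

/-- The values at a singular central element are orthogonal to the rows. -/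
lemma sum_apply_singular_mul_regRed (hM : IsPModular p M) (hβ : IsPBlock M β)
    [DecidablePred (· ∈ β)] {z : G} (hz : p ∣ orderOf z) {ψ : IrrCharacter G} (hψ : ψ ∈ β) :
    ∑ θ ∈ Finset.univ.filter (· ∈ β), (θ : G → ℂ) z * (regRed p β θ ψ : ℂ) = 0 := by
  classical
  rw [Finset.sum_congr rfl fun θ hθ => by
    rw [regRed_symm hM.1, ← pow_blockDefect_mul_classInner hM hβ ψ (Finset.mem_filter.1 hθ).2,
      classInner_def]]
  simp only [Finset.mul_sum]
  rw [Finset.sum_comm]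
  refine Finset.sum_eq_zero fun w _ => ?_
  by_cases hw : p ∣ orderOf w
  · refine Finset.sum_eq_zero fun θ _ => ?_
    rw [pRegularPart_apply, if_pos hw]
    simp
  · rw [Finset.sum_congr rfl fun (θ : IrrCharacter G) _ => show
      (θ : G → ℂ) z * ((p : ℂ) ^ blockDefect p β * ((Nat.card G : ℂ)⁻¹ *
        (pRegularPart p (ψ : G → ℂ) w * conj ((θ : G → ℂ) w)))) =
      ((p : ℂ) ^ blockDefect p β * (Nat.card G : ℂ)⁻¹ * pRegularPart p (ψ : G → ℂ) w) *
        ((θ : G → ℂ) z * conj ((θ : G → ℂ) w)) by ring,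
      ← Finset.mul_sum, block_orthogonality_regular' hM hβ hz hw, mul_zero]

end Cfsg.Lib.Blocks.QuaternionDefect
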