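import Mathlib
import Cfsg.Agent.Blocks.Star.NilpotentInner
import Cfsg.Agent.Blocks.SectionRanks
import Cfsg.Agent.Blocks.MajorHeightBound
import Cfsg.Agent.Blocks.QuaternionDefect.Psi

/-!
# Induction from the normalizer of a cyclic subgroup of order four

Class functions of `N(⟨y⟩)` supported on the elements having `y` as a power induce isometrically;
if they lie in a block of `N(⟨y⟩)`, their inductions lie in the induced block.
-/

set_option autoImplicit false
set_option linter.unusedSectionVars false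
set_option linter.style.haveILetI false

namespace Cfsg.Lib.Blocks.QuaternionDefect

open Cfsg Cfsg.Lib.Chars Cfsg.Lib.Blocks Cfsg.Lib.Blocks.Star
open scoped Classical ComplexConjugate

universe u

local notation "C⟨" P "⟩" => Subgroup.centralizer (SetLike.coe P)
local notation "N⟨" a "⟩" => Subgroup.normalizer (SetLike.coe (Subgroup.zpowers a))

variable {G : Type u} [Group G] [Fintype G] {M : Ideal AlgInt} {y : G}

/-- A class function supported on the elements having `y` as a power. -/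
def SuppY (y : G) (δ : N⟨y⟩ → ℂ) : Prop :=
  ∀ g, δ g ≠ 0 → y ∈ Subgroup.zpowers (g : G)

lemma centralizer_le_of_mem {g : G} (hyg : y ∈ Subgroup.zpowers g) :
    C⟨Subgroup.zpowers g⟩ ≤ N⟨y⟩ :=
  (le_centralizer_of_le (Subgroup.zpowers_le.2 hyg)).trans (Subgroup.centralizer_le_normalizer _)

/-- The elements having `y` as a power meet their conjugates only under `N(⟨y⟩)`. -/
lemma mem_of_conj (hy : orderOf y = 4) {g x : G} (hyg : y ∈ Subgroup.zpowers g)
    (hyc : y ∈ Subgroup.zpowers (x⁻¹ * g * x)) : x ∈ N⟨y⟩ := by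
  have h1 : x⁻¹ * y * x ∈ Subgroup.zpowers (x⁻¹ * g * x) := by
    obtain ⟨k, rfl⟩ := Subgroup.mem_zpowers_iff.1 hyg
    exact Subgroup.mem_zpowers_iff.2 ⟨k, by
      rw [show x⁻¹ * g * x = MulAut.conj x⁻¹ g by simp, ← map_zpow]; simp⟩
  have h2 : Subgroup.zpowers (x⁻¹ * y * x) = Subgroup.zpowers y := zpowers_four_eq hy (by
    rw [show x⁻¹ * y * x = MulAut.conj x⁻¹ y by simp]
    exact (orderOf_injective (MulAut.conj x⁻¹).toMonoidHom (MulAut.conj x⁻¹).injective y).trans hy)
    hyc h1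
  have hmap : (Subgroup.zpowers y).map (MulAut.conj x⁻¹).toMonoidHom = Subgroup.zpowers y := by
    rw [MonoidHom.map_zpowers]
    simpa using h2
  refine inv_mem_iff.1 (Subgroup.mem_normalizer_iff.2 fun u => ⟨fun hu => ?_, fun hu => ?_⟩)
  · rw [← hmap]; exact ⟨u, hu, rfl⟩
  · rw [← hmap] at hu
    obtain ⟨v, hv, hvu⟩ := hu
    exact (MulAut.conj x⁻¹).injective hvu ▸ hv

variable {δ δ' : N⟨y⟩ → ℂ}

lemma ext_ne_zero (hs : SuppY y δ) {g : G}
    (h : extendByZero N⟨y⟩ δ g ≠ 0) : y ∈ Subgroup.zpowers g := by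
  by_cases hg : g ∈ N⟨y⟩
  · rw [extendByZero_mem _ hg] at h
    exact hs _ h
  · exact absurd (extendByZero_not_mem _ hg) h

/-- The induced function on the support. -/
lemma indFun_eq (hy : orderOf y = 4) (hcl : IsClassFunction N⟨y⟩ δ)
    (hs : SuppY y δ) {g : N⟨y⟩} (hg : y ∈ Subgroup.zpowers (g : G)) :
    indFun N⟨y⟩ δ (g : G) = δ g := by
  rw [indFun_apply, ← Finset.sum_filter_of_ne (p := (· ∈ N⟨y⟩))
    fun x _ hne => mem_of_conj hy hg (ext_ne_zero hs hne)]
  have hterm : ∀ x ∈ Finset.univ.filter (· ∈ N⟨y⟩),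
      extendByZero N⟨y⟩ δ (x⁻¹ * (g : G) * x) = δ g := by
    intro x hx
    have hxC := (Finset.mem_filter.1 hx).2
    rw [show x⁻¹ * (g : G) * x = (((⟨x, hxC⟩ : N⟨y⟩)⁻¹ * g * ⟨x, hxC⟩ :
      N⟨y⟩) : G) from rfl, extendByZero_apply]
    exact classFunction_conj' hcl g _
  rw [Finset.sum_congr rfl hterm, Finset.sum_const, nsmul_eq_mul, ← mul_assoc,
    show (Finset.univ.filter (· ∈ N⟨y⟩)).card = Nat.card N⟨y⟩ by
      rw [Nat.card_eq_fintype_card, Fintype.card_subtype],
    inv_mul_cancel₀ (Nat.cast_ne_zero.2 Nat.card_pos.ne'), one_mul]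

/-- Induction is an isometry on these functions. -/
theorem classInner_ind (hy : orderOf y = 4) (hcl' : IsClassFunction N⟨y⟩ δ')
    (hs : SuppY y δ) (hs' : SuppY y δ') :
    classInner (indFun N⟨y⟩ δ) (indFun N⟨y⟩ δ') =
      classInner δ δ' := by
  rw [frobenius_reciprocity _ _ (isClassFunction_indFun _ _), classInner_def, classInner_def]
  congr 1
  refine Finset.sum_congr rfl fun g _ => ?_
  by_cases h : δ g = 0
  · rw [h, zero_mul, zero_mul]
  · rw [indFun_eq hy hcl' hs' (hs g h)]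

/-- The induced function vanishes on the elements of odd order. -/
lemma indFun_regular (hy : orderOf y = 4) (hs : SuppY y δ) {g : G} (hg : ¬ 2 ∣ orderOf g) :
    indFun N⟨y⟩ δ g = 0 := by
  rw [indFun_apply, Finset.sum_eq_zero fun x _ => ?_, mul_zero]
  by_contra h
  have h1 := orderOf_dvd_of_mem_zpowers (ext_ne_zero hs h)
  rw [hy, show x⁻¹ * g * x = MulAut.conj x⁻¹ g by simp] at h1
  exact hg (((show 2 ∣ 4 by norm_num).trans h1).trans
    (orderOf_injective (MulAut.conj x⁻¹).toMonoidHom (MulAut.conj x⁻¹).injective g).dvd)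

/-- The induced function lies in the induced block. -/
theorem classInner_outside (hM : IsPModular 2 M) (hy : orderOf y = 4)
    {β : Set (IrrCharacter N⟨y⟩)} {B : Set (IrrCharacter G)}
    (hind : IsInducedBlock M N⟨y⟩ β B)
    (hspan : ∀ ψ, ψ ∉ β → classInner δ (ψ : N⟨y⟩ → ℂ) = 0)
    (hcl : IsClassFunction N⟨y⟩ δ) (hs : SuppY y δ) {χ : IrrCharacter G}
    (hχ : χ ∉ B) :
    classInner δ (fun c : N⟨y⟩ => (χ : G → ℂ) c) = 0 := by
  haveI : Fact (Nat.Prime 2) := ⟨Nat.prime_two⟩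
  rw [classInner_def, sum_sections_complex (p := 2), Finset.sum_eq_zero fun x hx => ?_, mul_zero]
  have hx' := (Finset.mem_filter.1 hx).2
  set K := C⟨Subgroup.zpowers x⟩ with hK
  by_cases hall : ∀ w : K, ¬ 2 ∣ orderOf w → δ (x * (w : N⟨y⟩)) = 0
  · exact Finset.sum_eq_zero fun w hw => by rw [hall w (Finset.mem_filter.1 hw).2, zero_mul]
  push Not at hall
  obtain ⟨w₀, hw₀, hne⟩ := hall
  -- `y` is a power of `x`
  have hpart : IsPPart 2 ((x * (w₀ : N⟨y⟩) : N⟨y⟩)) x :=
    isPPart_mul (commute_of_mem_centralizer (H := K) rfl w₀.2) hx'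
      (by rwa [Subgroup.orderOf_coe])
  have hyx : y ∈ Subgroup.zpowers (x : G) := by
    obtain ⟨j, hj⟩ := Subgroup.mem_zpowers_iff.1 (hs _ hne)
    have hcomm : Commute (x : G) ((w₀ : N⟨y⟩) : G) :=
      congrArg Subtype.val (commute_of_mem_centralizer (H := K) rfl w₀.2).eq
    obtain ⟨k, hk⟩ := hx'
    set o := orderOf ((w₀ : N⟨y⟩) : G) with ho
    have hodd : ¬ 2 ∣ o := by rwa [ho, Subgroup.orderOf_coe, Subgroup.orderOf_coe]
    have hoo : o * o % 4 = 1 := by
      obtain ⟨q, hq⟩ : ∃ q, o = 2 * q + 1 := ⟨o / 2, by omega⟩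
      rw [hq, show (2 * q + 1) * (2 * q + 1) = 1 + 4 * (q * q + q) by ring, Nat.add_mul_mod_self_left]
    refine Subgroup.mem_zpowers_iff.2 ⟨j * ((o * o : ℕ) : ℤ), ?_⟩
    have hw : ((w₀ : N⟨y⟩) : G) ^ (j * ((o * o : ℕ) : ℤ)) = 1 := by
      rw [mul_comm j, zpow_mul, zpow_natCast, pow_mul, pow_orderOf_eq_one, one_pow, one_zpow]
    calc (x : G) ^ (j * ((o * o : ℕ) : ℤ))
        = ((x : G) * ((w₀ : N⟨y⟩) : G)) ^ (j * ((o * o : ℕ) : ℤ)) := by
          rw [hcomm.mul_zpow, hw, mul_one]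
      _ = y := by
          rw [zpow_mul, ← Subgroup.coe_mul, hj, zpow_natCast, ← pow_mod_orderOf, hy, hoo, pow_one]
  -- the centraliser in the group
  set H := C⟨Subgroup.zpowers (x : G)⟩ with hH
  have hle : H ≤ N⟨y⟩ := centralizer_le_of_mem hyx
  have hsub : IsSubOf N⟨y⟩ H K := fun c => by
    simp only [hK, hH, centralizer_zpowers, Subgroup.mem_centralizer_singleton_iff]
    exact ⟨fun e => congrArg Subtype.val e, fun e => Subtype.ext e⟩
  set E := subEquiv hsub hle with hE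
  haveI := Fintype.ofFinite H
  let g : H → ℂ := secFn (x : G) (χ : G → ℂ)
  let f : H → ℂ := fun a => δ (x * ((E.symm a : K) : N⟨y⟩))
  have hg : IsClassFunction H g := isClassFunction_secFn _ (isClassFunction_irr χ)
  have hreq : ∑ w ∈ Finset.univ.filter (fun w : K => ¬ 2 ∣ orderOf w),
      δ (x * (w : N⟨y⟩)) *
        conj ((χ : G → ℂ) ((x * (w : N⟨y⟩) : N⟨y⟩) : G)) =
      ∑ v ∈ Finset.univ.filter (fun v : H => ¬ 2 ∣ orderOf v), f v * conj (g v) := by
    refine Finset.sum_equiv E.toEquiv (fun w => ?_) fun w _ => ?_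
    · simp only [Finset.mem_filter, Finset.mem_univ, true_and, MulEquiv.toEquiv_eq_coe,
        MulEquiv.coe_toEquiv, MulEquiv.orderOf_eq]
    · simp only [f, g, secFn, MulEquiv.toEquiv_eq_coe, MulEquiv.coe_toEquiv,
        MulEquiv.symm_apply_apply]
      rfl
  refine hreq.trans ?_
  rw [← sum_blockPart_mul_conj (p := 2) hM hg]
  refine Finset.sum_eq_zero fun b hb => Finset.sum_eq_zero fun v hv => ?_
  have hb' := (mem_blocksFinset hM).1 hb
  have hv' := (Finset.mem_filter.1 hv).2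
  set bK := inSub hsub hle b with hbK
  have hbKb : IsPBlock M bK := isPBlock_inSub hsub hle hb'
  by_cases hβ : IsInducedBlock M K bK β
  · have hbB : IsInducedBlock M H b B := IsInducedBlock.trans' hM hsub hle hb' hβ hind
    have hxG : ∃ k : ℕ, orderOf (x : G) = 2 ^ k := by
      obtain ⟨k, hk⟩ := hx'
      exact ⟨k, by rwa [Subgroup.orderOf_coe]⟩
    have hy' : blockPart b g v = 0 := by
      refine blockPart_translate_eq_zero hM hxG rfl (isPBlock_blockOf χ) (mem_blockOf_self hM χ)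
        hb' (fun h => hχ ?_) v hv'
      rw [IsInducedBlock.unique hM hbB h]
      exact mem_blockOf_self hM χ
    rw [hy', map_zero, mul_zero]
  · -- no part of `δ`
    suffices hy' : blockPart b f v = 0 by rw [hy', zero_mul]
    have hexp : (fun c : K => δ (x * (c : N⟨y⟩))) = fun c : K =>
        ∑ ψ : IrrCharacter N⟨y⟩, classInner δ (ψ : _ → ℂ) *
          (ψ : _ → ℂ) (x * (c : N⟨y⟩)) :=
      funext fun c => classFunction_expand_apply hcl _
    have hK0 : blockPart bK (fun c : K => δ (x * (c : N⟨y⟩))) (E.symm v) = 0 := by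
      rw [hexp, blockPart_sum_smul]
      refine Finset.sum_eq_zero fun ψ _ => ?_
      by_cases hψ : ψ ∈ β
      · rw [blockPart_translate_eq_zero hM hx' rfl hind.1 hψ hbKb hβ (E.symm v)
          (by rwa [MulEquiv.orderOf_eq]), mul_zero]
      · rw [hspan ψ hψ, zero_mul]
    have htr := blockPart_irrEquiv E b f (E.symm v)
    rw [MulEquiv.apply_symm_apply] at htr
    rw [← htr, ← hK0, hbK, inSub]
    congr 1

end Cfsg.Lib.Blocks.QuaternionDefect
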