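import Mathlib
import Cfsg.Agent.Blocks.QuaternionDefect.Psi
import Cfsg.Agent.Blocks.DihedralDefect.Local
import Cfsg.Agent.Blocks.DihedralDefect.Stars
import Cfsg.Agent.Blocks.MajorHeightBound
import Cfsg.Agent.Blocks.FirstMain

/-!
# The nilpotent block of the normalizer of the cyclic subgroup of order four

In the normalizer of `⟨σ ^ g⟩` the block with quaternion or semidihedral defect group is nilpotent.
-/

set_option autoImplicit false
set_option linter.unusedSectionVars false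
set_option linter.style.haveILetI false

namespace Cfsg.Lib.Blocks.QuaternionDefect

open Cfsg Cfsg.Lib.Chars Cfsg.Lib.Blocks Cfsg.Lib.Blocks.Star
open scoped Classical

universe u

local notation "C⟨" P "⟩" => Subgroup.centralizer (SetLike.coe P)

variable {G : Type u} [Group G] [Fintype G] {M : Ideal AlgInt}

/-- The block of a subgroup containing a defect pair. -/
theorem exists_block_down {p : ℕ} [Fact p.Prime] (hM : IsPModular p M) {B : Set (IrrCharacter G)}
    {D : Subgroup G} (hD : IsDefectGroup p M B D) {c : Set (IrrCharacter C⟨D⟩)}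
    (hc : IsBrauerPairOf p M B D c) {H : Subgroup G} [Fintype H] (hDH : D ≤ H) (hCH : C⟨D⟩ ≤ H) :
    ∃ b : Set (IrrCharacter H), IsInducedBlock M H b B ∧ IsDefectGroup p M b (D.subgroupOf H) := by
  classical
  obtain ⟨b, hb, -⟩ := existsUnique_block (G := H) hM
    (e := downSet hDH c) ⟨hc.1.1.comap_subtype, isPBlock_downSet hDH hCH hc.1.2⟩
  have hind := isInducedBlock_of_pair hM hDH hCH hb.2.1
    ((pair_down_iff hM hDH hCH hc.1.1 hb.2.1 hc.1.2).1 hb) hc
  obtain ⟨D', hD'⟩ := exists_defectGroup hM hb.2.1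
  obtain ⟨E, hE, hle⟩ := exists_defectGroup_ge_of_induced hM H hind hD'
  obtain ⟨x, hx⟩ := exists_le_conj_of_pair hM hD' hb
  obtain ⟨a, ha⟩ := IsDefectGroup.exists_eq_conj hM hc.2.1 hD hE
  have hcard : Nat.card (D'.map (MulAut.conj x).toMonoidHom) ≤ Nat.card (D.subgroupOf H) := by
    rw [card_map_conj, Nat.card_congr (Subgroup.subgroupOfEquivOfLe hDH).toEquiv,
      ← Subgroup.card_map_of_injective H.subtype_injective, ← card_map_conj D a, ← ha]
    exact Subgroup.card_le_of_le hle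
  refine ⟨b, hind, ?_⟩
  rw [Subgroup.eq_of_le_of_card_ge hx hcard]
  exact IsDefectGroup.conj hM hb.2.1 hD' x

section Axis

variable {D : Subgroup G} [Fintype D] {σ τ : D} {g : ℕ}

lemma Axis4.mem_coe (u : D) :
    (u : G) ∈ Subgroup.zpowers (σ : G) ↔ u ∈ Subgroup.zpowers σ := by
  simp only [Subgroup.mem_zpowers_iff, ← Subgroup.coe_zpow, Subtype.coe_inj]

/-- An element of odd order normalising `⟨σ ^ g⟩` commutes with `σ ^ g`. -/
lemma commute_of_odd (Q : Axis4 σ τ g) {x : G}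
    (hy : x * ((σ ^ g : D) : G) * x⁻¹ ∈ Subgroup.zpowers ((σ ^ g : D) : G))
    (hx : ¬ 2 ∣ orderOf x) : Commute x ((σ ^ g : D) : G) := by
  set y : G := ((σ ^ g : D) : G) with hydef
  have ho : orderOf y = 4 := by rw [hydef, Subgroup.orderOf_coe, Q.y_order]
  obtain ⟨j, hj⟩ := Subgroup.mem_zpowers_iff.1 hy
  have hoj : orderOf (y ^ j) = 4 := by
    rw [hj, ← ho]
    exact orderOf_injective (MulAut.conj x).toMonoidHom (MulAut.conj x).injective y
  have hodd : ¬ (2 : ℤ) ∣ j := by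
    rintro ⟨k, rfl⟩
    have h1 : (y ^ ((2 : ℤ) * k)) ^ 2 = 1 := by
      rw [← zpow_natCast, ← zpow_mul, show (2 : ℤ) * k * ((2 : ℕ) : ℤ) = ((4 : ℕ) : ℤ) * k by
        push_cast; ring, zpow_mul, zpow_natCast, ← ho, pow_orderOf_eq_one, one_zpow]
    have := Nat.le_of_dvd two_pos (orderOf_dvd_of_pow_eq_one h1)
    omega
  have h2 : x ^ 2 * y * (x ^ 2)⁻¹ = y := by
    have e : x ^ 2 * y * (x ^ 2)⁻¹ = y ^ (j * j) := by
      calc x ^ 2 * y * (x ^ 2)⁻¹ = MulAut.conj x (x * y * x⁻¹) := by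
            rw [MulAut.conj_apply, pow_two]; group
        _ = (MulAut.conj x y) ^ j := by rw [← hj, map_zpow]
        _ = y ^ (j * j) := by rw [MulAut.conj_apply, ← hj, ← zpow_mul]
    rw [e]
    conv_rhs => rw [← zpow_one y]
    rw [zpow_eq_zpow_iff_modEq, ho]
    obtain ⟨k, rfl⟩ : ∃ k, j = 2 * k + 1 := ⟨j / 2, by omega⟩
    exact (Int.modEq_iff_dvd.2 ⟨k * k + k, by push_cast; ring⟩).symm
  have hc : Commute (x ^ 2) y := mul_inv_eq_iff_eq_mul.1 h2
  obtain ⟨k, hk⟩ : ∃ k, orderOf x + 1 = 2 * k := ⟨(orderOf x + 1) / 2, by omega⟩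
  have := hc.pow_left k
  rwa [← pow_mul, ← hk, pow_succ, pow_orderOf_eq_one, one_mul] at this

/-- An element of odd order normalising `⟨σ ^ g⟩` and a subgroup of `D` centralises the
subgroup. -/
theorem centralizes (Q : Axis4 σ τ g) {R : Subgroup G} (hR : R ≤ D) {x : G}
    (hy : x * ((σ ^ g : D) : G) * x⁻¹ ∈ Subgroup.zpowers ((σ ^ g : D) : G))
    (hx : ¬ 2 ∣ orderOf x) (hnorm : x ∈ Subgroup.normalizer (R : Set G))
    {q : G} (hq : q ∈ R) : x * q = q * x := by
  classical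
  set y : G := ((σ ^ g : D) : G) with hydef
  set A := Subgroup.zpowers (σ : G) with hA
  have hxy : x * y * x⁻¹ = y := by rw [(commute_of_odd Q hy hx).eq, mul_inv_cancel_right]
  have hRx : ∀ a ∈ R, x * a * x⁻¹ ∈ R := fun a ha =>
    (Subgroup.mem_normalizer_iff.1 hnorm a).1 ha
  -- elements of order at most four in the rotations are powers of `σ ^ g`
  have hfour : ∀ a ∈ A, a ^ 4 = 1 → x * a * x⁻¹ = a := by
    intro a ha h4
    have haD : a ∈ D := (Subgroup.zpowers_le.2 σ.2) ha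
    have hmem : (⟨a, haD⟩ : D) ∈ Subgroup.zpowers (σ ^ g) := by
      set b : D := ⟨a, haD⟩ with hb
      have hbσ : b ∈ Subgroup.zpowers σ := (Axis4.mem_coe b).1 ha
      by_cases h2 : b * b = 1
      · by_cases h1 : b = 1
        · rw [h1]; exact one_mem _
        · rw [Q.rot_involution hbσ (orderOf_eq_prime (by rwa [pow_two]) h1), mul_comm 2 g, pow_mul]
          exact Subgroup.pow_mem _ (Subgroup.mem_zpowers _) 2
      · have ho : orderOf b = 4 := by
          refine orderOf_eq_prime_pow (p := 2) (n := 1) ?_ ?_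
          · rw [pow_one, pow_two]; exact h2
          · exact Subtype.ext (by simpa [hb] using h4)
        have hz := zpowers_four_eq ho Q.y_order hbσ (Subgroup.pow_mem _ (Subgroup.mem_zpowers σ) g)
        rw [hz]
        exact Subgroup.mem_zpowers b
    obtain ⟨k, hk⟩ := Subgroup.mem_zpowers_iff.1 hmem
    have hk' : a = y ^ k := by rw [hydef, ← Subgroup.coe_zpow, hk]
    rw [hk', ← MulAut.conj_apply, map_zpow, MulAut.conj_apply, hxy]
  set S := R ⊓ A with hS
  have hSx : ∀ a ∈ S, x * a * x⁻¹ ∈ S := fun a ha => by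
    refine ⟨hRx a ha.1, ?_⟩
    by_cases h4 : a ^ 4 = 1
    · rw [hfour a ha.2 h4]; exact ha.2
    · have hu : (⟨x * a * x⁻¹, hR (hRx a ha.1)⟩ : D) ^ 4 ≠ 1 := fun h => h4 (by
        have h' := congrArg Subtype.val h
        simp only [Subgroup.coe_pow, Subgroup.coe_one, conj_pow, conj_eq_one_iff] at h'
        exact h')
      exact (Axis4.mem_coe (⟨x * a * x⁻¹, hR (hRx a ha.1)⟩ : D)).2 (Q.pow_four hu)
  have htwo : ∃ k : ℕ, orderOf (σ : G) = 2 ^ k := by
    obtain ⟨k, hk⟩ := Q.two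
    exact ⟨k + 2, by rw [Subgroup.orderOf_coe, Q.ord, hk]; ring⟩
  -- the cyclic part is centralised
  have hfix : ∀ a ∈ S, x * a * x⁻¹ = a := by
    haveI : IsCyclic S := Subgroup.isCyclic_of_le (inf_le_right : S ≤ A)
    obtain ⟨r, hr⟩ := IsCyclic.exists_generator (α := S)
    obtain ⟨k, hk⟩ := Subgroup.mem_zpowers_iff.1 (hr ⟨_, hSx _ r.2⟩)
    have hk' : x * (r : G) * x⁻¹ = (r : G) ^ k := by
      rw [← Subgroup.coe_zpow, hk]
    have hiter : ∀ j : ℕ, x ^ j * (r : G) * (x ^ j)⁻¹ = (r : G) ^ (k ^ j) := by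
      intro j
      induction j with
      | zero => simp
      | succ j ih =>
        calc x ^ (j + 1) * (r : G) * (x ^ (j + 1))⁻¹
            = MulAut.conj (x ^ j) (x * (r : G) * x⁻¹) := by
              rw [MulAut.conj_apply, pow_succ]; group
          _ = (MulAut.conj (x ^ j) (r : G)) ^ k := by rw [hk', map_zpow]
          _ = (r : G) ^ (k ^ (j + 1)) := by rw [MulAut.conj_apply, ih, ← zpow_mul, pow_succ]
    obtain ⟨e, he⟩ : ∃ e, orderOf (r : G) = 2 ^ e := by
      obtain ⟨k0, hk0⟩ := htwo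
      obtain ⟨e, -, he⟩ := (Nat.dvd_prime_pow Nat.prime_two).1
        (hk0 ▸ orderOf_dvd_of_mem_zpowers r.2.2)
      exact ⟨e, he⟩
    have hr1 : x * (r : G) * x⁻¹ = (r : G) := by
      rcases Nat.eq_zero_or_pos e with rfl | hepos
      · rw [pow_zero, orderOf_eq_one_iff] at he
        rw [he]; group
      · rw [hk']
        conv_rhs => rw [← zpow_one (r : G)]
        rw [zpow_eq_zpow_iff_modEq, he]
        refine (Int.modEq_iff_dvd.2 ?_).symm
        push_cast
        refine DihedralDefect.dvd_sub_one_of_pow hx hepos ?_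
        have h := hiter (orderOf x)
        rw [pow_orderOf_eq_one, one_mul, inv_one, mul_one] at h
        conv_lhs at h => rw [← zpow_one (r : G)]
        rw [zpow_eq_zpow_iff_modEq, he, Int.modEq_iff_dvd] at h
        exact_mod_cast h
    intro a ha
    obtain ⟨i, hi⟩ := Subgroup.mem_zpowers_iff.1 (hr ⟨a, ha⟩)
    have ha' : a = (r : G) ^ i := by rw [← Subgroup.coe_zpow, hi]
    rw [ha', ← MulAut.conj_apply, map_zpow, MulAut.conj_apply, hr1]
  suffices x * q * x⁻¹ = q by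
    calc x * q = x * q * x⁻¹ * x := by group
      _ = q * x := by rw [this]
  by_cases hqA : q ∈ A
  · exact hfix q ⟨hq, hqA⟩
  · have hv : x * q * x⁻¹ ∉ A := fun hvA => by
      have h := hfix _ ⟨hRx q hq, hvA⟩
      have h' : x * q * x⁻¹ = q := mul_left_cancel (a := x) (mul_right_cancel (b := x⁻¹) h)
      exact hqA (h' ▸ hvA)
    set r := q⁻¹ * (x * q * x⁻¹) with hr
    have hrS : r ∈ S := by
      refine ⟨R.mul_mem (R.inv_mem hq) (hRx q hq), ?_⟩
      set a : D := ⟨q, hR hq⟩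
      set b : D := ⟨x * q * x⁻¹, hR (hRx q hq)⟩
      refine (Axis4.mem_coe (a⁻¹ * b)).2
        ((Subgroup.mul_mem_iff_of_index_two Q.index).2 ?_)
      rw [Subgroup.inv_mem_iff]
      exact iff_of_false (fun h => hqA ((Axis4.mem_coe a).2 h)) fun h => hv ((Axis4.mem_coe b).2 h)
    have hiter : ∀ j : ℕ, x ^ j * q * (x ^ j)⁻¹ = q * r ^ j := by
      intro j
      induction j with
      | zero => simp
      | succ j ih =>
        calc x ^ (j + 1) * q * (x ^ (j + 1))⁻¹ = x * (x ^ j * q * (x ^ j)⁻¹) * x⁻¹ := by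
              rw [pow_succ']; group
          _ = (x * q * x⁻¹) * MulAut.conj x (r ^ j) := by rw [ih, MulAut.conj_apply]; group
          _ = q * r ^ (j + 1) := by
              rw [map_pow, MulAut.conj_apply, hfix r hrS, show x * q * x⁻¹ = q * r by rw [hr]; group,
                pow_succ', mul_assoc]
    have hm := hiter (orderOf x)
    rw [pow_orderOf_eq_one, one_mul, inv_one, mul_one, eq_comm, mul_eq_left] at hm
    obtain ⟨k0, hk0⟩ := htwo
    have hr1 : r = 1 := orderOf_eq_one_iff.1 (Nat.eq_one_of_dvd_coprimes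
      (((Nat.prime_two.coprime_iff_not_dvd).2 hx).pow_left k0)
      (hk0 ▸ orderOf_dvd_of_mem_zpowers hrS.2) (orderOf_dvd_of_pow_eq_one hm))
    rw [hr, inv_mul_eq_one] at hr1
    exact hr1.symm

/-- The block is nilpotent when `⟨σ ^ g⟩` is normal. -/
theorem nilpotent_of_normal [Fact (Nat.Prime 2)] (hM : IsPModular 2 M) {β : Set (IrrCharacter G)}
    (hD : IsDefectGroup 2 M β D) (hβ : IsPBlock M β) (Q : Axis4 σ τ g)
    (hy : ∀ x : G, x * ((σ ^ g : D) : G) * x⁻¹ ∈ Subgroup.zpowers ((σ ^ g : D) : G)) :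
    IsNilpotentBlock 2 M β := by
  refine ⟨hβ, fun R f hR x hnorm _ hreg => Subgroup.mem_centralizer_iff.2 fun q hq => ?_⟩
  obtain ⟨a, ha⟩ := exists_le_conj_of_pair hM hD hR
  set R' := R.map (MulAut.conj a⁻¹).toMonoidHom with hR'
  have hRD : R' ≤ D := by
    rintro _ ⟨u, hu, rfl⟩
    obtain ⟨v, hv, rfl⟩ := ha hu
    simpa [mul_assoc] using hv
  set w := a⁻¹ * x * a with hw
  have hwn : w ∈ Subgroup.normalizer (R' : Set G) := by
    have h : MulAut.conj a⁻¹ x ∈ (Subgroup.normalizer (R : Set G)).map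
        (MulAut.conj a⁻¹).toMonoidHom := ⟨x, hnorm, rfl⟩
    rw [show MulAut.conj a⁻¹ x = w by simp [hw]] at h
    exact Subgroup.le_normalizer_map _ h
  have hwo : ¬ 2 ∣ orderOf w := by
    have : w = MulAut.conj a⁻¹ x := by simp [hw]
    rw [this]
    exact fun h => hreg ((orderOf_injective (MulAut.conj a⁻¹).toMonoidHom
      (MulAut.conj a⁻¹).injective x) ▸ h)
  have h := centralizes Q hRD (hy w) hwo hwn ⟨q, hq, rfl⟩
  simp only [hw, MulEquiv.coe_toMonoidHom, MulAut.conj_apply, inv_inv] at h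
  calc q * x = a * (a⁻¹ * q * a * (a⁻¹ * x * a)) * a⁻¹ := by group
    _ = a * (a⁻¹ * x * a * (a⁻¹ * q * a)) * a⁻¹ := by rw [h]
    _ = x * q := by group

end Axis

/-- The nilpotent block of the normalizer of `⟨y⟩`, parametrised by its defect group. -/
structure Loc (M : Ideal AlgInt) (y : G) (β : Set (IrrCharacter G)) (g : ℕ) where
  hM : IsPModular 2 M
  b : Set (IrrCharacter (Subgroup.normalizer (Subgroup.zpowers y : Set G)))
  ind : IsInducedBlock M (Subgroup.normalizer (Subgroup.zpowers y : Set G)) b β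
  P : Subgroup (Subgroup.normalizer (Subgroup.zpowers y : Set G))
  c : Set (IrrCharacter C⟨P⟩)
  hmax : IsMaximalBrauerPair 2 M b P c
  σ : P
  τ : P
  axis : Axis4 σ τ g
  hσ : (((σ ^ g : P) : Subgroup.normalizer (Subgroup.zpowers y : Set G)) : G) = y
  center : (((σ ^ (2 * g) : P) : Subgroup.normalizer (Subgroup.zpowers y : Set G)) : G) ∈
    Subgroup.center G
  ψ : ℕ → P → ℂ
  psi : PsiData σ g ψ
  χ₀ : IrrCharacter (Subgroup.normalizer (Subgroup.zpowers y : Set G))
  mem₀ : χ₀ ∈ b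
  Φ : IrrCharacter P ≃ b
  hΦ : haveI : Fact (Nat.Prime 2) := ⟨Nat.prime_two⟩
    ∀ (ζ : IrrCharacter P) (a : Subgroup.normalizer (Subgroup.zpowers y : Set G)),
      ((Φ ζ : IrrCharacter (Subgroup.normalizer (Subgroup.zpowers y : Set G))) :
        Subgroup.normalizer (Subgroup.zpowers y : Set G) → ℂ) a = starFn 2 M P c (irrFn P ζ) χ₀ a

/-- A block with central involution has such data. -/
theorem exists_loc (hM : IsPModular 2 M) {β : Set (IrrCharacter G)} (hβ : IsPBlock M β)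
    {D : Subgroup G} (hD : IsDefectGroup 2 M β D) [Fintype D] {σ τ : D} {g : ℕ}
    (Q : Axis4 σ τ g)
    (hψ : ∀ {P : Type u} [Group P] [Fintype P] (e : D ≃* P),
      ∃ ψ : ℕ → P → ℂ, PsiData (e σ) g ψ) (hz : ((σ ^ (2 * g) : D) : G) ∈ Subgroup.center G) :
    Nonempty (Loc M ((σ ^ g : D) : G) β g) := by
  classical
  haveI : Fact (Nat.Prime 2) := ⟨Nat.prime_two⟩
  set y : G := ((σ ^ g : D) : G) with hydef
  set N := Subgroup.normalizer (Subgroup.zpowers y : Set G) with hN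
  have hDN : D ≤ N := by
    intro a ha
    have hmap : ∀ b : D, MulAut.conj (b : G) y ∈ Subgroup.zpowers y := by
      intro b
      obtain ⟨k, hk⟩ := Subgroup.mem_zpowers_iff.1 (Q.y_conj b)
      refine Subgroup.mem_zpowers_iff.2 ⟨k, ?_⟩
      rw [hydef, ← Subgroup.coe_zpow, hk]
      rfl
    refine Subgroup.mem_normalizer_iff.2 fun u => ⟨fun hu => ?_, fun hu => ?_⟩
    · obtain ⟨k, rfl⟩ := Subgroup.mem_zpowers_iff.1 hu
      rw [← MulAut.conj_apply, map_zpow]
      exact Subgroup.zpow_mem _ (hmap ⟨a, ha⟩) k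
    · obtain ⟨k, hk⟩ := Subgroup.mem_zpowers_iff.1 hu
      have h1 : u = MulAut.conj a⁻¹ (y ^ k) := by rw [hk, MulAut.conj_apply]; group
      rw [h1, map_zpow]
      exact Subgroup.zpow_mem _ (hmap ⟨a⁻¹, D.inv_mem ha⟩) k
  have hCN : C⟨D⟩ ≤ N :=
    (le_centralizer_of_le (Subgroup.zpowers_le.2 (σ ^ g : D).2)).trans
      (Subgroup.centralizer_le_normalizer _)
  obtain ⟨c, hc⟩ := exists_pair_of_defect hM hβ hD
  obtain ⟨b, hind, hbD⟩ := exists_block_down hM hD hc.1 hDN hCN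
  set P := D.subgroupOf N with hP
  set E : D ≃* P := (Subgroup.subgroupOfEquivOfLe hDN).symm with hE
  have hEval : ∀ a : D, ((E a : N) : G) = (a : G) := fun a => rfl
  have QP : Axis4 (E σ) (E τ) g := Q.map E
  have hnil : IsNilpotentBlock 2 M b := nilpotent_of_normal hM hbD hind.1 QP fun x => by
    have h := (Subgroup.mem_normalizer_iff.1 x.2 y).1 (Subgroup.mem_zpowers y)
    obtain ⟨k, hk⟩ := Subgroup.mem_zpowers_iff.1 h
    refine Subgroup.mem_zpowers_iff.2 ⟨k, Subtype.ext ?_⟩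
    rw [Subgroup.coe_zpow, Subgroup.coe_mul, Subgroup.coe_mul, Subgroup.coe_inv, ← map_pow, hEval,
      ← hydef, hk]
  obtain ⟨cP, hcP⟩ := exists_pair_of_defect hM hind.1 hbD
  obtain ⟨χ₀, hχ₀, Φ, hΦ⟩ := DihedralDefect.exists_stars hM hcP hnil
  obtain ⟨ψ, hψP⟩ := hψ E
  refine ⟨⟨hM, b, hind, P, cP, hcP, E σ, E τ, QP, ?_, ?_, ψ, hψP, χ₀, hχ₀, Φ, hΦ⟩⟩
  · rw [← map_pow, hEval, hydef]
  · rw [← map_pow, hEval]; exact hz

end Cfsg.Lib.Blocks.QuaternionDefect
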