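import Mathlib
import Cfsg.Agent.Blocks.QuaternionDefect.Local
import Cfsg.Agent.Blocks.QuaternionDefect.Coherent
import Cfsg.Agent.Blocks.DihedralDefect.Data
import Cfsg.Agent.Blocks.CentralTwo

/-!
# The coherent rows of a block with quaternion defect group and central involution
-/

set_option autoImplicit false
set_option linter.unusedSectionVars false
set_option linter.style.haveILetI false

namespace Cfsg.Lib.Blocks.QuaternionDefect

open Cfsg Cfsg.Lib.Chars Cfsg.Lib.Blocks Cfsg.Lib.Blocks.Star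
open scoped Classical ComplexConjugate

universe u

local notation "N⟨" a "⟩" => Subgroup.normalizer (SetLike.coe (Subgroup.zpowers a))

variable {G : Type u} [Group G] [Fintype G] {M : Ideal AlgInt} {y : G}
  {β : Set (IrrCharacter G)} {g : ℕ}

/-- Inner products with a restriction. -/
lemma classInner_resMult (H : Subgroup G) [Fintype H] (θ : IrrCharacter G) (η : IrrCharacter H) :
    classInner (fun x : H => (θ : G → ℂ) x) (η : H → ℂ) = (resMult H θ η : ℂ) := by
  rw [show (fun x : H => (θ : G → ℂ) x) =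
    ∑ ξ : IrrCharacter H, (resMult H θ ξ : ℂ) • (ξ : H → ℂ) from
      funext fun x => by simp [Finset.sum_apply, resMult_spec θ x], classInner_irrSum]

namespace Loc

variable (L : Loc M y β g)

/-- The central involution. -/
def z : G := (((L.σ ^ (2 * g) : L.P) : N⟨y⟩) : G)

/-- The central involution in the normalizer. -/
def zN : N⟨y⟩ := ((L.σ ^ (2 * g) : L.P) : N⟨y⟩)

lemma z_center : L.z ∈ Subgroup.center G := L.center

lemma zN_center : L.zN ∈ Subgroup.center N⟨y⟩ :=
  Subgroup.mem_center_iff.2 fun a => Subtype.ext (Subgroup.mem_center_iff.1 L.z_center (a : G))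

lemma order_y (L : Loc M y β g) : orderOf y = 4 := by
  rw [← L.hσ, Subgroup.orderOf_coe, Subgroup.orderOf_coe, L.axis.y_order]

lemma order_z : orderOf L.z = 2 := by
  rw [z, Subgroup.orderOf_coe, Subgroup.orderOf_coe, L.axis.z_order]

lemma z_sq : L.z * L.z = 1 := by rw [← pow_two, ← L.order_z, pow_orderOf_eq_one]

/-- The coefficients of the coherent characters. -/
noncomputable def coef (i : ℕ) (ζ : IrrCharacter L.P) : ℤ :=
  (IsGeneralizedCharacter.exists_mult (L.psi.isGen i) ζ.2).choose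

lemma coef_spec (i : ℕ) (ζ : IrrCharacter L.P) :
    classInner (L.ψ i) (ζ : L.P → ℂ) = (L.coef i ζ : ℂ) :=
  (IsGeneralizedCharacter.exists_mult (L.psi.isGen i) ζ.2).choose_spec

lemma psi_expand (i : ℕ) (u : L.P) :
    L.ψ i u = ∑ ζ : IrrCharacter L.P, (L.coef i ζ : ℂ) * (ζ : L.P → ℂ) u := by
  rw [classFunction_expand_apply (isClassFunction_generalized (L.psi.isGen i)) u]
  exact Finset.sum_congr rfl fun ζ _ => by rw [L.coef_spec]

/-- The character of the normalizer attached to `ζ`. -/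
noncomputable def star (ζ : IrrCharacter L.P) : IrrCharacter N⟨y⟩ := (L.Φ ζ).1

lemma star_injective : Function.Injective L.star := Subtype.val_injective.comp L.Φ.injective

/-- The coherent character of the normalizer. -/
noncomputable def delta (i : ℕ) (a : N⟨y⟩) : ℂ :=
  ∑ ζ : IrrCharacter L.P, (L.coef i ζ : ℂ) * (L.star ζ : N⟨y⟩ → ℂ) a

lemma delta_class (i : ℕ) : IsClassFunction N⟨y⟩ (L.delta i) := fun a b => by
  simp only [delta]
  exact Finset.sum_congr rfl fun ζ _ => by rw [isClassFunction_irr (L.star ζ) a b]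

lemma delta_inner (i j : ℕ) :
    classInner (L.delta i) (L.delta j) =
      classInner (L.ψ i) (L.ψ j) := by
  rw [funext (L.psi_expand i), funext (L.psi_expand j),
    DihedralDefect.inner_comb (fun ζ : IrrCharacter L.P => ζ) Function.injective_id]
  exact DihedralDefect.inner_comb L.star L.star_injective _ _

lemma delta_outside (i : ℕ) (θ : IrrCharacter N⟨y⟩) (hθ : θ ∉ L.b) :
    classInner (L.delta i) (θ : N⟨y⟩ → ℂ) = 0 := by
  rw [show L.delta i = ∑ ζ : IrrCharacter L.P, (L.coef i ζ : ℂ) • (L.star ζ : N⟨y⟩ → ℂ) from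
      funext fun a => by simp [delta, Finset.sum_apply], classInner_sum_left]
  refine Finset.sum_eq_zero fun ζ _ => ?_
  rw [classInner_smul_left, classInner_irr_ne, mul_zero]
  intro e
  exact hθ (e ▸ (L.Φ ζ).2)

/-- The coherent characters live on the elements having `y` as a power. -/
theorem delta_supp (i : ℕ) : SuppY y (L.delta i) := by
  haveI : Fact (Nat.Prime 2) := ⟨Nat.prime_two⟩
  intro a hne
  obtain ⟨s, hs⟩ := exists_isPPart (p := 2) Nat.prime_two a
  by_contra hy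
  refine hne ?_
  simp only [delta, star, L.hΦ]
  refine DihedralDefect.comb_eq_zero L.χ₀ _ hs fun t ht => ?_
  set u : L.P := ⟨t * a ^ s * t⁻¹, ht⟩ with hu
  rw [show t * a ^ s * t⁻¹ = (u : N⟨y⟩) from rfl]
  simp only [irrFn_coe]
  rw [← L.psi_expand]
  refine L.psi.off i _ ?_
  by_contra hcon
  push Not at hcon
  obtain ⟨m, hm⟩ := Subgroup.mem_zpowers_iff.1 (L.axis.y_mem hcon.1 hcon.2)
  set w : G := ((a : G) ^ s) ^ m with hw
  have h1 : (t : G) * w * (t : G)⁻¹ = y := by
    refine Eq.trans ?_ L.hσ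
    rw [← hm, ← MulAut.conj_apply, hw, map_zpow, MulAut.conj_apply, Subgroup.coe_zpow,
      Subgroup.coe_zpow, hu, Subgroup.coe_mul, Subgroup.coe_mul, Subgroup.coe_inv, Subgroup.coe_pow]
  have hwy : w ∈ Subgroup.zpowers y :=
    (Subgroup.mem_normalizer_iff.1 t.2 w).2 (by rw [h1]; exact Subgroup.mem_zpowers y)
  have hwo : orderOf w = 4 := by
    rw [← L.order_y, ← h1]
    exact (orderOf_injective (MulAut.conj (t : G)).toMonoidHom (MulAut.conj (t : G)).injective w).symm
  have he := zpowers_four_eq L.order_y hwo (Subgroup.mem_zpowers y) hwy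
  have hwa : w ∈ Subgroup.zpowers (a : G) :=
    Subgroup.zpow_mem _ (Subgroup.pow_mem _ (Subgroup.mem_zpowers _) s) m
  exact hy ((Subgroup.zpowers_le.2 hwa) (he ▸ Subgroup.mem_zpowers y))

/-- Multiplicities in the restrictions. -/
noncomputable def mult (θ : IrrCharacter G) (ζ : IrrCharacter L.P) : ℕ :=
  resMult N⟨y⟩ θ (L.star ζ)

/-- The coefficient of `θ` in the induced coherent character. -/
noncomputable def ent (i : ℕ) (θ : IrrCharacter G) : ℤ :=
  ∑ ζ : IrrCharacter L.P, L.coef i ζ * (L.mult θ ζ : ℤ)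

lemma delta_res (i : ℕ) (θ : IrrCharacter G) :
    classInner (L.delta i) (fun x : N⟨y⟩ => (θ : G → ℂ) x) = (L.ent i θ : ℂ) := by
  rw [show L.delta i = ∑ ζ : IrrCharacter L.P, (L.coef i ζ : ℂ) • (L.star ζ : N⟨y⟩ → ℂ) from
      funext fun a => by simp [delta, Finset.sum_apply], classInner_sum_left, ent]
  push_cast
  refine Finset.sum_congr rfl fun ζ _ => ?_
  refine (classInner_smul_left _ _ _).trans (congrArg ((L.coef i ζ : ℂ) * ·) ?_)
  exact (classInner_conj_symm _ _).symm.trans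
    ((congrArg conj (classInner_resMult _ θ (L.star ζ))).trans (map_natCast _ _))

lemma ent_outside (i : ℕ) {θ : IrrCharacter G} (hθ : θ ∉ β) : L.ent i θ = 0 := by
  have := classInner_outside L.hM L.order_y L.ind (L.delta_outside i) (L.delta_class i)
    (L.delta_supp i) hθ
  rw [L.delta_res] at this
  exact_mod_cast this

lemma sum_filter_ent (i : ℕ) (f : IrrCharacter G → ℂ) :
    ∑ θ ∈ Finset.univ.filter (· ∈ β), (L.ent i θ : ℂ) * f θ =
      ∑ θ : IrrCharacter G, (L.ent i θ : ℂ) * f θ :=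
  Finset.sum_filter_of_ne fun θ _ hne => by
    by_contra hθ
    exact hne (by rw [L.ent_outside i hθ, Int.cast_zero, zero_mul])

/-- The induced coherent characters. -/
theorem ind_expand (i : ℕ) (a : G) :
    indFun N⟨y⟩ (L.delta i) a =
      ∑ θ ∈ Finset.univ.filter (· ∈ β), (L.ent i θ : ℂ) * (θ : G → ℂ) a := by
  rw [L.sum_filter_ent, classFunction_expand_apply (isClassFunction_indFun _ _) a]
  refine Finset.sum_congr rfl fun θ _ => ?_
  rw [frobenius_reciprocity _ _ (isClassFunction_irr θ), L.delta_res]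

/-- The induced coherent characters vanish outside the conjugates of the elements having `y` as a
power. -/
theorem sum_ent_eq_zero (i : ℕ) {a : G} (ha : ∀ x : G, y ∉ Subgroup.zpowers (x⁻¹ * a * x)) :
    ∑ θ ∈ Finset.univ.filter (· ∈ β), (L.ent i θ : ℂ) * (θ : G → ℂ) a = 0 := by
  rw [← L.ind_expand, indFun_apply, Finset.sum_eq_zero fun x _ => ?_, mul_zero]
  by_contra h
  exact ha x (ext_ne_zero (L.delta_supp i) h)

/-- In particular on the elements of order not divisible by four. -/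
theorem sum_ent_of_order (i : ℕ) {a : G} (ha : ¬ 4 ∣ orderOf a) :
    ∑ θ ∈ Finset.univ.filter (· ∈ β), (L.ent i θ : ℂ) * (θ : G → ℂ) a = 0 :=
  L.sum_ent_eq_zero i fun x hx => ha (by
    have h := orderOf_dvd_of_mem_zpowers hx
    rwa [L.order_y, show x⁻¹ * a * x = MulAut.conj x⁻¹ a by simp, MulEquiv.orderOf_eq] at h)

/-- The Gram matrix. -/
theorem gram (i j : ℕ) :
    ∑ θ ∈ Finset.univ.filter (· ∈ β), (L.ent i θ : ℂ) * (L.ent j θ : ℂ) =
      classInner (L.ψ i) (L.ψ j) := by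
  rw [← L.delta_inner, ← classInner_ind L.order_y (L.delta_class j) (L.delta_supp i) (L.delta_supp j),
    funext (L.ind_expand i), funext (L.ind_expand j), L.sum_filter_ent]
  simp only [L.sum_filter_ent]
  rw [DihedralDefect.inner_comb (fun θ : IrrCharacter G => θ) Function.injective_id]
  simp only [map_intCast]

theorem gram_even {s t : ℕ} (hs : s ∈ Finset.Icc 1 g) (ht : t ∈ Finset.Icc 1 g) :
    ∑ θ ∈ Finset.univ.filter (· ∈ β), L.ent (2 * s) θ * L.ent (2 * t) θ =
      2 + (if s = t then 1 else 0) + (if s = g ∧ t = g then 1 else 0) := by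
  rw [Finset.mem_Icc] at hs ht
  apply Int.cast_injective (α := ℂ)
  push_cast
  rw [L.gram, L.psi.inner_even s (Finset.mem_Icc.2 hs) t (Finset.mem_Icc.2 ht)]
  by_cases e : s = g ∧ t = g
  · obtain ⟨rfl, rfl⟩ := e; norm_num
  · rw [if_neg e, if_neg e, add_zero]
    split_ifs <;> norm_num

theorem gram_odd {s t : ℕ} (hs : s ∈ Finset.Ico 1 g) (ht : t ∈ Finset.Ico 1 g) :
    ∑ θ ∈ Finset.univ.filter (· ∈ β), L.ent (2 * s + 1) θ * L.ent (2 * t + 1) θ =
      1 + if s = t then 1 else 0 := by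
  apply Int.cast_injective (α := ℂ)
  push_cast
  rw [L.gram, L.psi.inner_odd s hs t ht]

theorem gram_cross {s t : ℕ} (hs : s ∈ Finset.Icc 1 g) (ht : t ∈ Finset.Ico 1 g) :
    ∑ θ ∈ Finset.univ.filter (· ∈ β), L.ent (2 * s) θ * L.ent (2 * t + 1) θ = 0 := by
  apply Int.cast_injective (α := ℂ)
  push_cast
  rw [L.gram, L.psi.inner_cross s hs t ht]

lemma zP_center : L.σ ^ (2 * g) ∈ Subgroup.center L.P :=
  Subgroup.mem_center_iff.2 L.axis.z_comm

/-- The star of `ζ` at the central involution. -/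
lemma star_z (ζ : IrrCharacter L.P) :
    (L.star ζ : N⟨y⟩ → ℂ) L.zN = (ζ : L.P → ℂ) (L.σ ^ (2 * g)) * (L.χ₀ : N⟨y⟩ → ℂ) L.zN ∧
      ∀ a : N⟨y⟩, ¬ 2 ∣ orderOf a →
        (L.star ζ : N⟨y⟩ → ℂ) a = (ζ : L.P → ℂ) 1 * (L.χ₀ : N⟨y⟩ → ℂ) a := by
  haveI : Fact (Nat.Prime 2) := ⟨Nat.prime_two⟩
  have hc : ∀ a : N⟨y⟩, a * L.zN = L.zN * a := fun a => Subgroup.mem_center_iff.1 L.zN_center a
  have ho : IsPElem 2 L.zN := ⟨1, by
    rw [← Subgroup.orderOf_coe, pow_one]; exact L.order_z⟩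
  refine ⟨?_, fun a ha => ?_⟩
  · have h := DihedralDefect.star_central L.hM L.hmax (ψ := irrFn L.P ζ) L.mem₀ ho hc (g := 1)
      (by simp)
    rw [mul_one] at h
    rw [star, L.hΦ, h]
    exact congrArg (· * _) (irrFn_coe ζ (L.σ ^ (2 * g)))
  · have h := DihedralDefect.star_central L.hM L.hmax (ψ := irrFn L.P ζ) L.mem₀
      (x := (1 : N⟨y⟩)) ⟨0, by simp⟩ (fun b => by simp) (g := a) ha
    rw [one_mul] at h
    rw [star, L.hΦ, h]
    exact congrArg (· * _) (irrFn_coe ζ 1)

/-- The sign of the block at the central involution. -/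
noncomputable def kappa : ℂ := (L.χ₀ : N⟨y⟩ → ℂ) L.zN / (L.χ₀ : N⟨y⟩ → ℂ) 1

lemma coef_sign (i : ℕ) (ζ : IrrCharacter L.P) :
    (L.coef i ζ : ℂ) * ((ζ : L.P → ℂ) (L.σ ^ (2 * g)) / (ζ : L.P → ℂ) 1) =
      (-1) ^ i * (L.coef i ζ : ℂ) := by
  obtain ⟨s, hs, hs1, hsc⟩ := apply_central_sign ζ L.zP_center L.axis.z_sq
  have h1 := IsIrrCharacter.apply_one_ne_zero ζ.2
  rw [hs1, mul_div_assoc, div_self h1, mul_one]
  have h : classInner (L.ψ i) (ζ : L.P → ℂ) =
      (-1) ^ i * (s : ℂ) * classInner (L.ψ i) (ζ : L.P → ℂ) := by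
    rw [classInner_def, mul_left_comm ((-1 : ℂ) ^ i * (s : ℂ)),
      Finset.mul_sum _ _ ((-1 : ℂ) ^ i * (s : ℂ))]
    conv_lhs => rw [← Equiv.sum_comp (Equiv.mulLeft (L.σ ^ (2 * g)))]
    congr 1
    refine Finset.sum_congr rfl fun u _ => ?_
    rw [Equiv.coe_mulLeft, L.psi.z_mul, hsc, map_mul, map_intCast]
    ring
  rw [L.coef_spec] at h
  have hss : (s : ℂ) * (s : ℂ) = 1 := by rcases hs with rfl | rfl <;> norm_num
  linear_combination (s : ℂ) * h + ((-1 : ℂ) ^ i * (L.coef i ζ : ℂ)) * hss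

lemma delta_z_mul (i : ℕ) (a : N⟨y⟩) :
    L.delta i (L.zN * a) = L.kappa * (-1) ^ i * L.delta i a := by
  simp only [delta, Finset.mul_sum]
  refine Finset.sum_congr rfl fun ζ _ => ?_
  have hζ1 := IsIrrCharacter.apply_one_ne_zero ζ.2
  have hχ1 := IsIrrCharacter.apply_one_ne_zero L.χ₀.2
  have hr : (L.star ζ : N⟨y⟩ → ℂ) L.zN / (L.star ζ : N⟨y⟩ → ℂ) 1 =
      (ζ : L.P → ℂ) (L.σ ^ (2 * g)) / (ζ : L.P → ℂ) 1 * L.kappa := by
    rw [(L.star_z ζ).1, (L.star_z ζ).2 1 (by simp), kappa, mul_div_mul_comm]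
  rw [apply_mul_central _ L.zN_center, hr]
  linear_combination ((L.star ζ : N⟨y⟩ → ℂ) a * L.kappa) * L.coef_sign i ζ

/-- The rows see the sign at the central involution. -/
theorem ent_sign (i : ℕ) (θ : IrrCharacter G) :
    (L.ent i θ : ℂ) * ((θ : G → ℂ) L.z / (θ : G → ℂ) 1) =
      L.kappa * (-1) ^ i * (L.ent i θ : ℂ) := by
  have hind : ∀ a : G, indFun N⟨y⟩ (L.delta i) (L.z * a) =
      L.kappa * (-1) ^ i * indFun N⟨y⟩ (L.delta i) a := by
    intro a
    rw [indFun_apply, indFun_apply, mul_left_comm (L.kappa * _), Finset.mul_sum _ _ (L.kappa * _)]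
    congr 1
    refine Finset.sum_congr rfl fun x _ => ?_
    rw [show x⁻¹ * (L.z * a) * x = L.z * (x⁻¹ * a * x) by
      rw [← mul_assoc x⁻¹, Subgroup.mem_center_iff.1 L.z_center x⁻¹]; group]
    by_cases hmem : x⁻¹ * a * x ∈ N⟨y⟩
    · rw [extendByZero_mem _ (mul_mem (show L.z ∈ N⟨y⟩ from L.zN.2) hmem), extendByZero_mem _ hmem]
      exact L.delta_z_mul i ⟨_, hmem⟩
    · rw [extendByZero_not_mem _ hmem, extendByZero_not_mem _ (fun h => hmem (by
        have := mul_mem (inv_mem (show L.z ∈ N⟨y⟩ from L.zN.2)) h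
        rwa [inv_mul_cancel_left] at this)), mul_zero]
  have hcomb : (fun a => ∑ η : IrrCharacter G,
        ((L.ent i η : ℂ) * ((η : G → ℂ) L.z / (η : G → ℂ) 1)) * (η : G → ℂ) a) =
      fun a => ∑ η : IrrCharacter G, (L.kappa * (-1) ^ i * (L.ent i η : ℂ)) * (η : G → ℂ) a := by
    funext a
    have h := hind a
    rw [L.ind_expand, L.ind_expand, L.sum_filter_ent, L.sum_filter_ent, Finset.mul_sum] at h
    refine Eq.trans (Finset.sum_congr rfl fun η _ => ?_)
      (h.trans (Finset.sum_congr rfl fun η _ => by ring))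
    rw [apply_mul_central η L.z_center a]
    ring
  have key : ∀ c : IrrCharacter G → ℂ,
      classInner (fun a => ∑ η : IrrCharacter G, c η * (η : G → ℂ) a) (θ : G → ℂ) = c θ :=
    fun c => by
      rw [show (fun a => ∑ η : IrrCharacter G, c η * (η : G → ℂ) a) =
        ∑ η : IrrCharacter G, c η • (η : G → ℂ) from
          funext fun a => by simp [Finset.sum_apply], classInner_irrSum]
  have h := congrArg (fun F : G → ℂ => classInner F (θ : G → ℂ)) hcomb
  simpa only [key] using h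

/-- At height zero the last row is odd. -/
theorem odd_top {θ : IrrCharacter G} (hθ : θ ∈ β) (h0 : blockHeight 2 β (θ : G → ℂ) = 0) :
    Odd (L.ent (2 * g) θ) := by
  haveI : Fact (Nat.Prime 2) := ⟨Nat.prime_two⟩
  haveI := charP_res L.hM
  obtain ⟨θ₀, hθ₀, hθ0⟩ := exists_height_zero L.hM L.ind.1
  have hsum := cast_sum_regRed_ne_zero L.hM N⟨y⟩ L.ind hθ h0 hθ₀ hθ0 (resMult_spec θ)
  have hreg : ∀ ζ : IrrCharacter L.P, regRed 2 L.b (L.star ζ) θ₀ =
      (deg (ζ : L.P → ℂ) : ℤ) * regRed 2 L.b L.χ₀ θ₀ := fun ζ => by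
    apply Int.cast_injective (α := ℂ)
    push_cast
    refine (pow_blockDefect_mul_classInner L.hM L.ind.1 (L.star ζ) hθ₀).symm.trans ?_
    refine Eq.trans ?_ (congrArg ((deg (ζ : L.P → ℂ) : ℂ) * ·)
      (pow_blockDefect_mul_classInner L.hM L.ind.1 L.χ₀ hθ₀))
    rw [← irr_apply_one_eq_deg, mul_left_comm ((ζ : L.P → ℂ) 1)]
    congr 1
    rw [← classInner_smul_left]
    refine congrArg (fun F : N⟨y⟩ → ℂ => classInner F (θ₀ : N⟨y⟩ → ℂ)) (funext fun a => ?_)
    rw [Pi.smul_apply, smul_eq_mul, pRegularPart_apply, pRegularPart_apply]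
    by_cases ha : 2 ∣ orderOf a
    · simp [ha]
    · rw [if_neg ha, if_neg ha, (L.star_z ζ).2 a ha]
  rw [Finset.sum_subtype (p := (· ∈ L.b)) _ (fun η => by simp), ← L.Φ.sum_comp] at hsum
  have hpar : ((L.ent (2 * g) θ : ℤ) : Res M) * (regRed 2 L.b L.χ₀ θ₀ : Res M) ≠ 0 := by
    rw [ent, Int.cast_sum, Finset.sum_mul]
    refine fun h => hsum (Eq.trans ?_ h)
    refine Finset.sum_congr rfl fun ζ _ => ?_
    show (resMult N⟨y⟩ θ (L.star ζ) : Res M) * (regRed 2 L.b (L.star ζ) θ₀ : Res M) = _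
    obtain ⟨k, hk, hkpar⟩ := L.psi.top_parity ζ
    rw [L.coef_spec, Int.cast_inj] at hk
    subst hk
    have hcd : ((L.coef (2 * g) ζ : ℤ) : Res M) = ((deg (ζ : L.P → ℂ) : ℤ) : Res M) := by
      rw [← sub_eq_zero, ← Int.cast_sub, CharP.intCast_eq_zero_iff (Res M) 2, Nat.cast_ofNat,
        ← even_iff_two_dvd, Int.even_sub, ← Int.not_odd_iff_even, ← Int.not_odd_iff_even,
        not_iff_not, Int.odd_coe_nat]
      exact hkpar
    rw [hreg]
    push_cast [mult]
    rw [hcd]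
    push_cast
    ring
  rw [← Int.not_even_iff_odd, even_iff_two_dvd]
  intro h2
  exact hpar (by rw [(CharP.intCast_eq_zero_iff (Res M) 2 _).2 (by exact_mod_cast h2), zero_mul])

end Loc

end Cfsg.Lib.Blocks.QuaternionDefect
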