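import Mathlib
import Cfsg.Agent.Blocks.QuaternionDefect.Rows
import Cfsg.Agent.Blocks.QuaternionDefect.Quotient
import Cfsg.Agent.Blocks.QuaternionDefect.Mid
import Cfsg.Agent.Blocks.QuaternionDefect.Count
import Cfsg.Agent.Blocks.QuaternionDefect.Reg

/-!
# The block of the centralizer of the central involution
-/

set_option autoImplicit false
set_option linter.unusedSectionVars false
set_option linter.style.haveILetI false

namespace Cfsg.Lib.Blocks.QuaternionDefect

open Cfsg Cfsg.Lib.Chars Cfsg.Lib.Blocks Cfsg.Lib.Blocks.CentralReduction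
open scoped Classical ComplexConjugate

universe u

/-- Orthogonal vectors orthogonal to the odd rows are as many as the places allow. -/
lemma card_ge {ι : Type*} (F : Finset ι) {g n : ℕ} (O : ℕ → ι → ℤ) (V : Fin n → ι → ℤ)
    (N : Fin n → ℤ)
    (hO : ∀ i ∈ Finset.Ico 1 g, ∀ j ∈ Finset.Ico 1 g,
      ∑ χ ∈ F, O i χ * O j χ = 1 + if i = j then 1 else 0)
    (hOV : ∀ i ∈ Finset.Ico 1 g, ∀ a, ∑ χ ∈ F, O i χ * V a χ = 0)
    (hV : ∀ a b, ∑ χ ∈ F, V a χ * V b χ = if a = b then N a else 0) (hN : ∀ a, N a ≠ 0) :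
    g - 1 + n ≤ F.card := by
  have hli : LinearIndependent ℚ (Sum.elim
      (fun (s : Finset.Ico 1 g) (χ : F) => (O s χ : ℚ)) (fun a (χ : F) => (V a χ : ℚ))) := by
    rw [Fintype.linearIndependent_iff]
    intro c hc
    have hval : ∀ χ : F, ∑ s : Finset.Ico 1 g, c (.inl s) * (O s χ : ℚ) +
        ∑ a, c (.inr a) * (V a χ : ℚ) = 0 := fun χ => by
      have h := congrFun hc χ
      simpa [Fintype.sum_sum_type, Finset.sum_apply, Pi.smul_apply, smul_eq_mul] using h
    have hdot : ∀ W : ι → ℤ, ∑ s : Finset.Ico 1 g, c (.inl s) * ((∑ χ ∈ F, O s χ * W χ : ℤ) : ℚ) +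
        ∑ a, c (.inr a) * ((∑ χ ∈ F, V a χ * W χ : ℤ) : ℚ) = 0 := by
      intro W
      have h : ∑ χ : F, (∑ s : Finset.Ico 1 g, c (.inl s) * (O s χ : ℚ) +
          ∑ a, c (.inr a) * (V a χ : ℚ)) * (W χ : ℚ) = 0 :=
        Finset.sum_eq_zero fun χ _ => by rw [hval, zero_mul]
      simp only [add_mul, Finset.sum_mul, Finset.sum_add_distrib] at h
      rw [Finset.sum_comm, Finset.sum_comm (f := fun (χ : F) a => c (.inr a) * (V a χ : ℚ) * W χ)] at h
      refine Eq.trans ?_ h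
      congr 1 <;>
        (refine Finset.sum_congr rfl fun s _ => ?_
         push_cast
         rw [Finset.mul_sum, ← Finset.sum_coe_sort F]
         exact Finset.sum_congr rfl fun χ _ => by ring)
    have hr : ∀ a, c (.inr a) = 0 := fun b => by
      have h := hdot (V b)
      rw [Finset.sum_eq_zero fun (s : Finset.Ico 1 g) _ => by rw [hOV s s.2 b, Int.cast_zero, mul_zero],
        zero_add] at h
      simpa [hV, Int.cast_ite, mul_ite, hN b] using h
    have hl : ∀ t : Finset.Ico 1 g, c (.inl t) + ∑ s : Finset.Ico 1 g, c (.inl s) = 0 := fun t => by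
      have h := hdot (O t)
      rw [Finset.sum_eq_zero (s := (Finset.univ : Finset (Fin n))) fun a _ => by rw [hr a, zero_mul],
        add_zero, Finset.sum_congr rfl fun (s : Finset.Ico 1 g) _ => show _ =
          c (.inl s) + if s = t then c (.inl s) else 0 by
            rw [hO s s.2 t t.2]
            push_cast
            simp only [Subtype.coe_inj, mul_add, mul_one, mul_ite, mul_zero],
        Finset.sum_add_distrib, Finset.sum_ite_eq', if_pos (Finset.mem_univ _)] at h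
      linarith
    set C := ∑ s : Finset.Ico 1 g, c (.inl s) with hC
    have hC0 : C = 0 := by
      have h : ∑ t : Finset.Ico 1 g, (c (.inl t) + C) = 0 := Finset.sum_eq_zero fun t _ => hl t
      rw [Finset.sum_add_distrib, ← hC, Finset.sum_const, nsmul_eq_mul] at h
      have h' : ((1 : ℚ) + (Finset.univ : Finset (Finset.Ico 1 g)).card) * C = 0 := by linarith
      exact (mul_eq_zero.1 h').resolve_left (by positivity)
    rintro (t | a)
    · have := hl t; linarith
    · exact hr a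
  have h := hli.fintype_card_le_finrank
  simpa using h

variable {G : Type u} [Group G] [Fintype G] {M : Ideal AlgInt} {y : G}
  {β : Set (IrrCharacter G)} {g : ℕ}

/-- The columns of a block with quaternion defect group at its central involution. -/
structure CentreData (β : Set (IrrCharacter G)) (z : G) (g : ℕ)
    (E : ℕ → IrrCharacter G → ℤ) where
  m : ℕ
  u : IrrCharacter G → ℤ
  w : Fin m → IrrCharacter G → ℤ
  expand : ∀ θ ∈ β, ∀ θ' ∈ β,
    regRed 2 β θ θ' = u θ * u θ' + g * ∑ j, w j θ * w j θ'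
  normu : ∑ θ ∈ Finset.univ.filter (· ∈ β), u θ * u θ = 8 * g
  normw : ∀ i j, ∑ θ ∈ Finset.univ.filter (· ∈ β), w i θ * w j θ = if i = j then 8 else 0
  normuw : ∀ j, ∑ θ ∈ Finset.univ.filter (· ∈ β), u θ * w j θ = 0
  paru : ∀ θ ∈ β, (Odd (u θ) ↔ blockHeight 2 β (θ : G → ℂ) = 0)
  parw : ∀ j, ∀ θ ∈ β, (Odd (w j θ) ↔ blockHeight 2 β (θ : G → ℂ) = 0)
  perpu : ∀ i, ∑ θ ∈ Finset.univ.filter (· ∈ β), E i θ * u θ = 0
  perpw : ∀ i j, ∑ θ ∈ Finset.univ.filter (· ∈ β), E i θ * w j θ = 0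
  kernel : m = 0 → ∃ x : IrrCharacter G → ℤ,
    (∀ θ, x θ ≠ 0 → θ ∈ β ∧ (θ : G → ℂ) z = (θ : G → ℂ) 1) ∧
    (∀ θ ∈ β, (Odd (x θ) ↔ blockHeight 2 β (θ : G → ℂ) = 0)) ∧
    ∑ θ ∈ Finset.univ.filter (· ∈ β), x θ * x θ ≤ 8 ∧
    (∀ s ∈ Finset.Icc 1 g, ∑ θ ∈ Finset.univ.filter (· ∈ β), E (2 * s) θ * x θ = 0) ∧
    (∀ s, ∑ θ ∈ Finset.univ.filter (· ∈ β), E (2 * s + 1) θ * x θ = 0) ∧
    ∀ w : G, ¬ 2 ∣ orderOf w →
      ∑ θ ∈ Finset.univ.filter (· ∈ β), (x θ : ℂ) * (θ : G → ℂ) w = 0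
  rank : blockRank 2 β = m + 1
  card : Nat.card β = 2 * g + 3 + m

namespace Loc

variable (L : Loc M y β g)

/-- The sign at the central involution. -/
noncomputable def sgn (θ : IrrCharacter G) : ℤ :=
  (apply_central_sign θ L.z_center L.z_sq).choose

lemma sgn_spec (θ : IrrCharacter G) : (L.sgn θ = 1 ∨ L.sgn θ = -1) ∧
    (θ : G → ℂ) L.z = (L.sgn θ : ℂ) * (θ : G → ℂ) 1 :=
  ⟨(apply_central_sign θ L.z_center L.z_sq).choose_spec.1,
    (apply_central_sign θ L.z_center L.z_sq).choose_spec.2.1⟩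

lemma sgn_eq_one_iff (θ : IrrCharacter G) :
    L.sgn θ = 1 ↔ (θ : G → ℂ) L.z = (θ : G → ℂ) 1 := by
  obtain ⟨h, e⟩ := L.sgn_spec θ
  rw [e]
  constructor
  · intro h1; rw [h1, Int.cast_one, one_mul]
  · intro h1
    rw [mul_left_eq_self₀, or_iff_left (IsIrrCharacter.apply_one_ne_zero θ.2)] at h1
    exact_mod_cast h1

/-- The members trivial on the central involution. -/
noncomputable def trivT : Finset (IrrCharacter G) :=
  Finset.univ.filter (· ∈ trivPart β L.z)

lemma mem_trivT {θ : IrrCharacter G} : θ ∈ L.trivT ↔ θ ∈ β ∧ L.sgn θ = 1 := by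
  rw [trivT, Finset.mem_filter, L.sgn_eq_one_iff]
  exact and_iff_right (Finset.mem_univ _)

lemma trivT_subset : L.trivT ⊆ Finset.univ.filter (· ∈ β) := fun _ hθ =>
  Finset.mem_filter.2 ⟨Finset.mem_univ _, (L.mem_trivT.1 hθ).1⟩

/-- The facts about the block which come from the quotient by the central involution. -/
structure Facts : Prop where
  block : IsPBlock M β
  defect : (2 : ℤ) ^ blockDefect 2 β = 8 * g
  card : L.trivT.card = g + 3
  height : ∃ φ ∈ L.trivT, blockHeight 2 β (φ : G → ℂ) = 0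

variable {L}
variable (hF : L.Facts)
include hF

lemma kappa_one : L.kappa = 1 := by
  obtain ⟨φ, hφ, h0⟩ := hF.height
  obtain ⟨hφβ, hs⟩ := L.mem_trivT.1 hφ
  have h := L.ent_sign (2 * g) φ
  rw [(L.sgn_eq_one_iff φ).1 hs, div_self (IsIrrCharacter.apply_one_ne_zero φ.2), mul_one,
    Even.neg_one_pow ⟨g, by ring⟩, mul_one] at h
  have hne : (L.ent (2 * g) φ : ℂ) ≠ 0 := Int.cast_ne_zero.2 fun e => by
    simpa [e] using L.odd_top hφβ h0
  exact (mul_right_cancel₀ hne (h.symm.trans (one_mul _).symm))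

lemma ent_sgn (i : ℕ) (θ : IrrCharacter G) : L.ent i θ * L.sgn θ = (-1) ^ i * L.ent i θ := by
  have h := L.ent_sign i θ
  rw [L.kappa_one hF, one_mul, (L.sgn_spec θ).2,
    mul_div_cancel_right₀ _ (IsIrrCharacter.apply_one_ne_zero θ.2)] at h
  exact_mod_cast h

lemma even_outside {s : ℕ} {θ : IrrCharacter G} (hθ : θ ∉ L.trivT) : L.ent (2 * s) θ = 0 := by
  by_cases hβ : θ ∈ β
  · have hs : L.sgn θ = -1 := (L.sgn_spec θ).1.resolve_left fun e => hθ (L.mem_trivT.2 ⟨hβ, e⟩)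
    have h := L.ent_sgn hF (2 * s) θ
    rw [hs, Even.neg_one_pow ⟨s, by ring⟩] at h
    omega
  · exact L.ent_outside _ hβ

lemma odd_inside {s : ℕ} {θ : IrrCharacter G} (hθ : θ ∈ L.trivT) : L.ent (2 * s + 1) θ = 0 := by
  have h := L.ent_sgn hF (2 * s + 1) θ
  rw [(L.mem_trivT.1 hθ).2, Odd.neg_one_pow ⟨s, rfl⟩] at h
  omega

lemma height_mem {θ : IrrCharacter G} (hθ : θ ∈ β) (h0 : blockHeight 2 β (θ : G → ℂ) = 0) :
    θ ∈ L.trivT := by
  by_contra hn
  simpa [L.even_outside hF (s := g) hn] using L.odd_top hθ h0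

lemma sum_trivT (s : ℕ) (f : IrrCharacter G → ℤ) :
    ∑ θ ∈ L.trivT, L.ent (2 * s) θ * f θ =
      ∑ θ ∈ Finset.univ.filter (· ∈ β), L.ent (2 * s) θ * f θ :=
  Finset.sum_subset L.trivT_subset fun θ _ hn => by rw [L.even_outside hF hn, zero_mul]

/-- Reproduction over the members trivial on the central involution. -/
lemma regRed_sq {θ θ' : IrrCharacter G} (hθ : θ ∈ β) (hθ' : θ' ∈ β) :
    ∑ φ ∈ L.trivT, regRed 2 β θ φ * regRed 2 β φ θ' = 4 * g * regRed 2 β θ θ' := by
  have h := mul_sum_regRed_mul L.hM hF.block L.z_center L.order_z hθ hθ'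
  rw [Finset.sum_subtype L.trivT (p := (· ∈ trivPart β L.z)) (fun φ => by simp [trivT]) (F := inferInstance)]
  push_cast at h
  rw [hF.defect] at h
  linarith

lemma regRed_outside {θ θ' : IrrCharacter G} (hθ : θ ∈ β) (hθ' : θ' ∈ β) :
    ∑ φ ∈ Finset.univ.filter (· ∈ β) \ L.trivT, regRed 2 β θ φ * regRed 2 β φ θ' =
      4 * g * regRed 2 β θ θ' := by
  have h := sum_regRed_mul L.hM hF.block hθ hθ'
  rw [← Finset.sum_sdiff L.trivT_subset, L.regRed_sq hF hθ hθ'] at h
  push_cast at h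
  rw [hF.defect] at h
  linarith

/-- The rows are orthogonal to the regular matrix. -/
lemma ent_regRed (i : ℕ) {ψ : IrrCharacter G} (hψ : ψ ∈ β) :
    ∑ θ ∈ Finset.univ.filter (· ∈ β), L.ent i θ * regRed 2 β θ ψ = 0 := by
  apply Int.cast_injective (α := ℂ)
  push_cast
  exact sum_mul_regRed_eq_zero L.hM hF.block _ _ (fun θ => θ)
    (fun w hw => L.sum_ent_of_order i fun h => hw ((show 2 ∣ 4 by norm_num).trans h)) hψ

/-- The last row vanishes at positive height, and there are four members of height zero. -/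
lemma top_facts {θ : IrrCharacter G} (hθ : θ ∈ β) :
    (L.ent (2 * g) θ ≠ 0 ↔ blockHeight 2 β (θ : G → ℂ) = 0) ∧
      (L.ent (2 * g) θ ≠ 0 → Odd (L.ent (2 * g) θ)) := by
  set H := L.trivT.filter fun φ : IrrCharacter G => blockHeight 2 β (φ : G → ℂ) = 0 with hH
  obtain ⟨φ, hφ, hφ0⟩ := hF.height
  have hφβ := (L.mem_trivT.1 hφ).1
  have hg : 1 ≤ g := L.axis.pos
  have hnorm : ∑ a ∈ L.trivT, L.ent (2 * g) a * L.ent (2 * g) a = 4 := by
    rw [L.sum_trivT hF, L.gram_even (Finset.mem_Icc.2 ⟨hg, le_rfl⟩) (Finset.mem_Icc.2 ⟨hg, le_rfl⟩)]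
    simp
  have hone : ∀ a ∈ H, 1 ≤ L.ent (2 * g) a * L.ent (2 * g) a := fun a ha => by
    obtain ⟨haT, ha0⟩ := Finset.mem_filter.1 ha
    have : L.ent (2 * g) a ≠ 0 := fun e => by
      simpa [e] using L.odd_top (L.mem_trivT.1 haT).1 ha0
    have := mul_self_pos.2 this
    omega
  have hle : (H.card : ℤ) ≤ 4 := by
    rw [← hnorm, ← Finset.sum_filter_add_sum_filter_not L.trivT
      (fun a : IrrCharacter G => blockHeight 2 β (a : G → ℂ) = 0)]
    refine le_add_of_le_of_nonneg ?_ (Finset.sum_nonneg fun a _ => mul_self_nonneg _)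
    rw [← nsmul_one, ← Finset.sum_const]
    exact Finset.sum_le_sum hone
  have hdvd : (4 : ℤ) ∣ H.card := by
    have h := L.regRed_sq hF hφβ hφβ
    have h4 : (4 : ℤ) ∣ ∑ a ∈ L.trivT,
        (regRed 2 β φ a * regRed 2 β a φ -
          if blockHeight 2 β (a : G → ℂ) = 0 then 1 else 0) := by
      refine Finset.dvd_sum fun a ha => ?_
      have haβ := (L.mem_trivT.1 ha).1
      have hp := odd_regRed_iff L.hM hF.block hφβ haβ
      rw [regRed_symm Nat.prime_two a φ]
      split_ifs with e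
      · obtain ⟨k, hk⟩ := hp.2 ⟨hφ0, e⟩
        exact ⟨k * k + k, by rw [hk]; ring⟩
      · obtain ⟨k, hk⟩ := Int.not_odd_iff_even.1 fun ho => e (hp.1 ho).2
        exact ⟨k * k, by rw [hk]; ring⟩
    rw [Finset.sum_sub_distrib, h, Finset.sum_boole] at h4
    exact (Int.dvd_iff_dvd_of_dvd_sub h4).1 ⟨g * regRed 2 β φ φ, by ring⟩
  have hpos : 0 < H.card := Finset.card_pos.2 ⟨φ, Finset.mem_filter.2 ⟨hφ, hφ0⟩⟩
  have hcard : H.card = 4 := by omega
  have hrest : ∀ a ∈ L.trivT, (blockHeight 2 β (a : G → ℂ) ≠ 0 → L.ent (2 * g) a = 0) ∧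
      (blockHeight 2 β (a : G → ℂ) = 0 → L.ent (2 * g) a * L.ent (2 * g) a = 1) := by
    have hsplit := hnorm
    rw [← Finset.sum_filter_add_sum_filter_not L.trivT
      (fun a : IrrCharacter G => blockHeight 2 β (a : G → ℂ) = 0), ← hH] at hsplit
    have h1 : (4 : ℤ) ≤ ∑ a ∈ H, L.ent (2 * g) a * L.ent (2 * g) a := by
      refine le_trans (le_of_eq ?_) (Finset.sum_le_sum hone)
      simp [hcard]
    have h2 := Finset.sum_nonneg (s := L.trivT.filter fun a : IrrCharacter G =>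
      ¬ blockHeight 2 β (a : G → ℂ) = 0) (f := fun a => L.ent (2 * g) a * L.ent (2 * g) a)
      fun a _ => mul_self_nonneg _
    intro a ha
    constructor
    · intro hne
      have h3 := (Finset.sum_eq_zero_iff_of_nonneg fun a _ => mul_self_nonneg (L.ent (2 * g) a)).1
        (show ∑ a ∈ L.trivT.filter (fun a : IrrCharacter G => ¬ blockHeight 2 β (a : G → ℂ) = 0),
          L.ent (2 * g) a * L.ent (2 * g) a = 0 by linarith) a (Finset.mem_filter.2 ⟨ha, hne⟩)
      exact mul_self_eq_zero.1 h3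
    · intro he
      have h3 : ∑ a ∈ H, (1 : ℤ) = ∑ a ∈ H, L.ent (2 * g) a * L.ent (2 * g) a := by
        simp only [Finset.sum_const, hcard, nsmul_one]
        push_cast
        linarith
      exact ((Finset.sum_eq_sum_iff_of_le hone).1 h3 a (Finset.mem_filter.2 ⟨ha, he⟩)).symm
  refine ⟨⟨fun hne => ?_, fun h0 e => by simpa [e] using L.odd_top hθ h0⟩, fun hne => ?_⟩
  · by_contra h0
    exact hne ((hrest θ (by_contra fun hn => hne (L.even_outside hF hn))).1 h0)
  · by_cases h0 : blockHeight 2 β (θ : G → ℂ) = 0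
    · exact L.odd_top hθ h0
    · exact absurd ((hrest θ (by_contra fun hn => hne (L.even_outside hF hn))).1 h0) hne

/-- The even rows. -/
local notation "Ev" => fun (s : ℕ) (θ : IrrCharacter G) => L.ent (2 * s) θ

lemma two_cases : g = 1 ∨ g = 2 ∨ 4 ∣ g := by
  obtain ⟨k, rfl⟩ := L.axis.two
  rcases k with _ | _ | k
  · exact Or.inl rfl
  · exact Or.inr (Or.inl rfl)
  · exact Or.inr (Or.inr ⟨2 ^ k, by ring⟩)

theorem exists_shape : ∃ S : Shape L.trivT g Ev, L.trivT = S.H ∪ S.Y := by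
  have hg : 0 < g := L.axis.pos
  have hI : ∀ s ∈ Finset.Ico 1 g, s ∈ Finset.Icc 1 g := fun s hs =>
    Finset.mem_Icc.2 ⟨(Finset.mem_Ico.1 hs).1, (Finset.mem_Ico.1 hs).2.le⟩
  have hgI : g ∈ Finset.Icc 1 g := Finset.mem_Icc.2 ⟨hg, le_rfl⟩
  obtain ⟨φ, hφ, hφ0⟩ := hF.height
  rcases shape_or_collision (T := L.trivT) (F := Ev) hg (L.two_cases hF)
      (fun i hi j hj => by
        have hi' := Finset.mem_Ico.1 hi
        rw [L.sum_trivT hF, L.gram_even (hI i hi) (hI j hj),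
          if_neg (show ¬ (i = g ∧ j = g) by omega)]
        split_ifs <;> norm_num)
      (fun i hi => by
        have hi' := Finset.mem_Ico.1 hi
        rw [L.sum_trivT hF, L.gram_even (hI i hi) hgI, if_neg (show i ≠ g by omega),
          if_neg (show ¬ (i = g ∧ g = g) by omega)]
        norm_num)
      (by rw [L.sum_trivT hF, L.gram_even hgI hgI]; simp)
      ⟨φ, hφ, L.odd_top (L.mem_trivT.1 hφ).1 hφ0⟩ with ⟨⟨S⟩⟩ | ⟨rfl, p, b, hp, hb, hp0, hbo, hlong⟩
  · refine ⟨S, (Finset.eq_of_subset_of_card_le S.HY_subset ?_).symm⟩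
    rw [Finset.card_union_of_disjoint S.disjoint_HY, S.card_H, S.card_Y, hF.card]
    omega
  · exfalso
    have hbβ := (L.mem_trivT.1 hb).1
    have hb0 : blockHeight 2 β (b : G → ℂ) = 0 :=
      (L.top_facts hF hbβ).1.1 fun e => by simp only [e] at hbo; simp at hbo
    set t := regRed 2 β b b with ht
    have h := hlong (fun a => regRed 2 β b a) (fun s _ => by
      rw [L.sum_trivT hF]
      refine Eq.trans (Finset.sum_congr rfl fun a _ => ?_) (L.ent_regRed hF (2 * s) hbβ)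
      rw [regRed_symm Nat.prime_two])
    simp only [← ht] at h
    set U := insert p (L.trivT.filter fun a => L.ent (2 * 4) a ≠ 0) with hU
    have hUs : U ⊆ L.trivT := Finset.insert_subset hp (Finset.filter_subset _ _)
    have hsq := L.regRed_sq hF hbβ hbβ
    rw [← Finset.sum_sdiff hUs] at hsq
    have hUc : U.card ≤ 5 := by
      refine (Finset.card_insert_le _ _).trans (Nat.succ_le_succ ?_)
      have hn := (L.sum_trivT hF 4 (fun a => L.ent (2 * 4) a)).trans
        (L.gram_even hgI hgI)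
      simp only [and_self, if_true] at hn
      rw [← Finset.sum_filter_add_sum_filter_not L.trivT (fun a => L.ent (2 * 4) a ≠ 0)] at hn
      have h1 : ∑ a ∈ L.trivT.filter (fun a => L.ent (2 * 4) a ≠ 0), (1 : ℤ) ≤
          ∑ a ∈ L.trivT.filter (fun a => L.ent (2 * 4) a ≠ 0), L.ent (2 * 4) a * L.ent (2 * 4) a :=
        Finset.sum_le_sum fun a ha => by
          have := mul_self_pos.2 (Finset.mem_filter.1 ha).2
          omega
      have h2 := Finset.sum_nonneg (s := L.trivT.filter fun a => ¬ L.ent (2 * 4) a ≠ 0)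
        (f := fun a => L.ent (2 * 4) a * L.ent (2 * 4) a) fun a _ => mul_self_nonneg _
      simp only [Finset.sum_const, nsmul_one] at h1
      omega
    have hout : (8 : ℤ) ≤ ∑ a ∈ L.trivT \ U, regRed 2 β b a * regRed 2 β a b := by
      have h2 : 2 ≤ (L.trivT \ U).card := by
        rw [Finset.card_sdiff_of_subset hUs, hF.card]; omega
      refine le_trans (le_trans (show (8 : ℤ) ≤ ((L.trivT \ U).card : ℤ) * 4 by omega)
        (le_of_eq (by rw [Finset.sum_const, nsmul_eq_mul]))) (Finset.sum_le_sum fun a ha => ?_)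
      obtain ⟨haT, haU⟩ := Finset.mem_sdiff.1 ha
      have haβ := (L.mem_trivT.1 haT).1
      have ha0 : ¬ blockHeight 2 β (a : G → ℂ) = 0 := fun e => haU (Finset.mem_insert_of_mem
        (Finset.mem_filter.2 ⟨haT, (L.top_facts hF haβ).1.2 e⟩))
      rw [regRed_symm Nat.prime_two a b]
      exact RowSystem.even_sq (fun ho => ha0 ((odd_regRed_iff L.hM hF.block hbβ haβ).1 ho).2)
        (regRed_ne_zero L.hM hF.block hbβ hb0 haβ)
    have hin : ∑ a ∈ U, regRed 2 β b a * regRed 2 β a b = ∑ a ∈ U, regRed 2 β b a * regRed 2 β b a :=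
      Finset.sum_congr rfl fun a _ => by rw [regRed_symm Nat.prime_two a b]
    rw [hin] at hsq
    push_cast at hsq
    nlinarith [sq_nonneg (2 * t - 1)]

/-- A decomposition on the members trivial on the central involution spreads over the block. -/
theorem extend {n : ℕ} (c N : Fin n → ℤ) (v : Fin n → IrrCharacter G → ℤ)
    (hR : ∀ φ ∈ L.trivT, ∀ ψ ∈ L.trivT, regRed 2 β φ ψ = ∑ a, c a * (v a φ * v a ψ))
    (hv : ∀ a b, ∑ φ ∈ L.trivT, v a φ * v b φ = if a = b then N a else 0)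
    (hcN : ∀ a, c a * N a = 4 * g) :
    ∃ V : Fin n → IrrCharacter G → ℤ, (∀ a, ∀ φ ∈ L.trivT, V a φ = v a φ) ∧
      (∀ θ ∈ β, ∀ θ' ∈ β, regRed 2 β θ θ' = ∑ a, c a * (V a θ * V a θ')) ∧
      (∀ a b, ∑ θ ∈ Finset.univ.filter (· ∈ β) \ L.trivT, V a θ * V b θ =
        if a = b then N a else 0) ∧
      (∀ i a, ∑ θ ∈ Finset.univ.filter (· ∈ β), L.ent i θ * V a θ = 0) ∧
      (∀ a, ∑ θ ∈ Finset.univ.filter (· ∈ β), (θ : G → ℂ) L.z * (V a θ : ℂ) = 0) ∧
      ∀ a, (∀ φ ∈ L.trivT, Odd (v a φ) ↔ blockHeight 2 β (φ : G → ℂ) = 0) →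
        ∀ θ ∈ β, (Odd (V a θ) ↔ blockHeight 2 β (θ : G → ℂ) = 0) := by
  have hex : ∀ θ : IrrCharacter G, ∃ k : IrrCharacter G → ℤ, θ ∈ β → ∀ w : G, ¬ 2 ∣ orderOf w →
      (θ : G → ℂ) w = ∑ φ ∈ L.trivT, (k φ : ℂ) * (φ : G → ℂ) w := by
    intro θ
    by_cases hθ : θ ∈ β
    · obtain ⟨k, hk⟩ := exists_regular_comb L.hM hF.block L.z_center L.order_z θ hθ
      refine ⟨fun φ => if h : φ ∈ trivPart β L.z then k ⟨φ, h⟩ else 0, fun _ w hw => ?_⟩
      rw [hk w hw, Finset.sum_subtype L.trivT (p := (· ∈ trivPart β L.z))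
        (fun φ => by simp [trivT]) (F := inferInstance)]
      exact Finset.sum_congr rfl fun φ _ => by simp [φ.2]
    · exact ⟨0, fun h => absurd h hθ⟩
  choose K hK using hex
  set K' : IrrCharacter G → IrrCharacter G → ℤ := fun θ φ =>
    if θ ∈ L.trivT then (if θ = φ then 1 else 0) else K θ φ with hK'
  have hreg : ∀ θ ∈ β, ∀ w : G, ¬ 2 ∣ orderOf w →
      (θ : G → ℂ) w = ∑ φ ∈ L.trivT, (K' θ φ : ℂ) * (φ : G → ℂ) w := by
    intro θ hθ w hw
    by_cases hT : θ ∈ L.trivT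
    · simp [hK', hT, Int.cast_ite, ite_mul]
    · simpa [hK', hT] using hK θ hθ w hw
  set V : Fin n → IrrCharacter G → ℤ := fun a θ => ∑ φ ∈ L.trivT, K' θ φ * v a φ with hV
  have hVT : ∀ a, ∀ φ ∈ L.trivT, V a φ = v a φ := fun a φ hφ => by
    simp [hV, hK', hφ, ite_mul]
  have hlin : ∀ θ ∈ β, ∀ ψ ∈ β,
      regRed 2 β θ ψ = ∑ φ ∈ L.trivT, K' θ φ * regRed 2 β φ ψ := fun θ hθ ψ hψ =>
    regRed_linear L.hM hF.block _ _ (fun φ => φ) θ (hreg θ hθ) hψ
  have hhalf : ∀ θ ∈ β, ∀ ψ ∈ L.trivT, regRed 2 β θ ψ = ∑ a, c a * (V a θ * v a ψ) := by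
    intro θ hθ ψ hψ
    rw [hlin θ hθ ψ (L.mem_trivT.1 hψ).1, Finset.sum_congr rfl fun φ hφ => by rw [hR φ hφ ψ hψ]]
    simp only [hV, Finset.sum_mul, Finset.mul_sum]
    rw [Finset.sum_comm]
    exact Finset.sum_congr rfl fun a _ => Finset.sum_congr rfl fun φ _ => by ring
  have hfull : ∀ θ ∈ β, ∀ θ' ∈ β, regRed 2 β θ θ' = ∑ a, c a * (V a θ * V a θ') := by
    intro θ hθ θ' hθ'
    rw [regRed_symm Nat.prime_two, hlin θ' hθ' θ hθ, Finset.sum_congr rfl fun φ hφ => by
      rw [regRed_symm Nat.prime_two φ θ, hhalf θ hθ φ hφ]]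
    simp only [hV, Finset.sum_mul, Finset.mul_sum]
    rw [Finset.sum_comm]
    exact Finset.sum_congr rfl fun a _ => Finset.sum_congr rfl fun φ _ =>
      Finset.sum_congr rfl fun φ' _ => by ring
  -- the coordinates are read off the rows
  have hback : ∀ θ ∈ β, ∀ a,
      4 * (g : ℤ) * V a θ = ∑ ψ ∈ L.trivT, regRed 2 β θ ψ * v a ψ := by
    intro θ hθ a
    rw [Finset.sum_congr rfl fun ψ hψ => by rw [hhalf θ hθ ψ hψ, Finset.sum_mul], Finset.sum_comm,
      Finset.sum_congr rfl fun b _ => show _ = c b * V b θ * ∑ ψ ∈ L.trivT, v b ψ * v a ψ by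
        rw [Finset.mul_sum]; exact Finset.sum_congr rfl fun ψ _ => by ring]
    simp only [hv, mul_ite, mul_zero, Finset.sum_ite_eq', Finset.mem_univ, if_true]
    rw [← hcN a]; ring
  have hg4 : (4 : ℤ) * g ≠ 0 := by have := L.axis.pos; positivity
  refine ⟨V, hVT, hfull, fun a b => ?_, fun i a => ?_, fun a => ?_, fun a hpar θ hθ => ?_⟩
  · refine mul_left_cancel₀ (mul_ne_zero hg4 hg4) ?_
    rw [Finset.mul_sum, Finset.sum_congr rfl fun θ hθ => show _ =
      (∑ ψ ∈ L.trivT, regRed 2 β θ ψ * v a ψ) * ∑ ψ ∈ L.trivT, regRed 2 β θ ψ * v b ψ by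
        have hθβ := (Finset.mem_filter.1 (Finset.mem_sdiff.1 hθ).1).2
        rw [← hback θ hθβ a, ← hback θ hθβ b]; ring]
    simp only [Finset.sum_mul, Finset.mul_sum]
    rw [Finset.sum_comm, Finset.sum_congr rfl fun ψ hψ => Eq.trans Finset.sum_comm
      (Finset.sum_congr rfl fun χ hχ => show _ = 4 * g * regRed 2 β ψ χ * (v b ψ * v a χ) by
        rw [← L.regRed_outside hF (L.mem_trivT.1 hψ).1 (L.mem_trivT.1 hχ).1, Finset.sum_mul]
        exact Finset.sum_congr rfl fun θ _ => by rw [regRed_symm Nat.prime_two θ ψ]; ring),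
      Finset.sum_congr rfl fun ψ hψ => show _ =
        4 * (g : ℤ) * (v b ψ * ∑ χ ∈ L.trivT, regRed 2 β ψ χ * v a χ) by
          rw [Finset.mul_sum, Finset.mul_sum]
          exact Finset.sum_congr rfl fun χ _ => by ring,
      Finset.sum_congr rfl fun ψ hψ => show _ = 4 * (g : ℤ) * (4 * g) * (v a ψ * v b ψ) by
        rw [← hback ψ (L.mem_trivT.1 hψ).1 a, hVT a ψ hψ]; ring,
      ← Finset.mul_sum, hv]
  · refine mul_left_cancel₀ hg4 ?_
    rw [mul_zero, Finset.mul_sum, Finset.sum_congr rfl fun θ hθ => show _ =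
      ∑ ψ ∈ L.trivT, L.ent i θ * regRed 2 β θ ψ * v a ψ by
        rw [mul_left_comm, hback θ (Finset.mem_filter.1 hθ).2 a, Finset.mul_sum]
        exact Finset.sum_congr rfl fun ψ _ => by ring, Finset.sum_comm]
    exact Finset.sum_eq_zero fun ψ hψ => by
      rw [← Finset.sum_mul, L.ent_regRed hF i (L.mem_trivT.1 hψ).1, zero_mul]
  · refine mul_left_cancel₀ (Int.cast_ne_zero.2 hg4 : ((4 * g : ℤ) : ℂ) ≠ 0) ?_
    rw [mul_zero, Finset.mul_sum, Finset.sum_congr rfl fun (θ : IrrCharacter G) hθ => show _ =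
      ∑ ψ ∈ L.trivT, (θ : G → ℂ) L.z * (regRed 2 β θ ψ : ℂ) * (v a ψ : ℂ) by
        rw [mul_left_comm, ← Int.cast_mul, hback θ (Finset.mem_filter.1 hθ).2 a, Int.cast_sum,
          Finset.mul_sum]
        exact Finset.sum_congr rfl fun ψ _ => by push_cast; ring, Finset.sum_comm]
    exact Finset.sum_eq_zero fun ψ hψ => by
      rw [← Finset.sum_mul, sum_apply_singular_mul_regRed L.hM hF.block
        (by rw [L.order_z]) (L.mem_trivT.1 hψ).1, zero_mul]
  · -- parity
    obtain ⟨φ₀, hφ₀, hφ0⟩ := hF.height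
    have hφβ := (L.mem_trivT.1 hφ₀).1
    rw [show (blockHeight 2 β (θ : G → ℂ) = 0) ↔ Odd (regRed 2 β θ φ₀) from
      ⟨fun h => (odd_regRed_iff L.hM hF.block hθ hφβ).2 ⟨h, hφ0⟩,
        fun h => ((odd_regRed_iff L.hM hF.block hθ hφβ).1 h).1⟩,
      ← Int.not_even_iff_odd, ← Int.not_even_iff_odd, not_iff_not, ← Int.even_sub]
    rw [hlin θ hθ φ₀ hφβ, hV, ← Finset.sum_sub_distrib]
    refine even_iff_two_dvd.2 (Finset.dvd_sum fun φ hφ => ?_)
    rw [← mul_sub]
    refine dvd_mul_of_dvd_right (even_iff_two_dvd.1 ?_) _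
    rw [Int.even_sub, ← not_iff_not, Int.not_even_iff_odd, Int.not_even_iff_odd, hpar φ hφ,
      odd_regRed_iff L.hM hF.block (L.mem_trivT.1 hφ).1 hφβ]
    exact (and_iff_left hφ0).symm

theorem middle :
    ∃ (S : Shape L.trivT g Ev) (m : ℕ) (w : Fin m → IrrCharacter G → ℤ),
      L.trivT = S.H ∪ S.Y ∧ m ≤ 2 ∧
      (∀ j, w j = S.vec 1 (-1) 1 (-1) ∨ w j = S.vec 1 (-1) (-1) 1) ∧ Function.Injective w ∧
      ∀ φ ∈ L.trivT, ∀ ψ ∈ L.trivT, regRed 2 β φ ψ =
        S.vec 1 1 (-1) (-1) φ * S.vec 1 1 (-1) (-1) ψ + g * ∑ j, w j φ * w j ψ := by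
  obtain ⟨S₀, hS₀⟩ := L.exists_shape hF
  have hyp : MidHyp L.trivT g Ev (regRed 2 β) := by
    refine ⟨L.axis.two, fun p _ q _ => regRed_symm Nat.prime_two p q,
      fun p hp q hq => L.regRed_sq hF (L.mem_trivT.1 hp).1 (L.mem_trivT.1 hq).1,
      fun s _ q hq => ?_, fun p hp q hq => ?_, fun p hp h0 => ?_⟩
    · rw [L.sum_trivT hF]; exact L.ent_regRed hF _ (L.mem_trivT.1 hq).1
    · rw [odd_regRed_iff L.hM hF.block (L.mem_trivT.1 hp).1 (L.mem_trivT.1 hq).1,
        (L.top_facts hF (L.mem_trivT.1 hp).1).1, (L.top_facts hF (L.mem_trivT.1 hq).1).1]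
    · have hp' := (L.mem_trivT.1 hp).1
      refine ⟨?_, (regRed_self_pos L.hM hF.block hp').ne'⟩
      have := pow_two_dvd_regRed_self L.hM hF.block hp'
        (fun e => (L.top_facts hF hp').1.2 e h0)
      simpa using this
  obtain ⟨S, hS, hpv⟩ := hyp.exists_pair S₀ hS₀
  rcases hyp.classify_of_pair S hS hpv with ⟨f, hf, hR⟩ | ⟨m, w, hm, hw, hinj, hR⟩
  swap
  · exact ⟨S, m, w, hS, hm, hw, hinj, hR⟩
  exfalso
  have hg : 1 ≤ g := L.axis.pos
  have hff : ∑ φ ∈ L.trivT, f φ * f φ = 2 := by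
    rcases hf with rfl | rfl <;> rw [S.vec_inner hS] <;> ring
  have hfu : ∑ φ ∈ L.trivT, S.vec 1 1 (-1) (-1) φ * f φ = 0 := by
    rcases hf with rfl | rfl <;> rw [S.vec_inner hS] <;> ring
  have huu : ∑ φ ∈ L.trivT, S.vec 1 1 (-1) (-1) φ * S.vec 1 1 (-1) (-1) φ = 4 * g := by
    rw [S.vec_inner hS, Nat.cast_sub hg]; push_cast; ring
  obtain ⟨V, hVT, hVR, hVV, hVe, -, hpar⟩ := L.extend hF ![1, 2 * (g : ℤ)] ![4 * (g : ℤ), 2]
    ![S.vec 1 1 (-1) (-1), f]
    (fun φ hφ ψ hψ => by rw [hR φ hφ ψ hψ]; simp [Fin.sum_univ_two])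
    (fun a b => by
      fin_cases a <;> fin_cases b <;>
        simp [hff, huu, hfu, (Finset.sum_congr rfl fun φ _ => mul_comm (f φ) _).trans hfu])
    (fun a => by fin_cases a <;> simp <;> ring)
  set B₁ := Finset.univ.filter (· ∈ β) \ L.trivT with hB₁
  have hmem : ∀ θ ∈ B₁, θ ∈ β := fun θ hθ => (Finset.mem_filter.1 (Finset.mem_sdiff.1 hθ).1).2
  have hSH : ∀ φ ∈ L.trivT, φ ∈ S.H ↔ blockHeight 2 β (φ : G → ℂ) = 0 := fun φ hφ => by
    rw [← (L.top_facts hF (L.mem_trivT.1 hφ).1).1]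
    refine ⟨fun h => ?_, fun h => by_contra fun hn => h (S.zero φ hφ hn)⟩
    rcases S.one φ h with e | e <;> simp [e]
  have hu0 : ∀ θ ∈ B₁, V 0 θ ≠ 0 := by
    intro θ hθ e
    obtain ⟨χ, hχ, hfχ⟩ : ∃ χ ∈ S.H, f χ = 0 := by
      rcases hf with rfl | rfl
      · exact ⟨S.c, by simp [S.mem_H], by rw [S.vec_c]; ring⟩
      · exact ⟨S.a, by simp [S.mem_H], by rw [S.vec_a]; ring⟩
    have hχT := S.H_subset hχ
    have h := hVR χ (L.mem_trivT.1 hχT).1 θ (hmem θ hθ)
    simp [Fin.sum_univ_two, e, hVT 1 χ hχT, hfχ] at h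
    exact regRed_ne_zero L.hM hF.block (L.mem_trivT.1 hχT).1 ((hSH χ hχT).1 hχ) (hmem θ hθ) h
  have hu4 : ∀ θ ∈ B₁, 4 ≤ V 0 θ * V 0 θ := fun θ hθ => RowSystem.even_sq (fun ho => by
    have h := (hpar 0 (fun φ hφ => (S.vec_odd hS (by decide) (by decide) (by decide) (by decide) hφ).trans
      (hSH φ hφ)) θ (hmem θ hθ)).1 ho
    exact (Finset.mem_sdiff.1 hθ).2 (L.height_mem hF (hmem θ hθ) h)) (hu0 θ hθ)
  have hle : (B₁.card : ℤ) * 4 ≤ 4 * g := by
    rw [← nsmul_eq_mul, ← Finset.sum_const]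
    refine (Finset.sum_le_sum hu4).trans (le_of_eq ?_)
    have := hVV 0 0
    simpa using this
  have hge := card_ge B₁ (g := g) (fun s θ => L.ent (2 * s + 1) θ) V ![4 * (g : ℤ), 2]
    (fun i hi j hj => by
      rw [← L.gram_odd hi hj]
      exact (Finset.sum_subset Finset.sdiff_subset fun θ hθ hn => by
        rw [L.odd_inside hF (by simpa [hB₁, hθ] using hn), zero_mul]))
    (fun i hi a => by
      refine Eq.trans ?_ (hVe (2 * i + 1) a)
      exact (Finset.sum_subset Finset.sdiff_subset fun θ hθ hn => by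
        rw [L.odd_inside hF (by simpa [hB₁, hθ] using hn), zero_mul]))
    hVV (fun a => by fin_cases a <;> simp <;> omega)
  omega

/-- **The block at the central involution.** -/
theorem centre : Nonempty (CentreData β L.z g L.ent) := by
  obtain ⟨S, m, w, hS, hm, hw, hinj, hR⟩ := L.middle hF
  have hg : 1 ≤ g := L.axis.pos
  set u₀ := S.vec 1 1 (-1) (-1) with hu₀
  set v : Fin (m + 1) → IrrCharacter G → ℤ := Fin.cons u₀ w with hv
  set c : Fin (m + 1) → ℤ := Fin.cons 1 fun _ => (g : ℤ) with hc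
  set N : Fin (m + 1) → ℤ := Fin.cons (4 * (g : ℤ)) fun _ => 4 with hN
  have huu : ∑ φ ∈ L.trivT, u₀ φ * u₀ φ = 4 * g := by
    rw [hu₀, S.vec_inner hS, Nat.cast_sub hg]; push_cast; ring
  have huw : ∀ j, ∑ φ ∈ L.trivT, u₀ φ * w j φ = 0 := fun j => by
    rcases hw j with e | e <;> rw [e, hu₀, S.vec_inner hS] <;> ring
  have hww : ∀ i j, ∑ φ ∈ L.trivT, w i φ * w j φ = if i = j then 4 else 0 := by
    intro i j
    split_ifs with e
    · subst e
      rcases hw i with e | e <;> rw [e, S.vec_inner hS] <;> ring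
    · rcases hw i with e₁ | e₁ <;> rcases hw j with e₂ | e₂
      · exact absurd (hinj (e₁.trans e₂.symm)) e
      · rw [e₁, e₂, S.vec_inner hS]; ring
      · rw [e₁, e₂, S.vec_inner hS]; ring
      · exact absurd (hinj (e₁.trans e₂.symm)) e
  have hsuccne : ∀ j : Fin m, (0 : Fin (m + 1)) ≠ j.succ := fun j => (Fin.succ_ne_zero j).symm
  obtain ⟨V, hVT, hVR, hVV, hVe, hVz, hpar⟩ := L.extend hF c N v
    (fun φ hφ ψ hψ => by rw [hR φ hφ ψ hψ]; simp [Fin.sum_univ_succ, hc, hv, Finset.mul_sum])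
    (fun a b => by
      induction a using Fin.cases <;> induction b using Fin.cases
      · simpa [hv, hN] using huu
      · simpa [hv, hsuccne] using huw _
      · rename_i i
        simpa [hv, Fin.succ_ne_zero] using
          (Finset.sum_congr rfl fun φ _ => mul_comm (w i φ) (u₀ φ)).trans (huw i)
      · simpa [hv, hN, Fin.succ_inj] using hww _ _)
    (fun a => by induction a using Fin.cases <;> simp [hc, hN] <;> ring)
  set B := Finset.univ.filter (· ∈ β) with hB
  have hmem : ∀ θ, θ ∈ B ↔ θ ∈ β := fun θ => by simp [hB]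
  have hall : ∀ a b, ∑ θ ∈ B, V a θ * V b θ = if a = b then 2 * N a else 0 := fun a b => by
    rw [← Finset.sum_sdiff L.trivT_subset, hVV a b,
      Finset.sum_congr rfl fun φ hφ => by rw [hVT a φ hφ, hVT b φ hφ]]
    have : ∑ φ ∈ L.trivT, v a φ * v b φ = if a = b then N a else 0 := by
      induction a using Fin.cases <;> induction b using Fin.cases
      · simpa [hv, hN] using huu
      · simpa [hv, hsuccne] using huw _
      · rename_i i
        simpa [hv, Fin.succ_ne_zero] using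
          (Finset.sum_congr rfl fun φ _ => mul_comm (w i φ) (u₀ φ)).trans (huw i)
      · simpa [hv, hN, Fin.succ_inj] using hww _ _
    rw [this]
    split_ifs <;> ring
  have hSH : ∀ φ ∈ L.trivT, φ ∈ S.H ↔ blockHeight 2 β (φ : G → ℂ) = 0 := fun φ hφ => by
    rw [← (L.top_facts hF (L.mem_trivT.1 hφ).1).1]
    refine ⟨fun h => ?_, fun h => by_contra fun hn => h (S.zero φ hφ hn)⟩
    rcases S.one φ h with e | e <;> simp [e]
  have hvodd : ∀ a, ∀ φ ∈ L.trivT, Odd (v a φ) ↔ blockHeight 2 β (φ : G → ℂ) = 0 := by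
    intro a φ hφ
    rw [← hSH φ hφ]
    induction a using Fin.cases with
    | zero => simpa [hv, hu₀] using S.vec_odd hS (by decide) (by decide) (by decide) (by decide) hφ
    | succ j =>
      rcases hw j with e | e <;>
        simpa [hv, e] using S.vec_odd hS (by decide) (by decide) (by decide) (by decide) hφ
  have hVpar : ∀ a, ∀ θ ∈ β, (Odd (V a θ) ↔ blockHeight 2 β (θ : G → ℂ) = 0) :=
    fun a => hpar a (hvodd a)
  have hexp : ∀ θ ∈ β, ∀ θ' ∈ β, regRed 2 β θ θ' =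
      V 0 θ * V 0 θ' + g * ∑ j : Fin m, V j.succ θ * V j.succ θ' := fun θ hθ θ' hθ' => by
    rw [hVR θ hθ θ' hθ', Fin.sum_univ_succ, Finset.mul_sum]
    simp [hc]
  -- the kernel vector
  set x₀ : IrrCharacter G → ℤ := fun θ =>
    if θ ∈ L.trivT then S.vec 1 (-1) 1 (-1) θ else 0 with hx₀
  have hxsum : ∀ f : IrrCharacter G → ℤ,
      ∑ θ ∈ B, x₀ θ * f θ = ∑ φ ∈ L.trivT, S.vec 1 (-1) 1 (-1) φ * f φ := fun f => by
    rw [← Finset.sum_subset L.trivT_subset fun θ _ hn => by simp [hx₀, hn]]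
    exact Finset.sum_congr rfl fun φ hφ => by simp [hx₀, hφ]
  have hxpar : ∀ θ ∈ β, (Odd (x₀ θ) ↔ blockHeight 2 β (θ : G → ℂ) = 0) := fun θ hθ => by
    by_cases hT : θ ∈ L.trivT
    · simp only [hx₀, hT, if_true]
      rw [S.vec_odd hS (by decide) (by decide) (by decide) (by decide) hT, hSH θ hT]
    · simp only [hx₀, hT, if_false]
      refine iff_of_false (by simp) fun h => hT (L.height_mem hF hθ h)
  have hxn : ∑ θ ∈ B, x₀ θ * x₀ θ ≤ 8 := by
    rw [hxsum, Finset.sum_congr rfl fun φ hφ => by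
      rw [show x₀ φ = S.vec 1 (-1) 1 (-1) φ by simp [hx₀, hφ]], S.vec_inner hS]
    simp
  have hxe : ∀ s ∈ Finset.Icc 1 g, ∑ θ ∈ B, L.ent (2 * s) θ * x₀ θ = 0 := fun s hs => by
    rw [Finset.sum_congr rfl fun θ _ => mul_comm _ _, hxsum,
      Finset.sum_congr rfl fun θ _ => mul_comm _ _]
    exact S.vec_perp (by ring) hs
  have hxo : ∀ s, ∑ θ ∈ B, L.ent (2 * s + 1) θ * x₀ θ = 0 := fun s => by
    rw [Finset.sum_congr rfl fun θ _ => mul_comm _ _, hxsum]
    exact Finset.sum_eq_zero fun φ hφ => by rw [L.odd_inside hF hφ, mul_zero]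
  refine ⟨{
    m := m, u := V 0, w := fun j => V j.succ, expand := hexp
    normu := by rw [hall]; simp [hN]; ring
    normw := fun i j => by rw [hall]; simp [hN, Fin.succ_inj]
    normuw := fun j => by rw [hall]; simp [hsuccne]
    paru := hVpar 0, parw := fun j => hVpar j.succ
    perpu := fun i => hVe i 0, perpw := fun i j => hVe i j.succ
    kernel := ?_, rank := ?_, card := ?_ }⟩
  · rintro rfl
    refine ⟨x₀, fun θ hθ => ?_, hxpar, hxn, hxe, hxo, fun w hw => ?_⟩
    · have hT : θ ∈ L.trivT := by_contra fun hn => hθ (by simp [hx₀, hn])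
      exact ⟨(L.mem_trivT.1 hT).1, (L.sgn_eq_one_iff θ).1 (L.mem_trivT.1 hT).2⟩
    · refine sum_apply_eq_zero L.hM hF.block _ x₀ (fun θ => θ) (fun θ hθ => (hmem θ).1 hθ)
        (fun ψ hψ => ?_) hw
      rw [hxsum, Finset.sum_congr rfl fun φ hφ => by
        rw [hexp φ (L.mem_trivT.1 hφ).1 ψ hψ, hVT 0 φ hφ]]
      simp only [Finset.univ_eq_empty, Finset.sum_empty, mul_zero, add_zero, hv, Fin.cons_zero,
        ← mul_assoc, ← Finset.sum_mul]
      rw [hu₀, S.vec_inner hS]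
      ring
  · have h := mul_trace_regRed L.hM hF.block L.z_center L.order_z
    rw [← Finset.sum_subtype L.trivT (p := (· ∈ trivPart β L.z)) (fun φ => by simp [trivT])
        (fun φ => regRed 2 β φ φ),
      Finset.sum_congr rfl fun φ hφ => hR φ hφ φ hφ, Finset.sum_add_distrib, huu, ← Finset.mul_sum,
      Finset.sum_comm] at h
    simp only [hww, if_true, Finset.sum_const, Finset.card_univ, Fintype.card_fin, nsmul_eq_mul] at h
    push_cast at h
    rw [hF.defect] at h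
    have : (blockRank 2 β : ℤ) = m + 1 := mul_left_cancel₀ (show (8 : ℤ) * g ≠ 0 by positivity)
      (by linarith)
    exact_mod_cast this
  · set B₁ := B \ L.trivT with hB₁
    have hodd1 : ∀ i (f : IrrCharacter G → ℤ),
        ∑ θ ∈ B₁, L.ent (2 * i + 1) θ * f θ = ∑ θ ∈ B, L.ent (2 * i + 1) θ * f θ := fun i f =>
      Finset.sum_subset Finset.sdiff_subset fun θ hθ hn => by
        rw [L.odd_inside hF (by simpa [hB₁, hθ] using hn), zero_mul]
    have hge := card_ge B₁ (g := g) (fun s θ => L.ent (2 * s + 1) θ) V N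
      (fun i hi j hj => (hodd1 i _).trans (L.gram_odd hi hj))
      (fun i _ a => (hodd1 i _).trans (hVe _ a)) hVV
      (fun a => by induction a using Fin.cases <;> simp [hN] <;> omega)
    -- the bound from above
    set xw : IrrCharacter G → ℤ :=
      if h : 0 < m then fun θ => L.sgn θ * V (Fin.succ ⟨0, h⟩) θ else x₀ with hxw
    have hsq : ∀ θ, L.sgn θ * L.sgn θ = 1 := fun θ => by
      rcases (L.sgn_spec θ).1 with e | e <;> rw [e] <;> norm_num
    have hsodd : ∀ θ (t : ℤ), Odd (L.sgn θ * t) ↔ Odd t := fun θ t => by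
      rcases (L.sgn_spec θ).1 with e | e <;> simp [e]
    have hFpar : ∀ θ ∈ B, blockHeight 2 β (θ : G → ℂ) = 0 ↔ Odd (L.ent (2 * g) θ) := fun θ hθ => by
      have h := L.top_facts hF ((hmem θ).1 hθ)
      exact ⟨fun h0 => h.2 (h.1.2 h0), fun ho => h.1.1 fun e => by simp [e] at ho⟩
    have hshort : ∀ a : Fin (m + 1), a ≠ 0 → Short B g Ev (fun s θ => L.ent (2 * s + 1) θ)
        (fun θ => (deg (θ : G → ℂ) : ℤ)) (fun θ => L.sgn θ * V a θ) := by
      intro a ha
      obtain ⟨j, rfl⟩ := Fin.exists_succ_eq.2 ha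
      refine ⟨fun θ hθ => ?_, ?_, fun s _ => ?_, fun s _ => ?_, ?_⟩
      · rw [hsodd, hVpar _ θ ((hmem θ).1 hθ), hFpar θ hθ]
      · rw [Finset.sum_congr rfl fun θ _ => show _ = V j.succ θ * V j.succ θ by
          linear_combination (V j.succ θ * V j.succ θ) * hsq θ, hall]
        simp [hN]
      · rw [Finset.sum_congr rfl fun θ _ => show _ = L.ent (2 * s) θ * V j.succ θ by
          rw [← mul_assoc, L.ent_sgn hF, Even.neg_one_pow ⟨s, by ring⟩, one_mul]]
        exact hVe _ _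
      · rw [Finset.sum_congr rfl fun θ _ => show _ = -(L.ent (2 * s + 1) θ * V j.succ θ) by
          rw [← mul_assoc, L.ent_sgn hF, Odd.neg_one_pow ⟨s, rfl⟩]; ring,
          Finset.sum_neg_distrib, hVe, neg_zero]
      · apply Int.cast_injective (α := ℂ)
        push_cast
        refine Eq.trans (Finset.sum_congr rfl fun θ _ => ?_) (hVz j.succ)
        rw [(L.sgn_spec θ).2, irr_apply_one_eq_deg]; ring
    have K : RowSystem B g m Ev (fun s θ => L.ent (2 * s + 1) θ) (fun θ => (deg (θ : G → ℂ) : ℤ))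
        (fun θ => L.sgn θ * V 0 θ) (fun j θ => L.sgn θ * V j.succ θ) xw := by
      have hI : ∀ s ∈ Finset.Ico 1 g, s ∈ Finset.Icc 1 g := fun s hs =>
        Finset.mem_Icc.2 ⟨(Finset.mem_Ico.1 hs).1, (Finset.mem_Ico.1 hs).2.le⟩
      have hgI : g ∈ Finset.Icc 1 g := Finset.mem_Icc.2 ⟨hg, le_rfl⟩
      obtain ⟨φ, hφ, hφ0⟩ := hF.height
      refine ⟨hg, L.two_cases hF, fun θ _ => by exact_mod_cast deg_irr_pos θ,
        fun i hi j hj => ?_, fun i hi => ?_, ?_, fun i hi j hj => ?_, fun i hi j hj => L.gram_cross hi hj,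
        fun i _ => ?_, ⟨φ, L.trivT_subset hφ, L.odd_top (L.mem_trivT.1 hφ).1 hφ0⟩,
        fun θ hθ => by rw [hsodd, hVpar 0 θ ((hmem θ).1 hθ), hFpar θ hθ], ?_, fun s _ => ?_,
        fun s _ => ?_, fun j => hshort _ (Fin.succ_ne_zero j), ?_, fun θ hθ => ?_⟩
      · have hi' := Finset.mem_Ico.1 hi
        rw [L.gram_even (hI i hi) (hI j hj), if_neg (show ¬ (i = g ∧ j = g) by omega)]
        split_ifs <;> norm_num
      · have hi' := Finset.mem_Ico.1 hi
        rw [L.gram_even (hI i hi) hgI, if_neg (show i ≠ g by omega),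
          if_neg (show ¬ (i = g ∧ g = g) by omega)]
        norm_num
      · rw [L.gram_even hgI hgI]; simp
      · rw [L.gram_odd hi hj]; split_ifs <;> norm_num
      · apply Int.cast_injective (α := ℂ)
        push_cast
        simp only [← irr_apply_one_eq_deg]
        exact L.sum_ent_of_order _ (by simp)
      · rw [Finset.sum_congr rfl fun θ _ => show _ = V 0 θ * V 0 θ by
          linear_combination (V 0 θ * V 0 θ) * hsq θ, hall]
        simp [hN]; ring
      · rw [Finset.sum_congr rfl fun θ _ => show _ = L.ent (2 * s) θ * V 0 θ by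
          rw [← mul_assoc, L.ent_sgn hF, Even.neg_one_pow ⟨s, by ring⟩, one_mul]]
        exact hVe _ _
      · rw [Finset.sum_congr rfl fun θ _ => show _ = -(L.ent (2 * s + 1) θ * V 0 θ) by
          rw [← mul_assoc, L.ent_sgn hF, Odd.neg_one_pow ⟨s, rfl⟩]; ring,
          Finset.sum_neg_distrib, hVe, neg_zero]
      · by_cases h : 0 < m
        · rw [hxw, dif_pos h]; exact hshort _ (Fin.succ_ne_zero _)
        · rw [hxw, dif_neg h]
          refine ⟨fun θ hθ => (hxpar θ ((hmem θ).1 hθ)).trans (hFpar θ hθ), hxn,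
            hxe, fun s _ => hxo s, ?_⟩
          apply Int.cast_injective (α := ℂ)
          push_cast
          simp only [← irr_apply_one_eq_deg]
          rw [Finset.sum_congr rfl fun θ _ => mul_comm _ _]
          refine sum_apply_eq_zero L.hM hF.block _ x₀ (fun θ => θ) (fun θ hθ => (hmem θ).1 hθ)
            (fun ψ hψ => ?_) (by simp)
          rw [hxsum, Finset.sum_congr rfl fun φ hφ => by
            rw [hexp φ (L.mem_trivT.1 hφ).1 ψ hψ, hVT 0 φ hφ]]
          obtain rfl : m = 0 := by omega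
          simp only [Finset.univ_eq_empty, Finset.sum_empty, mul_zero, add_zero, hv, Fin.cons_zero,
            ← mul_assoc, ← Finset.sum_mul]
          rw [hu₀, S.vec_inner hS]
          ring
      · by_contra hne
        push Not at hne
        have h := hexp θ ((hmem θ).1 hθ) θ ((hmem θ).1 hθ)
        have hs : L.sgn θ ≠ 0 := by rcases (L.sgn_spec θ).1 with e | e <;> rw [e] <;> norm_num
        rw [(mul_eq_zero.1 hne.1).resolve_left hs] at h
        simp only [(fun j => (mul_eq_zero.1 (hne.2 j)).resolve_left hs), mul_zero,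
          Finset.sum_const_zero, add_zero] at h
        exact (regRed_self_pos L.hM hF.block ((hmem θ).1 hθ)).ne' h
    have hup := K.counts.2.1
    have hsd : B₁.card = B.card - L.trivT.card := Finset.card_sdiff_of_subset L.trivT_subset
    have hcardβ : Nat.card β = B.card := by
      rw [Nat.card_eq_fintype_card, ← Set.toFinset_card]
      congr 1
      ext θ; simp [hB]
    have hsub : L.trivT.card ≤ B.card := Finset.card_le_card L.trivT_subset
    rw [hF.card] at hsd hsub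
    rw [hcardβ]
    omega

end Loc

end Cfsg.Lib.Blocks.QuaternionDefect
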