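import Mathlib
import Cfsg.Agent.Blocks.QuaternionDefect.Centre

/-!
# Rows and columns of a block with quaternion defect group and central involution
-/

set_option autoImplicit false
set_option linter.unusedSectionVars false
set_option linter.style.haveILetI false

namespace Cfsg.Lib.Blocks.QuaternionDefect

open Cfsg Cfsg.Lib.Chars Cfsg.Lib.Blocks Cfsg.Lib.Blocks.CentralReduction
open scoped Classical ComplexConjugate

universe u

variable {G : Type u} [Group G] [Fintype G] {M : Ideal AlgInt}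

/-- The rows of the block. -/
structure CentreRows (β : Set (IrrCharacter G)) (z : G) (g : ℕ)
    (E : ℕ → IrrCharacter G → ℤ) : Prop where
  outside : ∀ i θ, θ ∉ β → E i θ = 0
  supp : ∀ (i : ℕ) (a : G), z ∉ Subgroup.zpowers a →
    ∑ θ ∈ Finset.univ.filter (· ∈ β), (E i θ : ℂ) * (θ : G → ℂ) a = 0
  order : ∀ (i : ℕ) (a : G), ¬ 4 ∣ orderOf a →
    ∑ θ ∈ Finset.univ.filter (· ∈ β), (E i θ : ℂ) * (θ : G → ℂ) a = 0
  gram_even : ∀ s ∈ Finset.Icc 1 g, ∀ t ∈ Finset.Icc 1 g,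
    ∑ θ ∈ Finset.univ.filter (· ∈ β), E (2 * s) θ * E (2 * t) θ =
      2 + (if s = t then 1 else 0) + if s = g ∧ t = g then 1 else 0
  gram_odd : ∀ s ∈ Finset.Ico 1 g, ∀ t ∈ Finset.Ico 1 g,
    ∑ θ ∈ Finset.univ.filter (· ∈ β), E (2 * s + 1) θ * E (2 * t + 1) θ =
      1 + if s = t then 1 else 0
  gram_cross : ∀ s ∈ Finset.Icc 1 g, ∀ t ∈ Finset.Ico 1 g,
    ∑ θ ∈ Finset.univ.filter (· ∈ β), E (2 * s) θ * E (2 * t + 1) θ = 0
  parity : ∀ θ ∈ β, (Odd (E (2 * g) θ) ↔ blockHeight 2 β (θ : G → ℂ) = 0)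

/-- The local data, the facts about the quotient and the columns. -/
theorem exists_loc_centre (hM : IsPModular 2 M) {β : Set (IrrCharacter G)} (hβ : IsPBlock M β)
    {D : Subgroup G} (hD : IsDefectGroup 2 M β D) [Fintype D] {σ τ : D} {g : ℕ}
    (Q : Axis4 σ τ g)
    (hψ : ∀ {P : Type u} [Group P] [Fintype P] (e : D ≃* P),
      ∃ ψ : ℕ → P → ℂ, PsiData (e σ) g ψ)
    (hz : ((σ ^ (2 * g) : D) : G) ∈ Subgroup.center G) :
    ∃ L : Loc M ((σ ^ g : D) : G) β g, L.Facts ∧ L.z = ((σ ^ (2 * g) : D) : G) ∧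
      CentreRows β L.z g L.ent ∧
      ∃ C : CentreData β L.z g L.ent, C.m ≤ 2 := by
  haveI : Fact (Nat.Prime 2) := ⟨Nat.prime_two⟩
  obtain ⟨L⟩ := exists_loc hM hβ hD Q hψ hz
  set z : G := ((σ ^ (2 * g) : D) : G) with hzdef
  set y : G := ((σ ^ g : D) : G) with hydef
  have hyz : y * y = z := by
    rw [hydef, hzdef, ← Subgroup.coe_mul, ← pow_add, two_mul]
  have hLz : L.z = z := by
    rw [← hyz]
    have e := L.hσ
    rw [Loc.z, show 2 * g = g + g by ring, pow_add, Subgroup.coe_mul, Subgroup.coe_mul, e]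
  obtain ⟨hT, ⟨φ, hφ, hφ0⟩, hrank⟩ := quotient_facts hM hβ hD Q hz
  have hF : L.Facts := by
    refine ⟨hβ, ?_, ?_, φ, Finset.mem_filter.2 ⟨Finset.mem_univ _, hLz ▸ hφ⟩, hφ0⟩
    · have h := IsDefectGroup.card hM hβ hD
      rw [Q.card] at h
      exact_mod_cast h.symm
    · rw [← hT, Loc.trivT, hLz, Nat.card_eq_fintype_card, Fintype.card_subtype]
  obtain ⟨C⟩ := L.centre hF
  refine ⟨L, hF, hLz, ⟨fun i θ h => L.ent_outside i h,
    fun i a ha => L.sum_ent_eq_zero i fun x hx => ha ?_,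
    fun i a ha => L.sum_ent_of_order i ha, fun s hs t ht => L.gram_even hs ht,
    fun s hs t ht => L.gram_odd hs ht, fun s hs t ht => L.gram_cross hs ht, fun θ hθ => ?_⟩, C, ?_⟩
  · rw [hLz]
    obtain ⟨j, hj⟩ := Subgroup.mem_zpowers_iff.1 hx
    refine Subgroup.mem_zpowers_iff.2 ⟨j + j, ?_⟩
    have h : MulAut.conj x⁻¹ (a ^ (j + j)) = z := by
      rw [map_zpow, MulAut.conj_apply, inv_inv, zpow_add, hj, hyz]
    rw [MulAut.conj_apply, inv_inv] at h
    calc a ^ (j + j) = x * (x⁻¹ * a ^ (j + j) * x) * x⁻¹ := by group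
      _ = x * z * x⁻¹ := by rw [h]
      _ = z := by rw [Subgroup.mem_center_iff.1 hz x, mul_inv_cancel_right]
  · have h := L.top_facts hF hθ
    exact ⟨fun ho => h.1.1 fun e => by simp [e] at ho, fun h0 => L.odd_top hθ h0⟩
  · have := C.rank
    omega

theorem exists_centre (hM : IsPModular 2 M) {β : Set (IrrCharacter G)} (hβ : IsPBlock M β)
    {D : Subgroup G} (hD : IsDefectGroup 2 M β D) [Fintype D] {σ τ : D} {g : ℕ}
    (Q : Axis4 σ τ g)
    (hψ : ∀ {P : Type u} [Group P] [Fintype P] (e : D ≃* P),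
      ∃ ψ : ℕ → P → ℂ, PsiData (e σ) g ψ)
    (hz : ((σ ^ (2 * g) : D) : G) ∈ Subgroup.center G) :
    ∃ E : ℕ → IrrCharacter G → ℤ, CentreRows β ((σ ^ (2 * g) : D) : G) g E ∧
      ∃ C : CentreData β ((σ ^ (2 * g) : D) : G) g E, C.m ≤ 2 := by
  obtain ⟨L, -, hLz, hR, C, hC⟩ := exists_loc_centre hM hβ hD Q hψ hz
  rw [← hLz]
  exact ⟨L.ent, hR, C, hC⟩

end Cfsg.Lib.Blocks.QuaternionDefect
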