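import Mathlib
import Cfsg.Agent.Blocks.QuaternionDefect.Local
import Cfsg.Agent.Blocks.DihedralDefect.Coherent
import Cfsg.Agent.Blocks.Maximal
import Cfsg.Agent.Blocks.SectionRanks

/-!
# The centralizer of the involution of a quaternion defect group

Only one block of it induces the block, and the two blocks have the same number of characters
outside their regular ranks.
-/

set_option autoImplicit false
set_option linter.unusedSectionVars false
set_option linter.style.haveILetI false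

namespace Cfsg.Lib.Blocks.QuaternionDefect

open Cfsg Cfsg.Lib.Chars Cfsg.Lib.Blocks
open scoped Classical ComplexConjugate

universe u

local notation "C⟨" P "⟩" => Subgroup.centralizer (SetLike.coe P)

variable {G : Type u} [Group G] [Fintype G] {M : Ideal AlgInt}

/-- The section weight as a sum of column norms. -/
lemma sectWeight_eq_colKer {p : ℕ} (hM : IsPModular p M) {B : Set (IrrCharacter G)}
    (hB : IsPBlock M B) {x : G} (hx : ∃ k : ℕ, orderOf x = p ^ k)
    [Fintype (Subgroup.centralizer ({x} : Set G))] :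
    (sectWeight p M B (Subgroup.centralizer ({x} : Set G)) : ℂ) =
      ∑ w ∈ Finset.univ.filter
          (fun w : Subgroup.centralizer ({x} : Set G) => ¬ p ∣ orderOf w),
        colKer B (x * (w : G)) (x * (w : G)) := by
  rw [Finset.sum_congr rfl fun w hw =>
      colKer_section hM hx (centralizer_zpowers x).symm hB (Finset.mem_filter.1 hw).2
        (Finset.mem_filter.1 hw).2,
    Finset.sum_comm, Finset.sum_congr rfl fun f hf =>
      sum_colKer_regular hM (Finset.mem_filter.1 hf).2.1,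
    sectWeight_eq, ← Finset.mul_sum]
  push_cast
  rfl

lemma isConjSub_singleton (x t : G) : IsConjSub (Subgroup.centralizer ({x} : Set G))
    (Subgroup.centralizer ({t * x * t⁻¹} : Set G)) t := fun a => by
  simp only [Subgroup.mem_centralizer_singleton_iff]
  constructor <;> intro h
  · calc t⁻¹ * a * t * x = t⁻¹ * (a * (t * x * t⁻¹)) * t := by group
      _ = t⁻¹ * ((t * x * t⁻¹) * a) * t := by rw [h]
      _ = x * (t⁻¹ * a * t) := by group
  · calc a * (t * x * t⁻¹) = t * (t⁻¹ * a * t * x) * t⁻¹ := by group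
      _ = t * (x * (t⁻¹ * a * t)) * t⁻¹ := by rw [h]
      _ = t * x * t⁻¹ * a := by group

lemma sectWeight_conj {p : ℕ} (hM : IsPModular p M) {B : Set (IrrCharacter G)}
    (hB : IsPBlock M B) {x : G} (hx : ∃ k : ℕ, orderOf x = p ^ k) (t : G) :
    sectWeight p M B (Subgroup.centralizer ({t * x * t⁻¹} : Set G)) =
      sectWeight p M B (Subgroup.centralizer ({x} : Set G)) := by
  have hx' : ∃ k : ℕ, orderOf (t * x * t⁻¹) = p ^ k := by
    obtain ⟨k, hk⟩ := hx
    exact ⟨k, by rw [← MulAut.conj_apply, MulEquiv.orderOf_eq, hk]⟩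
  apply Int.cast_injective (α := ℂ)
  rw [sectWeight_eq_colKer hM hB hx', sectWeight_eq_colKer hM hB hx]
  refine Finset.sum_equiv (conjSubEquiv (isConjSub_singleton x t)).toEquiv (fun w => ?_) fun w _ => ?_
  · simp only [Finset.mem_filter, Finset.mem_univ, true_and, MulEquiv.toEquiv_eq_coe,
      MulEquiv.coe_toEquiv, MulEquiv.orderOf_eq]
  · have e : ∀ w : Subgroup.centralizer ({t * x * t⁻¹} : Set G),
        t * x * t⁻¹ * (w : G) = t * (x * ((conjSubEquiv (isConjSub_singleton x t) w :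
          Subgroup.centralizer ({x} : Set G)) : G)) * t⁻¹ := fun w => by
      show _ = t * (x * (t⁻¹ * (w : G) * t)) * t⁻¹
      group
    simp only [colKer_eq, MulEquiv.toEquiv_eq_coe, MulEquiv.coe_toEquiv]
    exact Finset.sum_congr rfl fun χ _ => by rw [e, isClassFunction_irr χ _ t]

/-- A section with weight meets the defect group. -/
lemma exists_conj_mem_of_weight {p : ℕ} [Fact p.Prime] (hM : IsPModular p M)
    {B : Set (IrrCharacter G)} (hB : IsPBlock M B) {D : Subgroup G}
    (hD : IsDefectGroup p M B D) {x : G} (hx : ∃ k : ℕ, orderOf x = p ^ k)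
    (hw : sectWeight p M B (Subgroup.centralizer ({x} : Set G)) ≠ 0) :
    ∃ t : G, t * x * t⁻¹ ∈ D := by
  by_contra hno
  push Not at hno
  refine hw (Int.cast_injective (α := ℂ) ?_)
  rw [sectWeight_eq_colKer hM hB hx, Int.cast_zero]
  refine Finset.sum_eq_zero fun w hw' => ?_
  rw [colKer_eq]
  refine Finset.sum_eq_zero fun χ hχ => ?_
  rw [apply_eq_zero_of_forall_not_mem (x := x) hM hB (Finset.mem_filter.1 hχ).2
    (isPPart_mul (commute_of_mem_centralizer (centralizer_zpowers x).symm w.2) hx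
      (by rw [Subgroup.orderOf_coe]; exact (Finset.mem_filter.1 hw').2)) (fun D' hD' hmem => ?_),
    zero_mul]
  obtain ⟨a, ha⟩ := IsDefectGroup.exists_eq_conj hM hB hD' hD
  exact hno a (ha ▸ ⟨x, hmem, rfl⟩)

section Involution

variable {D : Subgroup G} [Fintype D] {σ τ : D} {g : ℕ}

/-- The involution is a power of each nontrivial element of the defect group. -/
lemma z_mem_zpowers (Q : Quat σ τ g) {a : G} (ha : a ∈ D) (ha1 : a ≠ 1) :
    ((σ ^ (2 * g) : D) : G) ∈ Subgroup.zpowers a := by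
  obtain ⟨j, hj⟩ := Subgroup.mem_zpowers_iff.1
    (Q.z_mem (u := ⟨a, ha⟩) fun e => ha1 (congrArg Subtype.val e))
  exact Subgroup.mem_zpowers_iff.2 ⟨j, by rw [← hj, Subgroup.coe_zpow]⟩

lemma order_zG (Q : Axis4 σ τ g) : orderOf ((σ ^ (2 * g) : D) : G) = 2 := by
  rw [Subgroup.orderOf_coe, Q.z_order]

lemma defect_le_C (Q : Axis4 σ τ g) : D ≤ C⟨Subgroup.zpowers ((σ ^ (2 * g) : D) : G)⟩ := fun a ha => by
  rw [DihedralDefect.mem_C_iff]
  exact congrArg Subtype.val (Q.z_comm ⟨a, ha⟩)

/-- Only one block of the centralizer induces the block. -/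
theorem unique_block (hM : IsPModular 2 M) {B : Set (IrrCharacter G)} (hB : IsPBlock M B)
    (hD : IsDefectGroup 2 M B D) (Q : Quat σ τ g)
    {z : G} (hz : z = ((σ ^ (2 * g) : D) : G)) {β β' : Set (IrrCharacter C⟨Subgroup.zpowers z⟩)}
    (h : IsInducedBlock M C⟨Subgroup.zpowers z⟩ β B)
    (h' : IsInducedBlock M C⟨Subgroup.zpowers z⟩ β' B) : β = β' := by
  haveI : Fact (Nat.Prime 2) := ⟨Nat.prime_two⟩
  have hzo : orderOf z = 2 := hz ▸ order_zG Q.axis
  have hWp : IsPGroup 2 (Subgroup.zpowers z) := IsPGroup.of_card (n := 1) (by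
    rw [Nat.card_zpowers, hzo, pow_one])
  obtain ⟨c, hc⟩ := exists_pair_of_defect hM hB hD
  obtain ⟨f₀, -, huniq⟩ := existsUnique_subpairLE hM hc.1.1
    (show Subgroup.zpowers z ≤ D from Subgroup.zpowers_le.2 (hz ▸ (σ ^ (2 * g) : D).2))
  have key : ∀ f : Set (IrrCharacter C⟨Subgroup.zpowers z⟩), IsInducedBlock M C⟨Subgroup.zpowers z⟩ f B → f = f₀ := by
    intro f hf
    obtain ⟨x, hx⟩ := exists_conj_subpairLE hM hc ((isBrauerPairOf_iff hM B (Subgroup.zpowers z) f).2 ⟨hWp, hf⟩)
    have hzD : x * z * x⁻¹ ∈ D := subpairLE_le hx ⟨z, Subgroup.mem_zpowers z, rfl⟩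
    have hconj : x * z * x⁻¹ = z := by
      have ho : orderOf (⟨_, hzD⟩ : D) = 2 := by
        rw [Subgroup.orderOf_mk, ← MulAut.conj_apply, MulEquiv.orderOf_eq, hzo]
      exact (congrArg Subtype.val (Q.involution ho)).trans hz.symm
    have hxC : x ∈ C⟨Subgroup.zpowers z⟩ := by
      rw [DihedralDefect.mem_C_iff]
      calc x * z = x * z * x⁻¹ * x := by group
        _ = z * x := by rw [hconj]
    refine huniq f ?_
    have hmap : (Subgroup.zpowers z).map (MulAut.conj x).toMonoidHom = Subgroup.zpowers z := by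
      rw [MonoidHom.map_zpowers]
      show Subgroup.zpowers (MulAut.conj x z) = _
      rw [MulAut.conj_apply, hconj]
    have hidx : conjIdx x ⟨Subgroup.zpowers z, f⟩ = (⟨Subgroup.zpowers z, f⟩ : BrauerPairIdx G) := by
      refine idx_ext hM hmap (isPBlock_conjBlock _ _ hf.1) hf.1 ?_
      show bi M _ (conjBlock (Subgroup.zpowers z) x f) = _
      rw [bi_conjBlock]
      exact invOn_iff.1 (invOn_bi f) x hxC
    change Relation.ReflTransGen (NormalSubpairRel 2 M) (conjIdx x ⟨Subgroup.zpowers z, f⟩) _ at hx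
    rw [hidx] at hx
    exact hx
  rw [key β h, key β' h']

/-- **The characters outside the regular rank.** -/
theorem card_sub_rank_eq (hM : IsPModular 2 M) {B : Set (IrrCharacter G)} (hB : IsPBlock M B)
    (hD : IsDefectGroup 2 M B D) (Q : Quat σ τ g)
    {z : G} (hz : z = ((σ ^ (2 * g) : D) : G)) {β : Set (IrrCharacter C⟨Subgroup.zpowers z⟩)}
    (hind : IsInducedBlock M C⟨Subgroup.zpowers z⟩ β B)
    (hDβ : IsDefectGroup 2 M β (D.subgroupOf C⟨Subgroup.zpowers z⟩)) :
    (Nat.card B : ℤ) - blockRank 2 B = (Nat.card β : ℤ) - blockRank 2 β := by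
  haveI : Fact (Nat.Prime 2) := ⟨Nat.prime_two⟩
  set w : G → ℤ := fun x => sectWeight 2 M B (Subgroup.centralizer ({x} : Set G)) with hw
  set Z := (pElements 2 G).filter (fun x => z ∈ Subgroup.zpowers x) with hZ
  have hzo : orderOf z = 2 := hz ▸ order_zG Q.axis
  have hpel : ∀ x ∈ pElements 2 G, ∀ t : G, t * x * t⁻¹ ∈ pElements 2 G := fun x hx t => by
    obtain ⟨h1, k, hk⟩ := mem_pElements.1 hx
    refine mem_pElements.2 ⟨fun e => h1 ?_, k, by rw [← MulAut.conj_apply, MulEquiv.orderOf_eq, hk]⟩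
    rw [← MulAut.conj_apply, MulEquiv.map_eq_one_iff] at e
    exact e
  have hmeet : ∀ x ∈ pElements 2 G, w x ≠ 0 → ∃ t : G, z ∈ Subgroup.zpowers (t⁻¹ * x * t) := by
    intro x hx hne
    obtain ⟨h1, hk⟩ := mem_pElements.1 hx
    obtain ⟨t, ht⟩ := exists_conj_mem_of_weight hM hB hD hk hne
    refine ⟨t⁻¹, ?_⟩
    rw [inv_inv]
    rw [hz]
    refine z_mem_zpowers Q ht fun e => h1 ?_
    rwa [← MulAut.conj_apply, MulEquiv.map_eq_one_iff] at e
  have hcount : ∀ x ∈ pElements 2 G, w x *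
      ((Finset.univ.filter fun t : G => z ∈ Subgroup.zpowers (t⁻¹ * x * t)).card : ℤ) =
      w x * (Nat.card C⟨Subgroup.zpowers z⟩ : ℤ) := by
    intro x hx
    by_cases hne : w x = 0
    · rw [hne, zero_mul, zero_mul]
    obtain ⟨t₀, ht₀⟩ := hmeet x hx hne
    congr 1
    rw [show (Finset.univ.filter fun t : G => z ∈ Subgroup.zpowers (t⁻¹ * x * t)) =
      Finset.univ.filter (fun t : G => t₀⁻¹ * t ∈ C⟨Subgroup.zpowers z⟩) from Finset.filter_congr fun t _ => ?_]
    · rw [← Fintype.card_subtype, ← Nat.card_eq_fintype_card]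
      exact congrArg Nat.cast (Nat.card_congr (Equiv.subtypeEquiv (Equiv.mulLeft t₀⁻¹) fun a => Iff.rfl))
    constructor
    · intro ht
      exact DihedralDefect.mem_of_conj hzo ht₀ (by
        rwa [show (t₀⁻¹ * t)⁻¹ * (t₀⁻¹ * x * t₀) * (t₀⁻¹ * t) = t⁻¹ * x * t by group])
    · intro hC
      rw [DihedralDefect.mem_C_iff] at hC
      obtain ⟨j, hj⟩ := Subgroup.mem_zpowers_iff.1 ht₀
      refine Subgroup.mem_zpowers_iff.2 ⟨j, ?_⟩
      rw [show t⁻¹ * x * t = MulAut.conj (t₀⁻¹ * t)⁻¹ (t₀⁻¹ * x * t₀) by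
        rw [MulAut.conj_apply]; group, ← map_zpow, hj, MulAut.conj_apply, inv_inv, mul_assoc,
        ← hC, inv_mul_cancel_left]
  have htotal : (Nat.card C⟨Subgroup.zpowers z⟩ : ℤ) * ∑ x ∈ pElements 2 G, w x = (Nat.card G : ℤ) * ∑ x ∈ Z, w x := by
    rw [Finset.mul_sum, Finset.sum_congr rfl fun x hx => show _ = ∑ t : G,
      if z ∈ Subgroup.zpowers (t⁻¹ * x * t) then w x else 0 by
        rw [mul_comm, ← hcount x hx, ← Finset.sum_filter, Finset.sum_const, nsmul_eq_mul, mul_comm],
      Finset.sum_comm, Finset.sum_congr rfl fun t _ => show _ = ∑ x ∈ Z, w x by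
        rw [← Finset.sum_filter]
        refine Finset.sum_nbij' (fun x => t⁻¹ * x * t) (fun x => t * x * t⁻¹) (fun x hx => ?_)
          (fun x hx => ?_) (fun x _ => by group) (fun x _ => by group) fun x hx => ?_
        · obtain ⟨h1, h2⟩ := Finset.mem_filter.1 hx
          exact Finset.mem_filter.2 ⟨by simpa using hpel x h1 t⁻¹, h2⟩
        · obtain ⟨h1, h2⟩ := Finset.mem_filter.1 hx
          refine Finset.mem_filter.2 ⟨hpel x h1 t, ?_⟩
          rwa [show t⁻¹ * (t * x * t⁻¹) * t = x by group]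
        · obtain ⟨h1, -⟩ := Finset.mem_filter.1 hx
          have h := sectWeight_conj hM hB (mem_pElements.1 h1).2 t⁻¹
          rw [inv_inv] at h
          simp only [hw]
          exact h.symm,
      Finset.sum_const, Finset.card_univ, nsmul_eq_mul, Nat.card_eq_fintype_card]
  rw [← card_sub_rank_eq_sum hM hB, mul_left_comm] at htotal
  have hG : (Nat.card G : ℤ) ≠ 0 := Int.natCast_ne_zero.2 Nat.card_pos.ne'
  have hkB : (Nat.card C⟨Subgroup.zpowers z⟩ : ℤ) * ((Nat.card B : ℤ) - blockRank 2 B) = ∑ x ∈ Z, w x :=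
    mul_left_cancel₀ hG htotal
  -- inside the centralizer
  have hβ := card_sub_rank_eq_sum hM hind.1
  rw [← Finset.sum_filter_of_ne (p := fun x : C⟨Subgroup.zpowers z⟩ => z ∈ Subgroup.zpowers (x : G))
    fun x hx hne => ?_] at hβ
  swap
  · obtain ⟨h1, hk⟩ := mem_pElements.1 hx
    obtain ⟨t, ht⟩ := exists_conj_mem_of_weight hM hind.1 hDβ hk hne
    have h1' : ((t * x * t⁻¹ : C⟨Subgroup.zpowers z⟩) : G) ≠ 1 := fun e => h1 (by
      have e' : t * x * t⁻¹ = 1 := Subtype.ext e
      rwa [← MulAut.conj_apply, MulEquiv.map_eq_one_iff] at e')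
    obtain ⟨j, hj⟩ := Subgroup.mem_zpowers_iff.1 (z_mem_zpowers Q ht h1')
    rw [← hz] at hj
    refine Subgroup.mem_zpowers_iff.2 ⟨j, ?_⟩
    have hc := (DihedralDefect.mem_C_iff (z := z) (t : G)).1 t.2
    change ((t : G) * (x : G) * (t : G)⁻¹) ^ j = z at hj
    rw [conj_zpow] at hj
    calc (x : G) ^ j = (t : G)⁻¹ * ((t : G) * (x : G) ^ j * (t : G)⁻¹) * t := by group
      _ = (t : G)⁻¹ * z * t := by rw [hj]
      _ = z := by rw [mul_assoc, ← hc, inv_mul_cancel_left]
  have hWp : IsPGroup 2 (Subgroup.zpowers z) := IsPGroup.of_card (n := 1) (by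
    rw [Nat.card_zpowers, hzo, pow_one])
  have hsum : ∑ x ∈ (pElements 2 C⟨Subgroup.zpowers z⟩).filter (fun x : C⟨Subgroup.zpowers z⟩ => z ∈ Subgroup.zpowers (x : G)),
      sectWeight 2 M β (Subgroup.centralizer ({x} : Set C⟨Subgroup.zpowers z⟩)) = ∑ x ∈ Z, w x := by
    refine Finset.sum_bij (fun x _ => (x : G)) (fun x hx => ?_) (fun x _ x' _ e => Subtype.ext e)
      (fun x hx => ?_) fun x hx => ?_
    · obtain ⟨h1, h2⟩ := Finset.mem_filter.1 hx
      obtain ⟨hne, k, hk⟩ := mem_pElements.1 h1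
      exact Finset.mem_filter.2 ⟨mem_pElements.2
        ⟨fun e => hne (Subtype.ext e), k, by rwa [Subgroup.orderOf_coe]⟩, h2⟩
    · obtain ⟨h1, h2⟩ := Finset.mem_filter.1 hx
      obtain ⟨hne, k, hk⟩ := mem_pElements.1 h1
      have hxH : x ∈ C⟨Subgroup.zpowers z⟩ := by
        rw [DihedralDefect.mem_C_iff]
        obtain ⟨j, hj⟩ := Subgroup.mem_zpowers_iff.1 h2
        rw [← hj]
        exact ((Commute.refl x).zpow_right j).eq
      exact ⟨⟨x, hxH⟩, Finset.mem_filter.2 ⟨mem_pElements.2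
        ⟨fun e => hne (congrArg Subtype.val e), k, by rwa [Subgroup.orderOf_mk]⟩, h2⟩, rfl⟩
    · obtain ⟨h1, h2⟩ := Finset.mem_filter.1 hx
      have hloc := sum_sectWeight_local hM hWp (N := C⟨Subgroup.zpowers z⟩)
        (fun a ha => by
          rw [DihedralDefect.mem_C_iff]
          obtain ⟨j, rfl⟩ := Subgroup.mem_zpowers_iff.1 ha
          exact ((Commute.refl z).zpow_left j).eq)
        le_rfl (Subgroup.centralizer_le_normalizer _) (B := B) (mem_pElements.1 h1).2
      rw [Finset.sum_eq_single β (fun b hb hne => absurd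
          (unique_block hM hB hD Q hz (Finset.mem_filter.1 hb).2 hind) hne)
        (fun hb => absurd (Finset.mem_filter.2 ⟨(mem_blocksFinset hM).2 hind.1, hind⟩) hb),
        inf_eq_left.2 (fun a (ha : a ∈ Subgroup.centralizer ({(x : G)} : Set G)) =>
          (DihedralDefect.mem_C_iff (z := z) a).2 (by
            obtain ⟨j, hj⟩ := Subgroup.mem_zpowers_iff.1 h2
            rw [← hj]
            exact ((show Commute a (x : G) from
              Subgroup.mem_centralizer_singleton_iff.1 ha).zpow_right j).eq))] at hloc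
      exact hloc
  rw [hsum, ← hkB] at hβ
  exact (mul_left_cancel₀ (Int.natCast_ne_zero.2 Nat.card_pos.ne') hβ).symm

end Involution

end Cfsg.Lib.Blocks.QuaternionDefect
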