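import Mathlib
import Cfsg.Agent.Blocks.QuaternionDefect.Pack
import Cfsg.Agent.Blocks.QuaternionDefect.Unique
import Cfsg.Agent.Blocks.ContributionRows
import Cfsg.Agent.Blocks.DihedralDefect.Data

/-!
# From the centralizer of the involution to the group
-/

set_option autoImplicit false
set_option linter.unusedSectionVars false
set_option linter.style.haveILetI false

namespace Cfsg.Lib.Blocks.QuaternionDefect

open Cfsg Cfsg.Lib.Chars Cfsg.Lib.Blocks Cfsg.Lib.Blocks.Star
open scoped Classical ComplexConjugate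

universe u

local notation "C⟨" P "⟩" => Subgroup.centralizer (SetLike.coe P)

variable {G : Type u} [Group G] [Fintype G] {M : Ideal AlgInt} {z : G}
  {β : Set (IrrCharacter C⟨Subgroup.zpowers z⟩)} {B : Set (IrrCharacter G)}

/-- The involution as an element of its centralizer. -/
def zc (z : G) : C⟨Subgroup.zpowers z⟩ :=
  ⟨z, (DihedralDefect.mem_C_iff (z := z) z).2 rfl⟩

lemma zc_center (z : G) : zc z ∈ Subgroup.center C⟨Subgroup.zpowers z⟩ :=
  Subgroup.mem_center_iff.2 fun c =>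
    Subtype.ext ((DihedralDefect.mem_C_iff (z := z) (c : G)).1 c.2)

/-- A combination of the members of `β`. -/
noncomputable def comb (β : Set (IrrCharacter C⟨Subgroup.zpowers z⟩))
    (a : IrrCharacter C⟨Subgroup.zpowers z⟩ → ℤ) (c : C⟨Subgroup.zpowers z⟩) : ℂ :=
  ∑ θ ∈ Finset.univ.filter (· ∈ β), (a θ : ℂ) * (θ : C⟨Subgroup.zpowers z⟩ → ℂ) c

/-- The coefficient of `χ` in the induced combination. -/
noncomputable def indC (β : Set (IrrCharacter C⟨Subgroup.zpowers z⟩))
    (a : IrrCharacter C⟨Subgroup.zpowers z⟩ → ℤ) (χ : IrrCharacter G) : ℤ :=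
  ∑ θ ∈ Finset.univ.filter (· ∈ β), (resMult C⟨Subgroup.zpowers z⟩ χ θ : ℤ) * a θ

lemma comb_eq_sum (a : IrrCharacter C⟨Subgroup.zpowers z⟩ → ℤ) :
    comb β a = ∑ θ ∈ Finset.univ.filter (· ∈ β),
      (a θ : ℂ) • (θ : C⟨Subgroup.zpowers z⟩ → ℂ) :=
  funext fun c => by simp [comb, Finset.sum_apply]

lemma comb_class (a : IrrCharacter C⟨Subgroup.zpowers z⟩ → ℤ) :
    IsClassFunction C⟨Subgroup.zpowers z⟩ (comb β a) := fun c d =>
  Finset.sum_congr rfl fun θ _ => by rw [isClassFunction_irr θ c d]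

lemma classInner_comb (a : IrrCharacter C⟨Subgroup.zpowers z⟩ → ℤ)
    (ψ : IrrCharacter C⟨Subgroup.zpowers z⟩) :
    classInner (comb β a) (ψ : C⟨Subgroup.zpowers z⟩ → ℂ) = if ψ ∈ β then (a ψ : ℂ) else 0 := by
  rw [comb_eq_sum, classInner_sum_left]
  simp only [classInner_smul_left, classInner_irrCharacter, mul_ite, mul_one, mul_zero,
    Finset.sum_ite_eq', Finset.mem_filter, Finset.mem_univ, true_and]

lemma comb_res (a : IrrCharacter C⟨Subgroup.zpowers z⟩ → ℤ) (χ : IrrCharacter G) :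
    classInner (comb β a) (fun c : C⟨Subgroup.zpowers z⟩ => (χ : G → ℂ) c) = (indC β a χ : ℂ) := by
  rw [comb_eq_sum, classInner_sum_left, indC]
  simp only [Int.cast_sum, Int.cast_mul, Int.cast_natCast, Int.cast_pow, Int.cast_ofNat, Int.cast_zero]
  refine Finset.sum_congr rfl fun θ _ => ?_
  rw [classInner_smul_left, mul_comm]
  exact congrArg (· * (a θ : ℂ)) ((classInner_conj_symm _ _).symm.trans
    ((congrArg conj (classInner_resMult _ χ θ)).trans (map_natCast _ _)))

variable (hM : IsPModular 2 M) (hz : orderOf z = 2)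
  (hind : IsInducedBlock M C⟨Subgroup.zpowers z⟩ β B)

include hM hz hind

lemma indC_outside {a : IrrCharacter C⟨Subgroup.zpowers z⟩ → ℤ}
    (hs : DihedralDefect.SuppZ z (comb β a)) {χ : IrrCharacter G} (hχ : χ ∉ B) :
    indC β a χ = 0 := by
  have h := DihedralDefect.classInner_outside hM hz hind
    (fun ψ hψ => by rw [classInner_comb, if_neg hψ]) (comb_class a) hs hχ
  rw [comb_res] at h
  exact_mod_cast h

/-- The induced combination. -/
theorem indFun_comb {a : IrrCharacter C⟨Subgroup.zpowers z⟩ → ℤ}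
    (hs : DihedralDefect.SuppZ z (comb β a)) (x : G) :
    indFun C⟨Subgroup.zpowers z⟩ (comb β a) x =
      ∑ χ ∈ Finset.univ.filter (· ∈ B), (indC β a χ : ℂ) * (χ : G → ℂ) x := by
  rw [Finset.sum_filter_of_ne fun χ _ hne => ?_,
    classFunction_expand_apply (isClassFunction_indFun _ _) x]
  · refine Finset.sum_congr rfl fun χ _ => ?_
    rw [frobenius_reciprocity _ _ (isClassFunction_irr χ), comb_res]
  · by_contra hχ
    exact hne (by rw [indC_outside hM hz hind hs hχ, Int.cast_zero, zero_mul])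

/-- Induction preserves the inner products. -/
theorem indC_inner {a b : IrrCharacter C⟨Subgroup.zpowers z⟩ → ℤ}
    (ha : DihedralDefect.SuppZ z (comb β a)) (hb : DihedralDefect.SuppZ z (comb β b)) :
    ∑ χ ∈ Finset.univ.filter (· ∈ B), indC β a χ * indC β b χ =
      ∑ θ ∈ Finset.univ.filter (· ∈ β), a θ * b θ := by
  apply Int.cast_injective (α := ℂ)
  simp only [Int.cast_sum, Int.cast_mul, Int.cast_natCast, Int.cast_pow, Int.cast_ofNat, Int.cast_zero]
  have h := DihedralDefect.classInner_ind hz (comb_class b) ha hb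
  rw [frobenius_reciprocity _ _ (isClassFunction_indFun _ _)] at h
  rw [show (fun c : C⟨Subgroup.zpowers z⟩ => indFun C⟨Subgroup.zpowers z⟩ (comb β b) (c : G)) =
    ∑ χ ∈ Finset.univ.filter (· ∈ B), (indC β b χ : ℂ) •
      (fun c : C⟨Subgroup.zpowers z⟩ => (χ : G → ℂ) c) from funext fun c => by
        rw [indFun_comb hM hz hind hb]; simp [Finset.sum_apply],
    classInner_sum_right] at h
  simp only [classInner_smul_right, comb_res, map_intCast] at h
  rw [Finset.sum_congr rfl fun χ _ => mul_comm _ _, h, comb_eq_sum a, classInner_sum_left]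
  refine Finset.sum_congr rfl fun θ hθ => ?_
  rw [classInner_smul_left, show classInner (θ : C⟨Subgroup.zpowers z⟩ → ℂ) (comb β b) =
      conj (classInner (comb β b) (θ : C⟨Subgroup.zpowers z⟩ → ℂ)) from (classInner_conj_symm _ _).symm,
    classInner_comb, if_pos (Finset.mem_filter.1 hθ).2, map_intCast]

lemma indC_deg {a : IrrCharacter C⟨Subgroup.zpowers z⟩ → ℤ}
    (hs : DihedralDefect.SuppZ z (comb β a)) :
    ∑ χ ∈ Finset.univ.filter (· ∈ B), indC β a χ * (deg (χ : G → ℂ) : ℤ) = 0 := by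
  apply Int.cast_injective (α := ℂ)
  simp only [Int.cast_sum, Int.cast_mul, Int.cast_natCast, Int.cast_pow, Int.cast_ofNat, Int.cast_zero]
  simp only [← irr_apply_one_eq_deg]
  rw [← indFun_comb hM hz hind hs]
  exact DihedralDefect.indFun_regular hz hs (by simp)

omit hM hind in
lemma mem_zpowers_section {c : C⟨Subgroup.zpowers z⟩} (hc : ¬ 2 ∣ orderOf c) :
    z ∈ Subgroup.zpowers (z * (c : G)) := by
  have hcomm : Commute z (c : G) := ((DihedralDefect.mem_C_iff (z := z) (c : G)).1 c.2).symm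
  refine Subgroup.mem_zpowers_iff.2 ⟨(orderOf c : ℤ), ?_⟩
  rw [zpow_natCast, hcomm.mul_pow, ← SubmonoidClass.coe_pow c, pow_orderOf_eq_one, OneMemClass.coe_one,
    mul_one, ← pow_mod_orderOf, hz, show orderOf c % 2 = 1 by omega, pow_one]

/-- On the section of `z` the induced combination has its own values. -/
lemma sum_indC_section {a : IrrCharacter C⟨Subgroup.zpowers z⟩ → ℤ}
    (hs : DihedralDefect.SuppZ z (comb β a)) {c : C⟨Subgroup.zpowers z⟩} (hc : ¬ 2 ∣ orderOf c) :
    ∑ χ ∈ Finset.univ.filter (· ∈ B), (indC β a χ : ℂ) * (χ : G → ℂ) (z * (c : G)) =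
      comb β a (zc z * c) := by
  rw [← indFun_comb hM hz hind hs,
    show z * (c : G) = ((zc z * c : C⟨Subgroup.zpowers z⟩) : G) from rfl]
  exact DihedralDefect.indFun_eq hz (comb_class a) hs (mem_zpowers_section hz hc)

omit hM hind in
lemma zc_sq : zc z * zc z = 1 := Subtype.ext (by
  show z * z = 1
  rw [← pow_two, ← hz, pow_orderOf_eq_one])

/-- The sign at `z`. -/
noncomputable def sgnz (θ : IrrCharacter C⟨Subgroup.zpowers z⟩) : ℤ :=
  (apply_central_sign θ (zc_center z) (zc_sq hz)).choose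

omit hM hind in
lemma sgnz_spec (θ : IrrCharacter C⟨Subgroup.zpowers z⟩) :
    (sgnz hz θ = 1 ∨ sgnz hz θ = -1) ∧
      (θ : C⟨Subgroup.zpowers z⟩ → ℂ) (zc z) = (sgnz hz θ : ℂ) * (θ : C⟨Subgroup.zpowers z⟩ → ℂ) 1 ∧
      ∀ c, (θ : C⟨Subgroup.zpowers z⟩ → ℂ) (zc z * c) =
        (sgnz hz θ : ℂ) * (θ : C⟨Subgroup.zpowers z⟩ → ℂ) c :=
  (apply_central_sign θ (zc_center z) (zc_sq hz)).choose_spec

/-- The coefficient in the section of `z`. -/
noncomputable def sect (χ : IrrCharacter G) (θ : IrrCharacter C⟨Subgroup.zpowers z⟩) : ℤ :=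
  (resMult C⟨Subgroup.zpowers z⟩ χ θ : ℤ) * sgnz hz θ

omit hM hind in
lemma sectCoef_int (χ : IrrCharacter G) (θ : IrrCharacter C⟨Subgroup.zpowers z⟩) :
    sectCoef z χ θ = (sect hz χ θ : ℂ) := by
  rw [sectCoef_eq (H := C⟨Subgroup.zpowers z⟩) rfl, centralValue,
    dif_pos (show z ∈ C⟨Subgroup.zpowers z⟩ from (zc z).2), sect]
  simp only [Int.cast_sum, Int.cast_mul, Int.cast_natCast, Int.cast_pow, Int.cast_ofNat, Int.cast_zero]
  congr 1
  show (θ : C⟨Subgroup.zpowers z⟩ → ℂ) (zc z) / (θ : C⟨Subgroup.zpowers z⟩ → ℂ) 1 = _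
  rw [(sgnz_spec hz θ).2.1, mul_div_cancel_right₀ _ (IsIrrCharacter.apply_one_ne_zero θ.2)]

/-- The lift of a vector of the block of the centralizer. -/
noncomputable def lift (β : Set (IrrCharacter C⟨Subgroup.zpowers z⟩))
    (a : IrrCharacter C⟨Subgroup.zpowers z⟩ → ℤ) (χ : IrrCharacter G) : ℤ :=
  ∑ θ ∈ Finset.univ.filter (· ∈ β), sect hz χ θ * a θ

/-- A row of the section against the regular matrix. -/
noncomputable def secRow (β : Set (IrrCharacter C⟨Subgroup.zpowers z⟩)) (χ : IrrCharacter G)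
    (θ : IrrCharacter C⟨Subgroup.zpowers z⟩) : ℤ :=
  ∑ φ ∈ Finset.univ.filter (· ∈ β), sect hz χ φ * regRed 2 β φ θ

lemma secRow_eq (χ : IrrCharacter G) {θ : IrrCharacter C⟨Subgroup.zpowers z⟩} (hθ : θ ∈ β) :
    (secRow hz β χ θ : ℂ) = (2 : ℂ) ^ blockDefect 2 β * (Nat.card C⟨Subgroup.zpowers z⟩ : ℂ)⁻¹ *
      ∑ w ∈ Finset.univ.filter (fun w : C⟨Subgroup.zpowers z⟩ => ¬ 2 ∣ orderOf w),
        blockPart β (fun c : C⟨Subgroup.zpowers z⟩ => (χ : G → ℂ) (z * (c : G))) w *
          conj ((θ : C⟨Subgroup.zpowers z⟩ → ℂ) w) := by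
  rw [secRow]
  simp only [Int.cast_sum, Int.cast_mul, Int.cast_natCast, Int.cast_pow, Int.cast_ofNat, Int.cast_zero]
  rw [Finset.sum_congr rfl fun φ _ => by
    rw [← sectCoef_int hz, ← pow_blockDefect_mul_classInner hM hind.1 φ hθ, classInner_def]]
  simp only [blockPart_eq_sum β, Finset.mul_sum, Finset.sum_mul]
  rw [Finset.sum_comm, Finset.sum_filter]
  refine Finset.sum_congr rfl fun w _ => ?_
  by_cases hw : 2 ∣ orderOf w
  · rw [if_neg (not_not.2 hw)]
    exact Finset.sum_eq_zero fun φ _ => by rw [pRegularPart_apply, if_pos hw]; ring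
  · rw [if_pos hw]
    refine Finset.sum_congr rfl fun φ _ => ?_
    rw [pRegularPart_apply, if_neg hw]
    simp only [sectCoef, Nat.cast_ofNat]
    ring

lemma sum_secRow_mul {θ θ' : IrrCharacter C⟨Subgroup.zpowers z⟩} (hθ : θ ∈ β) (hθ' : θ' ∈ β) :
    ∑ χ ∈ Finset.univ.filter (· ∈ B), secRow hz β χ θ * secRow hz β χ θ' =
      2 ^ blockDefect 2 β * regRed 2 β θ' θ := by
  set R := Finset.univ.filter (fun w : C⟨Subgroup.zpowers z⟩ => ¬ 2 ∣ orderOf w) with hR
  set f : IrrCharacter G → C⟨Subgroup.zpowers z⟩ → ℂ := fun χ w =>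
    blockPart β (fun c : C⟨Subgroup.zpowers z⟩ => (χ : G → ℂ) (z * (c : G))) w with hf
  set q : ℂ := (2 : ℂ) ^ blockDefect 2 β * (Nat.card C⟨Subgroup.zpowers z⟩ : ℂ)⁻¹ with hq
  have hqc : conj q = q := by simp [hq, map_ofNat]
  apply Int.cast_injective (α := ℂ)
  simp only [Int.cast_sum, Int.cast_mul, Int.cast_natCast, Int.cast_pow, Int.cast_ofNat, Int.cast_zero]
  calc ∑ χ ∈ Finset.univ.filter (· ∈ B), (secRow hz β χ θ : ℂ) * (secRow hz β χ θ' : ℂ)
      = ∑ χ ∈ Finset.univ.filter (· ∈ B), q * q *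
          ((∑ w ∈ R, f χ w * conj ((θ : C⟨Subgroup.zpowers z⟩ → ℂ) w)) *
            ∑ v ∈ R, conj (f χ v) * (θ' : C⟨Subgroup.zpowers z⟩ → ℂ) v) := by
        refine Finset.sum_congr rfl fun χ _ => ?_
        have e : (secRow hz β χ θ' : ℂ) = q * ∑ v ∈ R, conj (f χ v) * (θ' : C⟨Subgroup.zpowers z⟩ → ℂ) v := by
          rw [← map_intCast (starRingEnd ℂ) (secRow hz β χ θ'), secRow_eq hM hz hind χ hθ']
          simp only [map_mul, map_sum, Complex.conj_conj]
          rw [← map_mul, ← hq, hqc]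
        rw [e, secRow_eq hM hz hind χ hθ, ← hq]
        ring
    _ = q * q * ∑ w ∈ R, conj ((θ : C⟨Subgroup.zpowers z⟩ → ℂ) w) * ∑ v ∈ R, colKer β w v * (θ' : C⟨Subgroup.zpowers z⟩ → ℂ) v := by
        rw [← Finset.mul_sum]
        congr 1
        simp only [Finset.sum_mul, Finset.mul_sum]
        conv_rhs => rw [Finset.sum_comm]
        rw [Finset.sum_comm]
        refine Finset.sum_congr rfl fun v hv => ?_
        rw [Finset.sum_comm]
        refine Finset.sum_congr rfl fun w hw => ?_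
        rw [← sum_blockPart_mul_conj_blockPart hM ⟨1, by rw [hz, pow_one]⟩ rfl hind
          (Finset.mem_filter.1 hw).2 (Finset.mem_filter.1 hv).2, Finset.sum_mul, Finset.mul_sum]
        exact Finset.sum_congr rfl fun χ _ => by simp only [hf]; ring
    _ = q * q * ∑ w ∈ R, conj ((θ : C⟨Subgroup.zpowers z⟩ → ℂ) w) * ((Nat.card C⟨Subgroup.zpowers z⟩ : ℂ) * (θ' : C⟨Subgroup.zpowers z⟩ → ℂ) w) := by
        congr 1
        exact Finset.sum_congr rfl fun w hw => by
          rw [sum_colKer_mul_block hM hind.1 hθ' (Finset.mem_filter.1 hw).2]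
    _ = (2 : ℂ) ^ blockDefect 2 β * (regRed 2 β θ' θ : ℂ) := by
        rw [← pow_blockDefect_mul_classInner hM hind.1 θ' hθ, classInner_def, hR, Finset.sum_filter,
          hq]
        simp only [Finset.mul_sum, Nat.cast_ofNat]
        refine Finset.sum_congr rfl fun w _ => ?_
        rw [pRegularPart_apply]
        by_cases hw : 2 ∣ orderOf w
        · simp [hw]
        · have : (Nat.card C⟨Subgroup.zpowers z⟩ : ℂ) ≠ 0 := Nat.cast_ne_zero.2 Nat.card_pos.ne'
          simp only [hw, not_false_eq_true, if_true, if_false]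
          field_simp

/-- A vector fixed by the regular matrix up to the order of the defect group is read off the
rows of the section. -/
lemma mul_lift {a : IrrCharacter C⟨Subgroup.zpowers z⟩ → ℤ}
    (ha : ∀ θ ∈ β, ∑ θ' ∈ Finset.univ.filter (· ∈ β), regRed 2 β θ θ' * a θ' =
      2 ^ blockDefect 2 β * a θ) (χ : IrrCharacter G) :
    2 ^ blockDefect 2 β * lift hz β a χ =
      ∑ θ ∈ Finset.univ.filter (· ∈ β), secRow hz β χ θ * a θ := by
  simp only [lift, secRow, Finset.mul_sum, Finset.sum_mul]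
  rw [Finset.sum_comm]
  refine Finset.sum_congr rfl fun φ hφ => ?_
  rw [Finset.sum_congr rfl fun θ _ => mul_assoc _ _ _, ← Finset.mul_sum,
    ha φ (Finset.mem_filter.1 hφ).2]
  ring

/-- The lifts have the inner products of the vectors. -/
theorem lift_inner {a b : IrrCharacter C⟨Subgroup.zpowers z⟩ → ℤ}
    (ha : ∀ θ ∈ β, ∑ θ' ∈ Finset.univ.filter (· ∈ β), regRed 2 β θ θ' * a θ' =
      2 ^ blockDefect 2 β * a θ)
    (hb : ∀ θ ∈ β, ∑ θ' ∈ Finset.univ.filter (· ∈ β), regRed 2 β θ θ' * b θ' =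
      2 ^ blockDefect 2 β * b θ) :
    ∑ χ ∈ Finset.univ.filter (· ∈ B), lift hz β a χ * lift hz β b χ =
      ∑ θ ∈ Finset.univ.filter (· ∈ β), a θ * b θ := by
  set D : ℤ := 2 ^ blockDefect 2 β with hD
  have hD0 : D ≠ 0 := pow_ne_zero _ two_ne_zero
  refine mul_left_cancel₀ (mul_ne_zero hD0 hD0) ?_
  calc D * D * ∑ χ ∈ Finset.univ.filter (· ∈ B), lift hz β a χ * lift hz β b χ
      = ∑ χ ∈ Finset.univ.filter (· ∈ B), (D * lift hz β a χ) * (D * lift hz β b χ) := by
        rw [Finset.mul_sum]; exact Finset.sum_congr rfl fun χ _ => by ring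
    _ = ∑ θ ∈ Finset.univ.filter (· ∈ β), ∑ θ' ∈ Finset.univ.filter (· ∈ β),
          a θ * b θ' * (D * regRed 2 β θ' θ) := by
        simp only [hD, mul_lift hM hz hind ha, mul_lift hM hz hind hb, Finset.sum_mul_sum]
        rw [Finset.sum_comm]
        refine Finset.sum_congr rfl fun θ hθ => ?_
        rw [Finset.sum_comm]
        refine Finset.sum_congr rfl fun θ' hθ' => ?_
        rw [← sum_secRow_mul hM hz hind (Finset.mem_filter.1 hθ).2 (Finset.mem_filter.1 hθ').2,
          Finset.mul_sum]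
        exact Finset.sum_congr rfl fun χ _ => by ring
    _ = D * D * ∑ θ ∈ Finset.univ.filter (· ∈ β), a θ * b θ := by
        rw [Finset.mul_sum]
        refine Finset.sum_congr rfl fun θ hθ => ?_
        rw [Finset.sum_congr rfl fun θ' _ => show _ = a θ * D * (regRed 2 β θ θ' * b θ') by
          rw [regRed_symm Nat.prime_two θ' θ]; ring, ← Finset.mul_sum,
          hb θ (Finset.mem_filter.1 hθ).2]
        ring

/-- A vector killing the section of `z` is orthogonal to the lifts. -/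
theorem sum_mul_lift (e : IrrCharacter G → ℤ)
    (he : ∀ c : C⟨Subgroup.zpowers z⟩, ¬ 2 ∣ orderOf c →
      ∑ χ ∈ Finset.univ.filter (· ∈ B), (e χ : ℂ) * (χ : G → ℂ) (z * (c : G)) = 0)
    {a : IrrCharacter C⟨Subgroup.zpowers z⟩ → ℤ}
    (ha : ∀ θ ∈ β, ∑ θ' ∈ Finset.univ.filter (· ∈ β), regRed 2 β θ θ' * a θ' =
      2 ^ blockDefect 2 β * a θ) :
    ∑ χ ∈ Finset.univ.filter (· ∈ B), e χ * lift hz β a χ = 0 := by
  refine mul_left_cancel₀ (pow_ne_zero (blockDefect 2 β) (two_ne_zero : (2 : ℤ) ≠ 0)) ?_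
  rw [mul_zero, Finset.mul_sum, Finset.sum_congr rfl fun χ _ => show _ =
    ∑ θ ∈ Finset.univ.filter (· ∈ β), e χ * secRow hz β χ θ * a θ by
      rw [mul_left_comm, mul_lift hM hz hind ha, Finset.mul_sum]
      exact Finset.sum_congr rfl fun θ _ => by ring, Finset.sum_comm]
  refine Finset.sum_eq_zero fun θ hθ => ?_
  rw [← Finset.sum_mul]
  refine mul_eq_zero_of_left ?_ _
  apply Int.cast_injective (α := ℂ)
  simp only [Int.cast_sum, Int.cast_mul, Int.cast_natCast, Int.cast_pow, Int.cast_ofNat, Int.cast_zero]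
  rw [Finset.sum_congr rfl fun χ _ => by
    rw [secRow_eq hM hz hind χ (Finset.mem_filter.1 hθ).2, mul_left_comm, Finset.mul_sum],
    ← Finset.mul_sum, Finset.sum_comm, Finset.sum_eq_zero fun w hw => ?_, mul_zero]
  rw [Finset.sum_congr rfl fun χ _ => (mul_assoc _ _ _).symm, ← Finset.sum_mul,
    ← blockPart_sum_smul, blockPart_congr_regular hM hind.1 (θ' := fun _ => 0) (fun c hc => he c hc)
      (Finset.mem_filter.1 hw).2, blockPart_eq_sum]
  simp [classInner_def]

end Cfsg.Lib.Blocks.QuaternionDefect
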