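import Mathlib
import Cfsg.Agent.Blocks.QuaternionDefect.Transfer
import Cfsg.Agent.Blocks.QuaternionDefect.Count

/-!
# The invariants of a 2-block with quaternion defect group
-/

set_option autoImplicit false
set_option linter.unusedSectionVars false
set_option linter.style.haveILetI false

namespace Cfsg.Lib.Blocks.QuaternionDefect

open Cfsg Cfsg.Lib.Chars Cfsg.Lib.Blocks Cfsg.Lib.Blocks.Star
open scoped Classical ComplexConjugate

universe u

local notation "C⟨" P "⟩" => Subgroup.centralizer (SetLike.coe P)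

variable {G : Type u} [Group G] [Fintype G] {M : Ideal AlgInt}

/-- The exact power of two in a contribution against height zero. -/
lemma contribution_exact {z : G} (hM : IsPModular 2 M) (hz : orderOf z = 2)
    {β : Set (IrrCharacter C⟨Subgroup.zpowers z⟩)} {B : Set (IrrCharacter G)}
    (hind : IsInducedBlock M C⟨Subgroup.zpowers z⟩ β B)
    (hdef : blockDefect 2 β = blockDefect 2 B) {χ ξ : IrrCharacter G} (hχ : χ ∈ B) (hξ : ξ ∈ B)
    (hξ0 : blockHeight 2 B (ξ : G → ℂ) = 0) (A : ℤ) (hA : contribution 2 z β χ ξ = (A : ℂ))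
    (A₀ : ℤ) (hA₀ : contribution 2 z β ξ ξ = (A₀ : ℂ)) :
    ∃ m : ℤ, A = 2 ^ blockHeight 2 B (χ : G → ℂ) * m ∧ Odd m := by
  haveI : Fact (Nat.Prime 2) := ⟨Nat.prime_two⟩
  haveI := charP_res hM
  set h := blockHeight 2 B (χ : G → ℂ) with hh
  set n := Nat.card G / 2 ^ (Nat.card G).factorization 2 with hn
  have hx : ∃ k : ℕ, orderOf z = 2 ^ k := ⟨1, by rw [hz, pow_one]⟩
  have hnres : (n : Res M) ≠ 0 := fun h =>
    Nat.not_dvd_ordCompl hM.1 Nat.card_pos.ne' ((res_natCast_eq_zero_iff hM _).1 h)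
  obtain ⟨a, hac, hai, -, ha⟩ :=
    exists_centralElem_contribution (H := C⟨Subgroup.zpowers z⟩) rfl hx hM hind hdef ξ
  have hmem : ∀ θ : IrrCharacter G, omega (θ : G → ℂ) a ∈ place M := fun θ =>
    omega_mem_place hM θ hac hai
  have hω : res M (omega (χ : G → ℂ) a) ≠ 0 := by
    rw [res_omega_eq_of_sameBlock hM (IsPBlock.sameBlock hM hind.2.1 hχ hξ) hac hai]
    intro h0
    have e := congrArg (res M) (ha ξ hξ)
    rw [← hn, res_mul (natCast_mem_place _) (hA₀ ▸ intCast_mem _ _), res_natCast,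
      res_mul (hmem ξ) (natCast_mem_place _), h0, zero_mul] at e
    exact mul_ne_zero hnres
      (res_contribution_self_ne_zero (x := z) rfl hx hM hind hξ hξ0) e
  obtain ⟨hint, hkey⟩ := isIntegral_contribution_div (x := z) rfl hx hM hind hdef hχ ξ
  rw [hA] at hint
  obtain ⟨m, hm⟩ := int_of_isIntegral_rat (q := (A : ℚ) / ((2 ^ h : ℕ) : ℚ)) (by
    push_cast at hint ⊢
    exact hint)
  rw [div_eq_iff (by positivity)] at hm
  have hAm : A = 2 ^ h * m := by
    rw [mul_comm _ m]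
    exact_mod_cast hm
  refine ⟨m, hAm, ?_⟩
  have e := hkey a ha
  rw [hA, ← hh, hAm, ← hn] at e
  have e' : (n : ℂ) * (m : ℂ) =
      omega (χ : G → ℂ) a * ((degRed 2 B χ / 2 ^ h : ℕ) : ℂ) := by
    rw [← e]
    push_cast
    rw [mul_div_cancel_left₀ _ (pow_ne_zero h (two_ne_zero : (2 : ℂ) ≠ 0))]
  have hq : ((degRed 2 B χ / 2 ^ h : ℕ) : Res M) ≠ 0 := fun h0 => by
    have h2 := (res_natCast_eq_zero_iff hM _).1 h0
    have h1 := pow_mul_degRed hM hind.2.1 hχ
    have hle := minExp_le hM hind.2.1 hχ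
    have hfac : (deg (χ : G → ℂ)).factorization 2 = minExp 2 B + h := by
      rw [hh, blockHeight]
      change _ = minExp 2 B + ((deg (χ : G → ℂ)).factorization 2 - minExp 2 B)
      omega
    have hdvd : 2 ^ h ∣ degRed 2 B χ := by
      refine Nat.dvd_of_mul_dvd_mul_left (pow_pos two_pos (minExp 2 B)) ?_
      rw [h1, ← pow_add, ← hfac]
      exact Nat.ordProj_dvd _ 2
    have h3 : 2 ^ (minExp 2 B + (h + 1)) ∣ deg (χ : G → ℂ) := by
      rw [pow_add, pow_succ, ← h1]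
      refine mul_dvd_mul_left _ ?_
      conv_rhs => rw [← Nat.mul_div_cancel' hdvd]
      exact mul_dvd_mul_left _ h2
    have h4 := (Nat.prime_two.pow_dvd_iff_le_factorization (deg_irr_pos χ).ne').1 h3
    omega
  have e'' := congrArg (res M) e'
  rw [res_mul (natCast_mem_place _) (intCast_mem _ _), res_natCast, res_intCast,
    res_mul (hmem χ) (natCast_mem_place _), res_natCast] at e''
  rw [← Int.not_even_iff_odd, even_iff_two_dvd]
  intro h2
  rw [(CharP.intCast_eq_zero_iff (Res M) 2 m).2 (by exact_mod_cast h2), mul_zero, eq_comm] at e''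
  exact mul_ne_zero hω hq e''

/-- The counts and heights of a block, from the rows and columns of the block of the centralizer
of an involution of its defect group. -/
theorem core (hM : IsPModular 2 M) {B : Set (IrrCharacter G)} (hB : IsPBlock M B)
    {z : G} (hz : orderOf z = 2) {β : Set (IrrCharacter C⟨Subgroup.zpowers z⟩)}
    (hind : IsInducedBlock M C⟨Subgroup.zpowers z⟩ β B) {g k : ℕ} (hgk : g = 2 ^ k)
    (hdβ : blockDefect 2 β = k + 3) (hdB : blockDefect 2 B = k + 3)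
    {E : ℕ → IrrCharacter C⟨Subgroup.zpowers z⟩ → ℤ} (hrows : CentreRows β (zc z) g E)
    (Cd : CentreData β (zc z) g E)
    (hwit : Cd.m = 0 → ∃ x₀ : IrrCharacter C⟨Subgroup.zpowers z⟩ → ℤ,
      (∀ θ ∈ β, (Odd (x₀ θ) ↔ blockHeight 2 β (θ : C⟨Subgroup.zpowers z⟩ → ℂ) = 0)) ∧
      ∑ θ ∈ Finset.univ.filter (· ∈ β), x₀ θ * x₀ θ ≤ 8 ∧
      (∀ s ∈ Finset.Icc 1 g, ∑ θ ∈ Finset.univ.filter (· ∈ β), E (2 * s) θ * x₀ θ = 0) ∧
      (∀ s, ∑ θ ∈ Finset.univ.filter (· ∈ β), E (2 * s + 1) θ * x₀ θ = 0) ∧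
      DihedralDefect.SuppZ z (comb β x₀)) :
    Nat.card B ≤ 2 * g + 3 + Cd.m ∧ (2 ≤ g → 2 * g + 3 ≤ Nat.card B) ∧
      Nat.card {χ : IrrCharacter G // χ ∈ B ∧ blockHeight 2 B (χ : G → ℂ) = 0} = 4 ∧
      (∀ χ ∈ B, blockHeight 2 B (χ : G → ℂ) = 0 ∨ blockHeight 2 B (χ : G → ℂ) = 1 ∨
        blockHeight 2 B (χ : G → ℂ) = k + 1) ∧
      (2 ≤ g → Nat.card {χ : IrrCharacter G // χ ∈ B ∧ blockHeight 2 B (χ : G → ℂ) = 1} =
        2 * g - 1) := by
  haveI : Fact (Nat.Prime 2) := ⟨Nat.prime_two⟩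
  haveI := charP_res hM
  have hdef : blockDefect 2 β = blockDefect 2 B := by rw [hdβ, hdB]
  have h8g : (2 : ℤ) ^ blockDefect 2 β = 8 * g := by rw [hdβ, hgk]; push_cast; ring
  have hg : 1 ≤ g := hgk ▸ Nat.one_le_two_pow
  have two : g = 1 ∨ g = 2 ∨ 4 ∣ g := by
    rcases k with _ | _ | k
    · exact Or.inl hgk
    · exact Or.inr (Or.inl hgk)
    · exact Or.inr (Or.inr ⟨2 ^ k, by rw [hgk]; ring⟩)
  -- the vectors of the centralizer
  set Bβ := Finset.univ.filter (· ∈ β) with hBβ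
  set T := Finset.univ.filter (· ∈ B) with hT
  have hswap : ∀ (v a : IrrCharacter C⟨Subgroup.zpowers z⟩ → ℤ),
      ∑ θ ∈ Bβ, v θ * a θ = ∑ θ ∈ Bβ, a θ * v θ := fun v a =>
    Finset.sum_congr rfl fun θ _ => mul_comm _ _
  have hRa : ∀ (a : IrrCharacter C⟨Subgroup.zpowers z⟩ → ℤ), ∀ θ ∈ β,
      ∑ θ' ∈ Bβ, regRed 2 β θ θ' * a θ' =
        Cd.u θ * ∑ θ' ∈ Bβ, Cd.u θ' * a θ' + g * ∑ j, Cd.w j θ * ∑ θ' ∈ Bβ, Cd.w j θ' * a θ' := by
    intro a θ hθ
    rw [Finset.sum_congr rfl fun θ' hθ' => by rw [Cd.expand θ hθ θ' (Finset.mem_filter.1 hθ').2]]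
    simp only [add_mul, Finset.sum_add_distrib, Finset.mul_sum, Finset.sum_mul]
    rw [Finset.sum_comm (s := Bβ)]
    congr 1
    · exact Finset.sum_congr rfl fun θ' _ => by ring
    · exact Finset.sum_congr rfl fun j _ => Finset.sum_congr rfl fun θ' _ => by ring
  have hequ : ∀ θ ∈ β, ∑ θ' ∈ Bβ, regRed 2 β θ θ' * Cd.u θ' =
      2 ^ blockDefect 2 β * Cd.u θ := fun θ hθ => by
    rw [hRa _ θ hθ, Cd.normu, h8g]
    simp only [fun j => (hswap (Cd.w j) Cd.u).trans (Cd.normuw j), mul_zero, Finset.sum_const_zero, add_zero]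
    ring
  have heqw : ∀ i, ∀ θ ∈ β, ∑ θ' ∈ Bβ, regRed 2 β θ θ' * Cd.w i θ' =
      2 ^ blockDefect 2 β * Cd.w i θ := fun i θ hθ => by
    rw [hRa _ θ hθ, h8g, Cd.normuw i]
    simp only [hBβ, Cd.normw, mul_ite, mul_zero, Finset.sum_ite_eq', Finset.mem_univ, if_true]
    ring
  -- the rows of the group
  have hsE : ∀ i, DihedralDefect.SuppZ z (comb β (E i)) := fun i a ha => by
    by_contra hn
    refine ha (hrows.supp i a fun hmem => hn ?_)
    obtain ⟨j, hj⟩ := Subgroup.mem_zpowers_iff.1 hmem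
    exact Subgroup.mem_zpowers_iff.2 ⟨j, by
      rw [← Subgroup.coe_zpow, hj]; rfl⟩
  set F : ℕ → IrrCharacter G → ℤ := fun s χ => indC β (E (2 * s)) χ with hF
  set O : ℕ → IrrCharacter G → ℤ := fun s χ => indC β (E (2 * s + 1)) χ with hO
  set U : IrrCharacter G → ℤ := lift hz β Cd.u with hU
  set W : Fin Cd.m → IrrCharacter G → ℤ := fun j => lift hz β (Cd.w j) with hW
  set L : IrrCharacter G → ℤ := fun χ => (deg (χ : G → ℂ) : ℤ) with hL
  have hsing : ∀ d : C⟨Subgroup.zpowers z⟩, ¬ 2 ∣ orderOf d →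
      2 ∣ orderOf (z * (d : G)) ∧ ¬ 4 ∣ orderOf (zc z * d) := by
    intro d hd'
    refine ⟨(by rw [hz] : 2 ∣ orderOf z).trans
      (orderOf_dvd_of_mem_zpowers (mem_zpowers_section hz hd')), fun h4 => ?_⟩
    have hcomm : Commute (zc z) d := (Subgroup.mem_center_iff.1 (zc_center z) d).symm
    have h1 : orderOf (zc z * d) ∣ 2 * orderOf d := orderOf_dvd_of_pow_eq_one (by
      rw [hcomm.mul_pow, pow_mul, pow_two, zc_sq hz, one_pow, one_mul, pow_mul', pow_orderOf_eq_one,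
        one_pow])
    have := h4.trans h1
    omega
  have hkillE : ∀ i, ∀ d : C⟨Subgroup.zpowers z⟩, ¬ 2 ∣ orderOf d →
      ∑ χ ∈ T, (indC β (E i) χ : ℂ) * (χ : G → ℂ) (z * (d : G)) = 0 := fun i d hd' => by
    rw [hT, sum_indC_section hM hz hind (hsE i) hd']
    exact hrows.order i _ (hsing d hd').2
  have hkillL : ∀ d : C⟨Subgroup.zpowers z⟩, ¬ 2 ∣ orderOf d →
      ∑ χ ∈ T, (L χ : ℂ) * (χ : G → ℂ) (z * (d : G)) = 0 := fun d hd' => by
    rw [← block_orthogonality_regular' hM hB (g := z * (d : G)) (h := (1 : G)) (hsing d hd').1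
      (by simp)]
    refine Finset.sum_congr rfl fun χ _ => ?_
    simp only [hL, irr_apply_one_eq_deg, map_natCast, Int.cast_natCast]
    ring
  have hlift_par : ∀ (a : IrrCharacter C⟨Subgroup.zpowers z⟩ → ℤ),
      (∀ θ ∈ β, Odd (a θ) ↔ blockHeight 2 β (θ : C⟨Subgroup.zpowers z⟩ → ℂ) = 0) →
      ∀ χ : IrrCharacter G, (Odd (lift hz β a χ) ↔ Odd (F g χ)) ∧
        (Odd (indC β a χ) ↔ Odd (F g χ)) := by
    intro a ha χ
    have hkey : ∀ (v : IrrCharacter C⟨Subgroup.zpowers z⟩ → ℤ),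
        (∀ θ ∈ β, Odd (v θ) ↔ blockHeight 2 β (θ : C⟨Subgroup.zpowers z⟩ → ℂ) = 0) →
        (Odd (indC β v χ) ↔ Odd (F g χ)) := by
      intro v hv
      rw [← not_iff_not, Int.not_odd_iff_even, Int.not_odd_iff_even, ← Int.even_sub]
      simp only [hF, indC]
      rw [← Finset.sum_sub_distrib, even_iff_two_dvd]
      refine Finset.dvd_sum fun θ hθ => ?_
      rw [← mul_sub]
      refine dvd_mul_of_dvd_right (even_iff_two_dvd.1 ?_) _
      have hθ' := (Finset.mem_filter.1 hθ).2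
      rw [Int.even_sub, ← Int.not_odd_iff_even, ← Int.not_odd_iff_even, not_iff_not,
        hv θ hθ', hrows.parity θ hθ']
    refine ⟨?_, hkey a ha⟩
    have h := hkey (fun θ => sgnz hz θ * a θ) fun θ hθ => by
      rcases (sgnz_spec hz θ).1 with h | h <;> simp [h, ha θ hθ]
    rw [← h]
    refine iff_of_eq (congrArg Odd ?_)
    exact Finset.sum_congr rfl fun θ _ => by rw [sect]; ring
  -- the contributions
  have hcon : ∀ χ ψ, contribution 2 z β χ ψ =
      ((U χ * U ψ + g * ∑ j, W j χ * W j ψ : ℤ) : ℂ) := by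
    intro χ ψ
    rw [contribution_def]
    simp only [sectCoef_int hz, map_intCast, ← Int.cast_mul, ← Int.cast_sum]
    refine congrArg Int.cast ?_
    rw [Finset.sum_congr rfl fun θ hθ => Finset.sum_congr rfl fun θ' hθ' => by
      rw [Cd.expand θ (Finset.mem_filter.1 hθ).2 θ' (Finset.mem_filter.1 hθ').2]]
    simp only [hU, hW, lift, Finset.sum_mul_sum]
    simp only [add_mul, Finset.mul_sum, Finset.sum_mul, Finset.sum_add_distrib]
    congr 1
    · exact Finset.sum_congr rfl fun θ _ => Finset.sum_congr rfl fun θ' _ => by ring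
    · rw [Finset.sum_comm (γ := Fin Cd.m)]
      refine Finset.sum_congr rfl fun θ _ => ?_
      rw [Finset.sum_comm]
      exact Finset.sum_congr rfl fun θ' _ => Finset.sum_congr rfl fun j _ => by ring
  -- parity of the weights
  have hgm : Even ((g : ℤ) * Cd.m) := by
    obtain ⟨θ, hθ, hθ0⟩ := exists_height_zero hM hind.1
    have ho := (odd_regRed_iff hM hind.1 hθ hθ).2 ⟨hθ0, hθ0⟩
    rw [Cd.expand θ hθ θ hθ] at ho
    have hu : Odd (Cd.u θ * Cd.u θ) := ((Cd.paru θ hθ).2 hθ0).mul ((Cd.paru θ hθ).2 hθ0)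
    have hev : Even ((g : ℤ) * ∑ j, Cd.w j θ * Cd.w j θ) := by
      rw [Int.odd_add] at ho; exact ho.1 hu
    have hd2 : Even ((g : ℤ) * ∑ j, Cd.w j θ * Cd.w j θ - (g : ℤ) * Cd.m) := by
      rw [← mul_sub, show (Cd.m : ℤ) = ∑ _j : Fin Cd.m, (1 : ℤ) by simp, ← Finset.sum_sub_distrib]
      refine Even.mul_left (even_iff_two_dvd.2 (Finset.dvd_sum fun j _ => ?_)) _
      exact even_iff_two_dvd.1 ((((Cd.parw j θ hθ).2 hθ0).mul ((Cd.parw j θ hθ).2 hθ0)).sub_odd odd_one)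
    exact (Int.even_sub.1 hd2).1 hev
  have hUpar : ∀ χ, Odd (U χ) ↔ Odd (F g χ) := fun χ => (hlift_par Cd.u Cd.paru χ).1
  have hWpar : ∀ j χ, Odd (W j χ) ↔ Odd (F g χ) := fun j χ => (hlift_par _ (Cd.parw j) χ).1
  have hApar : ∀ χ ψ, Even ((g : ℤ) * ∑ j, W j χ * W j ψ) := by
    intro χ ψ
    have hd2 : Even ((g : ℤ) * ∑ j, W j χ * W j ψ - (g : ℤ) * Cd.m * (U χ * U ψ)) := by
      rw [mul_assoc, ← mul_sub, show (Cd.m : ℤ) * (U χ * U ψ) = ∑ _j : Fin Cd.m, U χ * U ψ by simp,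
        ← Finset.sum_sub_distrib]
      refine Even.mul_left (even_iff_two_dvd.2 (Finset.dvd_sum fun j _ => even_iff_two_dvd.1 ?_)) _
      rw [Int.even_sub, Int.even_mul, Int.even_mul]
      simp only [← Int.not_odd_iff_even, hUpar, hWpar]
    exact (Int.even_sub.1 hd2).2 (hgm.mul_right _)
  have hx : ∃ j : ℕ, orderOf z = 2 ^ j := ⟨1, by rw [hz, pow_one]⟩
  obtain ⟨ξ, hξ, hξ0⟩ := exists_height_zero hM hB
  have hzero : ∀ χ ∈ B, (blockHeight 2 B (χ : G → ℂ) = 0 ↔ Odd (U χ)) := by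
    intro χ hχ
    have hres : res M (contribution 2 z β χ χ) = 0 ↔ ¬ Odd (U χ) := by
      rw [hcon, res_intCast, CharP.intCast_eq_zero_iff (Res M) 2, Nat.cast_ofNat,
        ← even_iff_two_dvd, Int.even_add, iff_true_right (hApar χ χ), Int.even_mul, or_self,
        Int.not_odd_iff_even]
    constructor
    · intro h'
      by_contra hodd
      exact res_contribution_self_ne_zero (x := z) rfl hx hM hind hχ h' (hres.2 hodd)
    · intro hodd
      by_contra h'
      exact hres.1 ((contribution_height (x := z) rfl hx hM hind hdef hχ hξ hξ0).2 h') hodd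
  have hne : ∀ χ ∈ B, U χ ≠ 0 ∨ ∃ j, W j χ ≠ 0 := by
    intro χ hχ
    by_contra hcon'
    push Not at hcon'
    refine (contribution_height (x := z) rfl hx hM hind hdef hχ hξ hξ0).1 ?_
    simp [hcon, hcon'.1, hcon'.2]
  have hI : ∀ s ∈ Finset.Ico 1 g, s ∈ Finset.Icc 1 g := fun s hs =>
    Finset.mem_Icc.2 ⟨(Finset.mem_Ico.1 hs).1, (Finset.mem_Ico.1 hs).2.le⟩
  have hgI : g ∈ Finset.Icc 1 g := Finset.mem_Icc.2 ⟨hg, le_rfl⟩
  have hEdeg : ∀ i, ∑ χ ∈ T, indC β (E i) χ * L χ = 0 := fun i => indC_deg hM hz hind (hsE i)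
  have hshort : ∀ j, Short T g F O L (W j) := fun j => by
    refine ⟨fun χ _ => hWpar j χ, ?_, fun s _ => sum_mul_lift hM hz hind _ (hkillE _) (heqw j),
      fun s _ => sum_mul_lift hM hz hind _ (hkillE _) (heqw j),
      sum_mul_lift hM hz hind _ hkillL (heqw j)⟩
    simp only [hW, hT]
    rw [lift_inner hM hz hind (heqw j) (heqw j), Cd.normw, if_pos rfl]
  obtain ⟨x, hxs⟩ : ∃ x : IrrCharacter G → ℤ, Short T g F O L x := by
    rcases Nat.eq_zero_or_pos Cd.m with hm | hm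
    swap
    · exact ⟨_, hshort ⟨0, hm⟩⟩
    obtain ⟨x₀, hxpar, hxn, hxe, hxo, hsx⟩ := hwit hm
    refine ⟨indC β x₀, fun χ _ => (hlift_par x₀ hxpar χ).2, ?_, fun s hs => ?_, fun s _ => ?_,
      (Finset.sum_congr rfl fun χ _ => mul_comm _ _).trans (indC_deg hM hz hind hsx)⟩
    · rw [hT, indC_inner hM hz hind hsx hsx]; exact hxn
    · simp only [hF, hT]; rw [indC_inner hM hz hind (hsE _) hsx]; exact hxe s hs
    · simp only [hO, hT]; rw [indC_inner hM hz hind (hsE _) hsx]; exact hxo s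
  clear hwit
  have K : RowSystem T g Cd.m F O L U W x := by
    refine ⟨hg, two, fun χ _ => by simp only [hL]; exact_mod_cast deg_irr_pos χ,
      fun i hi j hj => ?_, fun i hi => ?_, ?_, fun i hi j hj => ?_, fun i hi j hj => ?_,
      fun i _ => hEdeg _, ⟨ξ, Finset.mem_filter.2 ⟨Finset.mem_univ _, hξ⟩,
        (hUpar ξ).1 ((hzero ξ hξ).1 hξ0)⟩,
      fun χ _ => hUpar χ, ?_, fun s _ => sum_mul_lift hM hz hind _ (hkillE _) hequ,
      fun s _ => sum_mul_lift hM hz hind _ (hkillE _) hequ, hshort, hxs,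
      fun χ hχ => hne χ (Finset.mem_filter.1 hχ).2⟩
    · have hi' := Finset.mem_Ico.1 hi
      simp only [hF, hT]
      rw [indC_inner hM hz hind (hsE _) (hsE _), hrows.gram_even i (hI i hi) j (hI j hj),
        if_neg (show ¬ (i = g ∧ j = g) by omega)]
      split_ifs <;> norm_num
    · have hi' := Finset.mem_Ico.1 hi
      simp only [hF, hT]
      rw [indC_inner hM hz hind (hsE _) (hsE _), hrows.gram_even i (hI i hi) g hgI,
        if_neg (show i ≠ g by omega), if_neg (show ¬ (i = g ∧ g = g) by omega)]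
      norm_num
    · simp only [hF, hT]
      rw [indC_inner hM hz hind (hsE _) (hsE _), hrows.gram_even g hgI g hgI]
      simp
    · simp only [hO, hT]
      rw [indC_inner hM hz hind (hsE _) (hsE _), hrows.gram_odd i hi j hj]
      split_ifs <;> norm_num
    · simp only [hF, hO, hT]
      rw [indC_inner hM hz hind (hsE _) (hsE _)]
      exact hrows.gram_cross i hi j hj
    · simp only [hU, hT]
      rw [lift_inner hM hz hind hequ hequ, Cd.normu]
  obtain ⟨h4, hle, hmid⟩ := K.counts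
  have hTc : T.card = Nat.card B := by
    rw [hT, Nat.card_eq_fintype_card, Fintype.card_subtype]
  have hzero' : Nat.card {χ : IrrCharacter G // χ ∈ B ∧ blockHeight 2 B (χ : G → ℂ) = 0} = 4 := by
    rw [← h4, Nat.card_eq_fintype_card, Fintype.card_subtype, hT, Finset.filter_filter]
    exact congrArg _ (Finset.filter_congr fun χ _ => and_congr_right fun hχ => hzero χ hχ)
  -- the positive heights
  have hgk' : 2 ≤ g → 1 ≤ k := fun h => by
    rcases k with _ | k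
    · rw [hgk] at h; simp at h
    · omega
  have hclass : ∀ χ ∈ B, ¬ Odd (U χ) →
      (2 ≤ g → U χ ≠ 0 → blockHeight 2 B (χ : G → ℂ) = 1) ∧
      (g = 1 ∨ U χ = 0 → blockHeight 2 B (χ : G → ℂ) = k + 1) := by
    intro χ hχ heven
    have hh0 : blockHeight 2 B (χ : G → ℂ) ≠ 0 := fun h => heven ((hzero χ hχ).1 h)
    have hup : blockHeight 2 B (χ : G → ℂ) ≤ k + 1 := by
      have := height_add_two_le hM hB hχ hh0
      omega
    obtain ⟨r, hr, hro⟩ := contribution_exact hM hz hind hdef hχ hξ hξ0 _ (hcon χ ξ) _ (hcon ξ ξ)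
    set h := blockHeight 2 B (χ : G → ℂ)
    have hWe : ∀ j, (2 : ℤ) ∣ W j χ := fun j => even_iff_two_dvd.1 (Int.not_odd_iff_even.1
      fun ho => heven ((hUpar χ).2 ((hWpar j χ).1 ho)))
    have hdvd : 2 * (g : ℤ) ∣ g * ∑ j, W j χ * W j ξ := by
      rw [mul_comm 2]
      exact mul_dvd_mul_left _ (Finset.dvd_sum fun j _ => (hWe j).mul_right _)
    refine ⟨fun hg2 hU0 => ?_, fun hcase => ?_⟩
    · by_contra h1
      have h2 : 2 ≤ h := by omega
      have hUξ := (hzero ξ hξ).1 hξ0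
      have hU2 := (hmid hg2).2 χ (Finset.mem_filter.2 ⟨Finset.mem_univ _, hχ⟩) heven hU0
      have h4d : (4 : ℤ) ∣ 2 ^ h * r :=
        ((show (4 : ℤ) = 2 ^ 2 by norm_num) ▸ pow_dvd_pow 2 h2).mul_right r
      have h4g : (4 : ℤ) ∣ g * ∑ j, W j χ * W j ξ := by
        refine dvd_trans ?_ hdvd
        obtain ⟨q, hq⟩ : 2 ∣ g := by
          rw [hgk]; exact dvd_pow_self 2 (by have := hgk' hg2; omega)
        exact ⟨q, by rw [hq]; push_cast; ring⟩
      rw [← hr, dvd_add_left h4g] at h4d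
      obtain ⟨q, hq⟩ := hUξ
      rcases hU2 with e | e <;> rw [e, hq] at h4d <;> omega
    · rcases hcase with rfl | hU0
      · have : k = 0 := by
          rcases Nat.eq_zero_or_pos k with h' | h'
          · exact h'
          · exact absurd hgk.symm (Nat.one_lt_two_pow h'.ne').ne'
        omega
      · refine le_antisymm hup ?_
        by_contra hlt
        have hd2 : (2 : ℤ) ^ (k + 1) ∣ 2 ^ h * r := by
          rw [← hr, hU0, zero_mul, zero_add, pow_succ']
          have hg' : (2 : ℤ) ^ k = g := by rw [hgk]; push_cast; rfl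
          rw [hg']
          exact hdvd
        have hd3 : (2 : ℤ) ^ h * 2 ∣ 2 ^ h * r :=
          (pow_succ (2 : ℤ) h ▸ pow_dvd_pow 2 (by omega : h + 1 ≤ k + 1)).trans hd2
        have := (mul_dvd_mul_iff_left (pow_ne_zero h (two_ne_zero : (2 : ℤ) ≠ 0))).1 hd3
        exact Int.not_even_iff_odd.2 hro (even_iff_two_dvd.2 this)
  refine ⟨hTc ▸ hle, fun hg2 => ?_, hzero', fun χ hχ => ?_, fun hg2 => ?_⟩
  · have h := Finset.card_le_card (Finset.union_subset (Finset.filter_subset (fun χ => Odd (U χ)) T)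
      (Finset.filter_subset (fun χ => ¬ Odd (U χ) ∧ U χ ≠ 0) T))
    rw [Finset.card_union_of_disjoint (Finset.disjoint_filter.2 fun _ _ h h' => h'.1 h), h4,
      (hmid hg2).1, hTc] at h
    omega
  · by_cases ho : Odd (U χ)
    · exact Or.inl ((hzero χ hχ).2 ho)
    · by_cases hcase : g = 1 ∨ U χ = 0
      · exact Or.inr (Or.inr ((hclass χ hχ ho).2 hcase))
      · push Not at hcase
        exact Or.inr (Or.inl ((hclass χ hχ ho).1 (by omega) hcase.2))
  · rw [← (hmid hg2).1, Nat.card_eq_fintype_card, Fintype.card_subtype, hT, Finset.filter_filter]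
    refine congrArg _ (Finset.filter_congr fun χ _ => and_congr_right fun hχ => ?_)
    constructor
    · intro h1
      have ho : ¬ Odd (U χ) := fun ho => by
        have := (hzero χ hχ).2 ho
        omega
      refine ⟨ho, fun h0 => ?_⟩
      have := (hclass χ hχ ho).2 (Or.inr h0)
      have := hgk' hg2
      omega
    · rintro ⟨ho, h0⟩
      exact (hclass χ hχ ho).1 hg2 h0

/-- **The invariants of a 2-block with quaternion defect group.** -/
theorem invariants (hM : IsPModular 2 M) {B : Set (IrrCharacter G)} (hB : IsPBlock M B)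
    {D : Subgroup G} (hD : IsDefectGroup 2 M B D) [Fintype D] {σ τ : D} {g k : ℕ}
    (Q : Quat σ τ g) (hgk : g = 2 ^ k) :
    1 ≤ blockRank 2 B ∧ blockRank 2 B ≤ 3 ∧ Nat.card B = blockRank 2 B + 2 * g + 2 ∧
      Nat.card {χ : IrrCharacter G // χ ∈ B ∧ blockHeight 2 B (χ : G → ℂ) = 0} = 4 ∧
      (∀ χ ∈ B, blockHeight 2 B (χ : G → ℂ) = 0 ∨ blockHeight 2 B (χ : G → ℂ) = 1 ∨
        blockHeight 2 B (χ : G → ℂ) = k + 1) ∧
      (2 ≤ g → Nat.card {χ : IrrCharacter G // χ ∈ B ∧ blockHeight 2 B (χ : G → ℂ) = 1} =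
        2 * g - 1) := by
  haveI : Fact (Nat.Prime 2) := ⟨Nat.prime_two⟩
  haveI := charP_res hM
  obtain ⟨z, hzdef⟩ : ∃ z : G, z = ((σ ^ (2 * g) : D) : G) := ⟨_, rfl⟩
  have hz : orderOf z = 2 := hzdef ▸ order_zG Q.axis
  have hDH : D ≤ C⟨Subgroup.zpowers z⟩ := by rw [hzdef]; exact defect_le_C Q.axis
  obtain ⟨c, hc⟩ := exists_pair_of_defect hM hB hD
  have hCH : C⟨D⟩ ≤ C⟨Subgroup.zpowers z⟩ :=
    le_centralizer_of_le (Subgroup.zpowers_le.2 (hzdef ▸ (σ ^ (2 * g) : D).2))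
  obtain ⟨β, hind, hDβ⟩ := exists_block_down hM hD hc.1 hDH hCH
  set P := D.subgroupOf C⟨Subgroup.zpowers z⟩ with hP
  set e : D ≃* P := (Subgroup.subgroupOfEquivOfLe hDH).symm with he
  have QP : Quat (e σ) (e τ) g := Q.map e
  have hψ : ∀ {P' : Type u} [Group P'] [Fintype P'] (e' : P ≃* P'),
      ∃ ψ : ℕ → P' → ℂ, PsiData (e' (e σ)) g ψ := fun e' =>
    ⟨_, (QP.map e').psiData (ζ := Complex.exp (2 * Real.pi * Complex.I / ((2 * (2 * g) : ℕ) : ℂ)))
      (Complex.isPrimitiveRoot_exp _ (by have := Q.pos; omega))⟩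
  have hzP : (((e σ) ^ (2 * g) : P) : C⟨Subgroup.zpowers z⟩) = zc z := by
    rw [← map_pow]
    exact Subtype.ext hzdef.symm
  have hcentre := exists_centre hM hind.1 hDβ QP.axis hψ (hzP ▸ zc_center z)
  rw [hzP] at hcentre
  obtain ⟨E, hrows, Cd, hm2⟩ := hcentre
  have hd : ∀ {K : Type u} [Group K] [Fintype K] {b : Set (IrrCharacter K)} {P' : Subgroup K},
      IsPBlock M b → IsDefectGroup 2 M b P' → Nat.card P' = 8 * g → blockDefect 2 b = k + 3 := by
    intro K _ _ b P' hb hP' hcard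
    refine Nat.pow_right_injective (le_refl 2) ?_
    show 2 ^ blockDefect 2 b = 2 ^ (k + 3)
    rw [← IsDefectGroup.card hM hb hP', hcard, hgk, pow_add]
    ring
  have hcardD : Nat.card D = 8 * g := by rw [Q.dih.card]; ring
  have hdβ : blockDefect 2 β = k + 3 :=
    hd hind.1 hDβ (by rw [← Nat.card_congr e.toEquiv, hcardD])
  have hdB : blockDefect 2 B = k + 3 := hd hB hD hcardD
  have hwit : Cd.m = 0 → ∃ x₀ : IrrCharacter C⟨Subgroup.zpowers z⟩ → ℤ,
      (∀ θ ∈ β, (Odd (x₀ θ) ↔ blockHeight 2 β (θ : C⟨Subgroup.zpowers z⟩ → ℂ) = 0)) ∧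
      ∑ θ ∈ Finset.univ.filter (· ∈ β), x₀ θ * x₀ θ ≤ 8 ∧
      (∀ s ∈ Finset.Icc 1 g, ∑ θ ∈ Finset.univ.filter (· ∈ β), E (2 * s) θ * x₀ θ = 0) ∧
      (∀ s, ∑ θ ∈ Finset.univ.filter (· ∈ β), E (2 * s + 1) θ * x₀ θ = 0) ∧
      DihedralDefect.SuppZ z (comb β x₀) := fun hm => by
    obtain ⟨x₀, hxT, hxpar, hxn, hxe, hxo, hxw⟩ := Cd.kernel hm
    refine ⟨x₀, hxpar, hxn, hxe, hxo, ?_⟩
    intro d hd'
    by_cases hreg : 2 ∣ orderOf d
    swap
    · exact absurd (hxw d hreg) hd'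
    obtain ⟨θ, hθ, hθne⟩ := Finset.exists_ne_zero_of_sum_ne_zero hd'
    obtain ⟨s, ht⟩ := exists_isPPart (p := 2) Nat.prime_two d
    set t := d ^ s with htdef
    have hθd : (θ : C⟨Subgroup.zpowers z⟩ → ℂ) d ≠ 0 := fun h0 => hθne (by rw [h0, mul_zero])
    obtain ⟨D', hD', htD'⟩ : ∃ D', IsDefectGroup 2 M β D' ∧ t ∈ D' := by
      by_contra hno
      push Not at hno
      exact hθd (apply_eq_zero_of_forall_not_mem hM hind.1 (Finset.mem_filter.1 hθ).2 ht hno)
    obtain ⟨a, ha⟩ := IsDefectGroup.exists_eq_conj hM hind.1 hD' hDβ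
    have hmem : MulAut.conj a t ∈ P := ha ▸ ⟨t, htD', rfl⟩
    have hne1 : ((MulAut.conj a t : C⟨Subgroup.zpowers z⟩) : G) ≠ 1 := fun e1 => by
      have e2 : MulAut.conj a t = 1 := Subtype.ext e1
      rw [MulEquiv.map_eq_one_iff] at e2
      rw [e2] at ht
      exact (isPPart_one_iff Nat.prime_two).1 ht hreg
    obtain ⟨j, hj⟩ := Subgroup.mem_zpowers_iff.1 (z_mem_zpowers Q hmem hne1)
    rw [← hzdef, ← map_zpow, ← map_zpow] at hj
    have htj : t ^ j = zc z := by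
      have e1 : MulAut.conj a (t ^ j) = zc z := Subtype.ext hj
      rw [MulAut.conj_apply, mul_inv_eq_iff_eq_mul,
        ← Subgroup.mem_center_iff.1 (zc_center z) a] at e1
      exact mul_left_cancel e1
    obtain ⟨y, hy, hcomm, -, hodd⟩ := ht
    refine Subgroup.mem_zpowers_iff.2 ⟨j * (orderOf y : ℤ), ?_⟩
    rw [← Subgroup.coe_zpow]
    refine congrArg Subtype.val (show d ^ (j * (orderOf y : ℤ)) = zc z from ?_)
    rw [← hy, hcomm.mul_zpow, mul_comm j (orderOf y : ℤ), zpow_mul y, zpow_natCast y,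
      pow_orderOf_eq_one, one_zpow, mul_one, mul_comm (orderOf y : ℤ) j, zpow_mul, htj,
      zpow_natCast]
    obtain ⟨q, hq⟩ := Nat.odd_iff.2 (show orderOf y % 2 = 1 by omega)
    rw [hq, pow_succ, pow_mul, pow_two, zc_sq hz, one_pow, one_mul]
  obtain ⟨hle, -, h4, hh, hone⟩ := core hM hB hz hind hgk hdβ hdB hrows Cd hwit
  have hsub := card_sub_rank_eq hM hB hD Q hzdef hind hDβ
  rw [Cd.rank, Cd.card] at hsub
  push_cast at hsub
  have hpos := blockRank_pos hM hB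
  exact ⟨hpos, by omega, by omega, h4, hh, hone⟩

end Cfsg.Lib.Blocks.QuaternionDefect
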